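import Cfsg.Agent.Lead.Qf1
import Cfsg.Agent.H1.HallTop

/-! Equivariant quadratic action: definitions. -/

set_option autoImplicit false

open Subgroup Cfsg H16 H16.H11 Module

universe u

namespace Lead.Fl

section
variable {k M : Type*} [Field k] [AddCommGroup M] [Module k M]

/-- every minimal quadratic element has an opposite one -/
def EO (G : Subgroup (GLm k M)) : Prop := ∀ s, Mn G s → ∃ t, Mn G t ∧ Opp s t

/-- every quadratic element has a normalized partner -/
def JM (G : Subgroup (GLm k M)) : Prop := ∀ q, QS G q → ∃ t, QS G t ∧ NP q t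

/-- the units commuting with a set of endomorphisms -/
def CE (T : Set (End k M)) : Subgroup (GLm k M) where
  carrier := {g | ∀ x ∈ T, g.1 * x = x * g.1}
  one_mem' := fun x _ => by simp
  mul_mem' := fun {a b} ha hb x hx => by
    rw [Units.val_mul, mul_assoc, hb x hx, ← mul_assoc, ha x hx, mul_assoc]
  inv_mem' := fun {a} ha x hx => by
    rw [Units.inv_mul_eq_iff_eq_mul, ← mul_assoc, ha x hx, Units.mul_inv_cancel_right]

/-- the quadratic elements -/
def QD (k M : Type*) [Field k] [AddCommGroup M] [Module k M] : Set (GLm k M) :=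
  {g | (g.1 - 1) * (g.1 - 1) = 0}

end

/-- no nontrivial normal `p`-subgroup -/
def OP {X : Type*} [Group X] (p : ℕ) (G : Subgroup X) : Prop :=
  ∀ A ≤ G, G ≤ N[A] → IsPGroup p A → A = ⊥

/-- the linear core of the equivariant theorem -/
def Core2 (p : ℕ) [Fact p.Prime] : Prop :=
  ∀ (M : Type u) [AddCommGroup M] [Module (ZMod p) M] [Finite M]
    (Γ K R Q : Subgroup (LinearMap.GeneralLinearGroup (ZMod p) M)), IsIrreducibleFor Γ → K ≤ Γ →
    Γ ≤ N[K] → R ≤ N[K] → (Nat.card R).Coprime (Nat.card K) → (Nat.card R).Coprime p →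
    Group.IsSolvable R → Q ≤ K → IsPGroup p Q → R ≤ N[Q] → K ⊓ C[R] ≤ N[Q] →
    ∀ a ∈ Q, (a.1 - 1) * (a.1 - 1) = 0 → a = 1

end Lead.Fl
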