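import Cfsg.Agent.Lead.St8
import Cfsg.Agent.H27.LBit
/-! Ovals and hyperovals in the projective plane of order 4. -/
set_option autoImplicit false
namespace Lead.St
open Finset Cfsg H27 MulAction Equiv
open scoped Pointwise
variable {α : Type*} [Fintype α] [DecidableEq α]

def mkM (l : List (Fin 21)) : ℕ := l.foldr (fun i x => x ||| 2 ^ (i : ℕ)) 0
theorem testBit_mkM (l : List (Fin 21)) (i : Fin 21) : (mkM l).testBit i = true ↔ i ∈ l := by
  induction l with
  | nil => simp [mkM]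
  | cons a l ih =>
    rw [show mkM (a :: l) = mkM l ||| 2 ^ (a : ℕ) from rfl, Nat.testBit_or, Bool.or_eq_true, ih, Nat.testBit_two_pow]
    simp [Fin.val_inj, eq_comm, or_comm]
def p2 (b x : ℕ) : ℕ := pop24 (Nat.land b x)
def arcB (x : ℕ) : Bool := allL K21 fun b => Nat.ble (p2 b x) 2
def secU (c : ℕ → Bool) (K : List ℕ) : ℕ := K.foldr (fun b u => ite' (c b) (Nat.lor b u) u) 0
theorem testBit_secU (c : ℕ → Bool) (K : List ℕ) (p : ℕ) :
    (secU c K).testBit p = true → ∃ b ∈ K, c b = true ∧ b.testBit p = true := by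
  induction K with
  | nil => simp [secU]
  | cons a l ih =>
    rw [show secU c (a :: l) = ite' (c a) (a ||| secU c l) (secU c l) from rfl, ite'_eq]
    intro h
    split_ifs at h with c
    · rw [Nat.testBit_or, Bool.or_eq_true] at h
      rcases h with h | h
      · exact ⟨a, by simp, c, h⟩
      · obtain ⟨b, hb, e⟩ := ih h; exact ⟨b, by simp [hb], e⟩
    · obtain ⟨b, hb, e⟩ := ih h; exact ⟨b, by simp [hb], e⟩
def ovChk (x : ℕ) : Bool := or' (!arcB x) (force (x ||| (0x1fffff ^^^ secU (fun b => Nat.ble 2 (p2 b x)) K21)) fun h =>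
  and' (Nat.beq (p2 0x1fffff h) 6) (and' (arcB h) (forceL (K21.filter fun b => Nat.ble 2 (p2 b h)) fun K => allN 21 fun p => or' (H27.tb h p)
    (Nat.ble 2 (K.filter fun b => H27.tb b p).length))))
theorem ov_chk : ch (fun l => force (mkM l) ovChk) (List.finRange 21) 4 [] = true := by decide +kernel
theorem ov_cnt : ((List.sublistsLen 4 (List.finRange 21)).filter fun l => force (mkM l) arcB).length = 2520 := by
  decide +kernel
theorem K21_lt : ∀ b ∈ K21, b < 2 ^ 21 := by decide +kernel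

theorem card_p2 (ℓ : α ≃ Fin 21) {b : ℕ} (hb : b < 2 ^ 21) (x : ℕ) : (F ℓ b ∩ F ℓ x).card = p2 b x := by
  rw [p2, pop24_eq]
  refine card_bij (fun a _ => (ℓ a : ℕ)) (fun a ha => ?_) (fun a _ b _ h => ℓ.injective (Fin.ext h)) fun i hi => ?_
  · have := (ℓ a).2
    simpa [show (ℓ a : ℕ) < 24 by omega] using ha
  · simp only [mem_filter, Nat.land_eq, Nat.testBit_and, Bool.and_eq_true] at hi
    have : i < 21 := by
      by_contra h
      rw [Nat.testBit_lt_two_pow (hb.trans_le (Nat.pow_le_pow_right (by norm_num) (by omega)))] at hi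
      simp at hi
    exact ⟨ℓ.symm ⟨i, this⟩, by simpa using hi.2, by simp⟩
omit [DecidableEq α] in
theorem ones21 (i : Fin 21) : (0x1fffff : ℕ).testBit i = true := by revert i; decide
theorem card_F21 (ℓ : α ≃ Fin 21) (x : ℕ) : (F ℓ x).card = p2 0x1fffff x := by
  rw [← card_p2 ℓ (by norm_num)]; congr 1; ext; simp [ones21]
theorem arc_iff {L : Set (Finset α)} {ℓ : α ≃ Fin 21} (h : ∀ c, c ∈ L ↔ ∃ b ∈ K21, F ℓ b = c) (x : ℕ) :
    arcB x = true ↔ ∀ l ∈ L, (l ∩ F ℓ x).card ≤ 2 := by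
  simp only [arcB, allL_iff, Nat.ble_eq, h]
  exact ⟨by rintro a _ ⟨b, hb, rfl⟩; rw [card_p2 ℓ (K21_lt b hb)]; exact a b hb,
    fun a b hb => by rw [← card_p2 ℓ (K21_lt b hb)]; exact a _ ⟨b, hb, rfl⟩⟩

/-- sets meeting each line in at most two points -/
abbrev Arc (L : Set (Finset α)) (k : ℕ) (S : Finset α) : Prop := S.card = k ∧ ∀ l ∈ L, (l ∩ S).card ≤ 2

section
variable (hα : Fintype.card α = 21) {L : Set (Finset α)} (hL : IsSteinerSystem 2 5 L)
include hα hL

theorem oval {S : Finset α} (hS : Arc L 4 S) : ∃ H, (Arc L 6 H ∧ S ⊆ H) ∧ (∀ H', Arc L 6 H' ∧ S ⊆ H' → H' = H) ∧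
    ∀ p ∉ H, ∃ b ∈ L, ∃ c ∈ L, b ≠ c ∧ p ∈ b ∧ p ∈ c ∧ 2 ≤ (b ∩ H).card ∧ 2 ≤ (c ∩ H).card := by
  obtain ⟨ℓ, h⟩ := lab21 hα hL
  have arc := arc_iff h
  obtain ⟨l, -, hl, hf⟩ := enum_all ov_chk (S.map ℓ.toEmbedding) (by rw [card_map, hS.1])
  have e : S = F ℓ (mkM l) := by ext a; simp [testBit_mkM, hl]
  generalize mkM l = x at hf e
  subst e
  simp only [force_eq, ovChk, or'_eq, (arc x).2 hS.2, Bool.not_true, Bool.false_or, and'_eq, Bool.and_eq_true,
    beq_iff, allN_iff, Bool.or_eq_true, tb_eq, Nat.ble_eq, forceL_eq] at hf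
  obtain ⟨h1, h2, h3⟩ := hf
  refine ⟨F ℓ _, ⟨⟨(card_F21 ℓ _).trans h1, (arc _).1 h2⟩, fun a => by simp +contextual⟩, fun H hH => ?_, fun p hp => ?_⟩
  · refine eq_of_subset_of_card_le (fun a ha => ?_) (by rw [card_F21, h1, hH.1.1])
    by_contra hn
    have := ones21 (ℓ a)
    simp only [mem_F, Nat.testBit_or, Nat.testBit_xor, this, Bool.or_eq_true, not_or, Bool.true_xor, Bool.not_eq_true',
      Bool.not_eq_false] at hn
    obtain ⟨b, hb, c1, c2⟩ := testBit_secU _ _ _ hn.2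
    rw [Nat.ble_eq] at c1
    have := card_le_card (show insert a (F ℓ b ∩ F ℓ x) ⊆ F ℓ b ∩ H from
      insert_subset (mem_inter.2 ⟨mem_F.2 c2, ha⟩) (inter_subset_inter_left hH.2))
    rw [card_insert_of_notMem (by simp [hn.1]), card_p2 ℓ (K21_lt b hb)] at this
    have := hH.1.2 _ ((h _).2 ⟨b, hb, rfl⟩)
    omega
  · have := (h3 _ (ℓ p).2).resolve_left (by simpa using hp)
    generalize x ||| (0x1fffff ^^^ secU (fun b => Nat.ble 2 (p2 b x)) K21) = y at this
    have nd : ((K21.filter fun b => Nat.ble 2 (p2 b y)).filter fun b => b.testBit (ℓ p)).Nodup :=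
      (List.Nodup.filter _ (by decide +kernel)).filter _
    rw [← List.toFinset_card_of_nodup nd] at this
    obtain ⟨b, hb, c, hc, hbc⟩ := one_lt_card.1 this
    simp only [List.mem_toFinset, List.mem_filter, Nat.ble_eq] at hb hc
    exact ⟨_, (h _).2 ⟨b, hb.1.1, rfl⟩, _, (h _).2 ⟨c, hc.1.1, rfl⟩,
      fun e => hbc (F_inj ℓ (K21_lt _ hb.1.1) (K21_lt _ hc.1.1) e), mem_F.2 hb.2, mem_F.2 hc.2,
      by rw [card_p2 ℓ (K21_lt _ hb.1.1)]; exact hb.1.2, by rw [card_p2 ℓ (K21_lt _ hc.1.1)]; exact hc.1.2⟩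

theorem ncard_arc4 : {S | Arc L 4 S}.ncard = 2520 := by
  obtain ⟨ℓ, h⟩ := lab21 hα hL
  rw [← ov_cnt, ← List.toFinset_card_of_nodup ((List.nodup_sublistsLen _ (List.nodup_finRange _)).filter _),
    ← Set.ncard_coe_finset]
  have c : ∀ l : List (Fin 21), l.Nodup → (F ℓ (mkM l)).card = l.length := fun l hl => by
    rw [← List.toFinset_card_of_nodup hl, ← card_map ℓ.toEmbedding]; congr 1; ext; simp [testBit_mkM]
  symm
  refine Set.ncard_congr (fun l _ => F ℓ (mkM l)) (fun l hl => ?_) (fun l l' hl hl' e => ?_) fun S hS => ?_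
  · simp only [mem_coe, List.mem_toFinset, List.mem_filter, List.mem_sublistsLen, force_eq] at hl
    exact ⟨(c l ((List.nodup_finRange _).sublist hl.1.1)).trans hl.1.2, (arc_iff h _).1 hl.2⟩
  · simp only [mem_coe, List.mem_toFinset, List.mem_filter, List.mem_sublistsLen] at hl hl'
    refine List.Perm.eq_of_pairwise' (r := (· ≤ ·)) ((List.pairwise_le_finRange _).sublist hl.1.1)
      ((List.pairwise_le_finRange _).sublist hl'.1.1) ((List.perm_ext_iff_of_nodup
      ((List.nodup_finRange _).sublist hl.1.1) ((List.nodup_finRange _).sublist hl'.1.1)).2 fun i => ?_)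
    simpa [testBit_mkM] using congrArg (ℓ.symm i ∈ ·) e
  · have e : F ℓ (mkM ((List.finRange 21).filter fun i => ℓ.symm i ∈ S)) = S := by ext; simp [testBit_mkM]
    refine ⟨_, ?_, e⟩
    simp only [mem_coe, List.mem_toFinset, List.mem_filter, List.mem_sublistsLen, force_eq]
    exact ⟨⟨List.filter_sublist, by rw [← c _ ((List.nodup_finRange _).filter _), e, hS.1]⟩,
      (arc_iff h _).2 (e.symm ▸ hS.2)⟩

omit hα hL [Fintype α] in
theorem Arc.sub {k j : ℕ} {H S : Finset α} (hH : Arc L k H) (h : S ⊆ H) (hS : S.card = j) : Arc L j S :=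
  ⟨hS, fun l hl => (card_le_card (inter_subset_inter_left h)).trans (hH.2 l hl)⟩

theorem ncard_arc6 : {S | Arc L 6 S}.ncard = 168 := by
  classical
  have a := ncard_arc4 hα hL
  have := card_mul_eq_card_mul (s := univ.filter (Arc L 4)) (t := univ.filter (Arc L 6)) (fun S H => S ⊆ H)
    (m := 1) (n := 15) (fun S hS => by
      obtain ⟨H, h1, h2, -⟩ := oval hα hL (mem_filter.1 hS).2
      exact card_eq_one.2 ⟨H, eq_singleton_iff_unique_mem.2 ⟨by simpa using h1, fun H' h => h2 H' (by simpa using h)⟩⟩)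
    fun H hH => by
      have hH := (mem_filter.1 hH).2
      rw [show bipartiteBelow (fun S H => S ⊆ H) (univ.filter (Arc L 4)) H = powersetCard 4 H by
        ext S
        simp only [mem_bipartiteBelow, mem_filter, mem_univ, true_and, mem_powersetCard]
        exact ⟨fun h => ⟨h.2, h.1.1⟩, fun h => ⟨hH.sub h.1 h.2, h.1⟩⟩, card_powersetCard, hH.1]
      rfl
  rw [← Set.ncard_coe_finset, ← Set.ncard_coe_finset, coe_filter, coe_filter] at this
  simp only [mem_univ, true_and] at this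
  omega

theorem hyper_rigid {H : Finset α} (hH : Arc L 6 H) {g : Perm α} (hg : g ∈ setSystemAut L) (h : ∀ p ∈ H, g p = p) :
    g = 1 := by
  obtain ⟨S, hS, h4⟩ := exists_subset_card_eq (show 4 ≤ H.card by rw [hH.1]; norm_num)
  obtain ⟨H', -, h2, h3⟩ := oval hα hL (hH.sub hS h4)
  obtain rfl := h2 H ⟨hH, hS⟩
  have fx : ∀ b ∈ L, 2 ≤ (b ∩ H).card → g • b = b := fun b hb c =>
    eq_of_card_inter hL (smul_mem_of_aut hg hb) hb (c.trans (card_le_card fun p hp => by
      rw [mem_inter] at hp ⊢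
      exact ⟨h p hp.2 ▸ smul_mem_smul_finset (a := g) hp.1, hp.1⟩))
  ext p
  by_cases hp : p ∈ H
  · exact h p hp
  obtain ⟨b, hb, c, hc, n, p1, p2, c1, c2⟩ := h3 p hp
  exact card_le_one.1 (Nat.lt_succ_iff.1 (inter_lt hL hb hc n)) _
    (mem_inter.2 ⟨fx b hb c1 ▸ smul_mem_smul_finset (a := g) p1, fx c hc c2 ▸ smul_mem_smul_finset (a := g) p2⟩) _
    (mem_inter.2 ⟨p1, p2⟩)

theorem card_aut21 : 120960 ≤ Nat.card (setSystemAut L) := by
  obtain ⟨ℓ, h⟩ := gol21 hα hL
  have hX : (XX 21).card = 3 := by decide +kernel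
  have a : ∀ g : stabilizer MM (XX 21), ∃ σ : setSystemAut L, Ind (phi (by decide) ℓ) g σ := fun g => by
    obtain ⟨σ, hσ⟩ := exists_ind_XX (hn := by decide) (ℓ := ℓ) g.2
    exact ⟨⟨σ, mem_aut hL (by rw [hX]) (by norm_num) (phi_notMem _ ℓ) (hO_ext h) g.2 hσ⟩, hσ⟩
  choose f hf using a
  have b := Nat.card_le_card_of_injective f fun g g' e => Subtype.ext (by
    have := (hf g).mul (hf g').inv
    rw [e, mul_inv_cancel] at this
    exact mul_inv_eq_one.1 (ind_one le_rfl this))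
  have c := card_eq_orbit_mul_top (G := MM) (XX 21)
  have d : (orbit MM (XX 21)).ncard ≤ 2024 := by
    have := Set.ncard_le_ncard (s := orbit MM (XX 21)) (t := powersetCard 3 (univ : Finset GolayPt)) (by
      rintro _ ⟨g, rfl⟩; simp [hX])
    rwa [Set.ncard_coe_finset, card_powersetCard, card_univ, card_pt] at this
  rw [card_MM] at c
  have := Nat.mul_le_mul d b
  omega

theorem hyper_ext {H : Finset α} (hH : Arc L 6 H) (σ : Perm H) : ∃ g ∈ setSystemAut L, ∀ p : H, g p = σ p := by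
  let A := setSystemAut L ⊓ stabilizer (Perm α) H
  have a : 720 ≤ Nat.card A := by
    have c := card_eq_orbit_mul (setSystemAut L) H
    have d : (orbit (setSystemAut L) H).ncard ≤ 168 := by
      rw [← ncard_arc6 hα hL]
      refine Set.ncard_le_ncard ?_
      rintro _ ⟨g, rfl⟩
      refine ⟨(card_smul_finset _ _).trans hH.1, fun l hl => ?_⟩
      have := hH.2 _ (smul_mem_of_aut (inv_mem g.2) hl)
      rwa [← card_smul_finset (g : Perm α), smul_finset_inter, smul_inv_smul] at this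
    have := card_aut21 hα hL
    have := Nat.mul_le_mul_right (Nat.card A) d
    change _ = _ * Nat.card A at c
    omega
  let f : A → Perm H := fun g => g.1.subtypePerm fun p => by
    conv_lhs => rw [← show g.1 • H = H from g.2.2]
    exact smul_mem_smul_finset_iff g.1
  have fi : Function.Injective f := fun g g' e => Subtype.ext (by
    refine (inv_mul_eq_one.1 (hyper_rigid hα hL hH (mul_mem (inv_mem g'.2.1) g.2.1) fun p hp => ?_)).symm
    have := congrArg Subtype.val (DFunLike.congr_fun e ⟨p, hp⟩)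
    exact Perm.inv_eq_iff_eq.2 this)
  obtain ⟨g, rfl⟩ := (fi.bijective_of_nat_card_le (by
    rw [Nat.card_perm, Nat.card_eq_fintype_card, Fintype.card_coe, hH.1]; exact a)).2 σ
  exact ⟨g, g.2.1, fun _ => rfl⟩
end

end Lead.St
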