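import Mathlib
import Cfsg.Agent.H10.Spe

/-! Sections of groups with a torus controlling fusion. -/

set_option autoImplicit false

namespace Lead.AS
open Subgroup

variable {G : Type*} [Group G]

theorem conj_into [Finite G] {p : ℕ} [Fact p.Prime] {L : Subgroup G} (P : Sylow p L) {Y : Subgroup G}
    (hY : IsPGroup p Y) (hle : Y ≤ L) : ∃ l ∈ L, ∀ y ∈ Y, l * y * l⁻¹ ∈ (P : Subgroup L).map L.subtype := by
  obtain ⟨P', hP'⟩ := (hY.comap_subtype (K := L)).exists_le_sylow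
  obtain ⟨l, hl⟩ := MulAction.exists_smul_eq L P' P
  refine ⟨l, l.2, fun y hy => ⟨l * ⟨y, hle hy⟩ * l⁻¹, ?_, rfl⟩⟩
  rw [← hl]
  exact smul_mem_pointwise_smul _ (MulAut.conj l) _ (hP' hy)

theorem conj_into_T [Finite G] {p : ℕ} [hp : Fact p.Prime] {T C Y : Subgroup G} (hT : ¬ p ∣ T.index) (hTC : T ≤ C)
    (hY : IsPGroup p Y) (hle : Y ≤ C) : ∃ c ∈ C, ∀ y ∈ Y, c * y * c⁻¹ ∈ T := by
  obtain ⟨P0⟩ : Nonempty (Sylow p T) := inferInstance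
  have h0 : IsPGroup p ((P0 : Subgroup T).map T.subtype) := P0.isPGroup'.map _
  obtain ⟨P, hP⟩ := (h0.comap_subtype (K := C)).exists_le_sylow
  obtain ⟨S, hS⟩ := (P.isPGroup'.map C.subtype).exists_le_sylow
  have h1 : (P0 : Subgroup T).map T.subtype ≤ (P : Subgroup C).map C.subtype := fun x hx =>
    ⟨⟨x, hTC (map_subtype_le _ hx)⟩, hP hx, rfl⟩
  have h2 : Nat.card ((P0 : Subgroup T).map T.subtype) = Nat.card S := by
    rw [card_map_of_injective T.subtype_injective, P0.card_eq_multiplicity, S.card_eq_multiplicity,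
      ← T.card_mul_index, Nat.factorization_mul Nat.card_pos.ne' T.index_ne_zero_of_finite, Finsupp.add_apply,
      Nat.factorization_eq_zero_of_not_dvd hT, add_zero]
  have h3 := eq_of_le_of_card_ge (h1.trans hS) h2.ge
  obtain ⟨c, hc, h⟩ := conj_into P hY hle
  exact ⟨c, hc, fun y hy => map_subtype_le _ (h3 ▸ hS (h y hy))⟩

theorem mem_norm_of [Finite G] {R : Subgroup G} {g : G} (h : ∀ x ∈ R, g * x * g⁻¹ ∈ R) :
    g ∈ normalizer (R : Set G) := mem_normalizer_fintype h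

theorem lift {X A : Type*} [Group X] [Finite X] [Group A] (f : X →* A) {p : ℕ} [Fact p.Prime]
    {M : Subgroup X} {Q : Subgroup A} (hQ : IsPGroup p Q) (hle : Q ≤ M.map f) :
    ∃ R : Subgroup X, R ≤ M ∧ IsPGroup p R ∧ R.map f = Q ∧
      ∀ γ ∈ M.map f, γ ∈ normalizer (Q : Set A) → ∃ g ∈ M, (∀ x ∈ R, g * x * g⁻¹ ∈ R) ∧ f g = γ := by
  obtain ⟨B, hB1, hB2, hB3⟩ := H10.exists_pgroup_map_eq f hQ hle
  set L := M ⊓ Q.comap f
  have hBL : B ≤ L := le_inf hB1 (map_le_iff_le_comap.1 hB3.le)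
  obtain ⟨P, hP⟩ := (hB2.comap_subtype (K := L)).exists_le_sylow
  have hR : ((P : Subgroup L).map L.subtype).map f = Q := le_antisymm
    (map_le_iff_le_comap.2 ((map_subtype_le _).trans inf_le_right))
    (hB3 ▸ map_mono fun x hx => ⟨⟨x, hBL hx⟩, hP hx, rfl⟩)
  refine ⟨(P : Subgroup L).map L.subtype, (map_subtype_le _).trans inf_le_left, P.isPGroup'.map _, hR, ?_⟩
  rintro _ ⟨g0, hg0, rfl⟩ hγ
  obtain ⟨l, hl, h⟩ := conj_into P (Y := ((P : Subgroup L).map L.subtype).map (MulAut.conj g0).toMonoidHom)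
    ((P.isPGroup'.map _).map _) (by
      rintro _ ⟨x, hx, rfl⟩
      have hx' := map_subtype_le _ hx
      refine ⟨M.mul_mem (M.mul_mem hg0 hx'.1) (M.inv_mem hg0), ?_⟩
      have := (mem_normalizer_iff.1 hγ (f x)).1 hx'.2
      simpa using this)
  obtain ⟨r, hr, hrl⟩ : f l ∈ ((P : Subgroup L).map L.subtype).map f := hR ▸ hl.2
  refine ⟨r⁻¹ * l * g0, M.mul_mem (M.mul_mem (M.inv_mem (map_subtype_le _ hr).1) hl.1) hg0, fun x hx => ?_,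
    by simp [hrl]⟩
  have := h _ ⟨x, hx, rfl⟩
  have e : r⁻¹ * l * g0 * x * (r⁻¹ * l * g0)⁻¹ = r⁻¹ * (l * (g0 * x * g0⁻¹) * l⁻¹) * r := by group
  rw [e]
  exact mul_mem (mul_mem (inv_mem hr) this) hr

/-- fusion in `T` is controlled by elements a power of which acts as `x ↦ x ^ ε`. -/
def Ctl (T : Subgroup G) (L : List (ℕ × ℤ)) : Prop :=
  ∀ g : G, ∃ n : G, (∀ x ∈ T, g * x * g⁻¹ ∈ T → g * x * g⁻¹ = n * x * n⁻¹) ∧
    ∃ a ∈ L, ∀ x ∈ T, n ^ a.1 * x * (n ^ a.1)⁻¹ = x ^ a.2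

theorem Ctl.act {T : Subgroup G} {L : List (ℕ × ℤ)} (h : Ctl T L) {Y : Set G} {c g : G}
    (hc : ∀ y ∈ Y, c * y * c⁻¹ ∈ T) (hg : ∀ y ∈ Y, g * y * g⁻¹ ∈ Y) :
    ∃ a ∈ L, ∀ y ∈ Y, g ^ a.1 * y * (g ^ a.1)⁻¹ = y ^ a.2 := by
  obtain ⟨n, h1, a, ha, h2⟩ := h (c * g * c⁻¹)
  have key : ∀ j : ℕ, ∀ y ∈ Y, g ^ j * y * (g ^ j)⁻¹ ∈ Y ∧
      c * (g ^ j * y * (g ^ j)⁻¹) * c⁻¹ = n ^ j * (c * y * c⁻¹) * (n ^ j)⁻¹ := by
    intro j y hy
    induction j with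
    | zero => simpa using hy
    | succ j ih =>
      have e : g ^ (j + 1) * y * (g ^ (j + 1))⁻¹ = g * (g ^ j * y * (g ^ j)⁻¹) * g⁻¹ := by group
      have h3 := h1 _ (hc _ ih.1) (by
        have := hc _ (hg _ ih.1)
        convert this using 1; group)
      refine ⟨e ▸ hg _ ih.1, ?_⟩
      rw [e, show c * (g * (g ^ j * y * (g ^ j)⁻¹) * g⁻¹) * c⁻¹ =
        c * g * c⁻¹ * (c * (g ^ j * y * (g ^ j)⁻¹) * c⁻¹) * (c * g * c⁻¹)⁻¹ by group, h3, ih.2]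
      group
  refine ⟨a, ha, fun y hy => ?_⟩
  have := (key a.1 y hy).2
  rw [h2 _ (hc y hy), conj_zpow] at this
  simpa using this

theorem pow_conj {A : Type*} [Group A] {c γ : A} {b : ℕ} (h : γ * c * γ⁻¹ = c ^ b) (j : ℕ) :
    γ ^ j * c * (γ ^ j)⁻¹ = c ^ b ^ j := by
  induction j with
  | zero => simp
  | succ j ih =>
    rw [show γ ^ (j + 1) * c * (γ ^ (j + 1))⁻¹ = γ * (γ ^ j * c * (γ ^ j)⁻¹) * γ⁻¹ by group, ih, ← conj_pow, h,
      ← pow_mul, pow_succ']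

theorem norm_zp {A : Type*} [Group A] [Finite A] {c γ : A} {b : ℕ} (h : γ * c * γ⁻¹ = c ^ b) :
    γ ∈ normalizer ((zpowers c : Subgroup A) : Set A) := mem_norm_of <| by
  rintro _ ⟨k, rfl⟩
  exact ⟨b * k, by rw [← conj_zpow, h, ← zpow_natCast, ← zpow_mul]⟩

theorem pgroup_zp {A : Type*} [Group A] {c : A} {s : ℕ} (h : c ^ s = 1) : IsPGroup s (zpowers c) := by
  rintro ⟨_, k, rfl⟩
  refine ⟨1, Subtype.ext ?_⟩
  change (c ^ k) ^ s ^ 1 = 1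
  rw [pow_one, ← zpow_natCast, ← zpow_mul, mul_comm, zpow_mul, zpow_natCast, h, one_zpow]

/-- one prime -/
theorem Ctl.sec1 [Finite G] {T : Subgroup G} {L : List (ℕ × ℤ)} (h : Ctl T L) {s : ℕ} [Fact s.Prime]
    (hT : ¬ s ∣ T.index) {A : Type*} [Group A] {H : Subgroup G} (f : H →* A) (hf : Function.Surjective f)
    {c γ : A} {b : ℕ} (hc : c ^ s = 1) (hγ : γ * c * γ⁻¹ = c ^ b) : ∃ a ∈ L, c ^ b ^ a.1 = c ^ a.2 := by
  haveI : Finite A := Finite.of_surjective f hf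
  have ht : (⊤ : Subgroup H).map f = ⊤ := map_top_of_surjective f hf
  obtain ⟨R, -, h1, h2, h3⟩ := lift f (M := ⊤) (pgroup_zp hc) (ht ▸ le_top)
  obtain ⟨g, -, hg, rfl⟩ := h3 γ (ht ▸ mem_top _) (norm_zp hγ)
  obtain ⟨d, -, hd⟩ := conj_into_T hT le_top (h1.map H.subtype) le_top
  obtain ⟨a, ha, h4⟩ := h.act (Y := R.map H.subtype) (g := g) hd (by
    rintro _ ⟨x, hx, rfl⟩; exact ⟨_, hg x hx, rfl⟩)
  obtain ⟨x, hx, rfl⟩ : c ∈ R.map f := h2 ▸ mem_zpowers c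
  refine ⟨a, ha, ?_⟩
  have : g ^ a.1 * x * (g ^ a.1)⁻¹ = x ^ a.2 := Subtype.ext (by simpa using h4 _ ⟨x, hx, rfl⟩)
  rw [← pow_conj hγ, ← map_zpow, ← this]; simp

/-- two primes -/
theorem Ctl.sec2 [Finite G] {T : Subgroup G} {L : List (ℕ × ℤ)} (h : Ctl T L) (hab : ∀ x ∈ T, ∀ y ∈ T, x * y = y * x)
    {s t : ℕ} [Fact s.Prime] [Fact t.Prime] (hL : ∀ a ∈ L, (2 * a.1).Coprime t ∧ a.2 * a.2 = 1)
    (hT : ¬ s ∣ T.index) (hT' : ¬ t ∣ T.index) {A : Type*} [Group A] {H : Subgroup G} (f : H →* A)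
    (hf : Function.Surjective f) {c d γ : A} {b b' : ℕ} (hc : c ^ s = 1) (hd : d ^ t = 1) (hcd : d * c * d⁻¹ = c ^ 1)
    (hγ : γ * c * γ⁻¹ = c ^ b) (hγ' : γ * d * γ⁻¹ = d ^ b') :
    ∃ a ∈ L, c ^ b ^ a.1 = c ^ a.2 ∧ d ^ b' ^ a.1 = d ^ a.2 := by
  haveI : Finite A := Finite.of_surjective f hf
  have ht : (⊤ : Subgroup H).map f = ⊤ := map_top_of_surjective f hf
  obtain ⟨R, -, h1, h2, h3⟩ := lift f (M := ⊤) (pgroup_zp hc) (ht ▸ le_top)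
  have hN : ∀ δ ∈ normalizer ((zpowers c : Subgroup A) : Set A), δ ∈ (normalizer (R : Set H)).map f := fun δ hδ => by
    obtain ⟨g, -, hg, rfl⟩ := h3 δ (ht ▸ mem_top _) hδ
    exact ⟨g, mem_norm_of hg, rfl⟩
  obtain ⟨R', hR', h1', h2', h3'⟩ := lift f (M := normalizer (R : Set H)) (pgroup_zp hd)
    ((zpowers_le.2 (norm_zp hcd)).trans hN)
  obtain ⟨g, hg, hg', rfl⟩ := h3' γ (hN _ (norm_zp hγ)) (norm_zp hγ')
  obtain ⟨u, -, hu⟩ := conj_into_T hT le_top (h1.map H.subtype) le_top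
  have hcomm : ∀ y ∈ R', ∀ x ∈ R, (y : G) * x = x * y := fun y hy x hx => by
    obtain ⟨a, ha, h4⟩ := h.act (Y := R.map H.subtype) (g := y) hu (by
      rintro _ ⟨x, hx, rfl⟩; exact ⟨_, (mem_normalizer_iff.1 (hR' hy) x).1 hx, rfl⟩)
    have h5 : (y : G) ^ (2 * a.1) ∈ centralizer {(x : G)} := by
      rw [mem_centralizer_singleton_iff, ← mul_inv_eq_iff_eq_mul]
      have e1 := h4 _ ⟨x, hx, rfl⟩
      rw [show (y : G) ^ (2 * a.1) * x * ((y : G) ^ (2 * a.1))⁻¹ =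
        (y : G) ^ a.1 * ((y : G) ^ a.1 * x * ((y : G) ^ a.1)⁻¹) * ((y : G) ^ a.1)⁻¹ by group]
      erw [e1, ← conj_zpow, e1]
      rw [← zpow_mul, (hL a ha).2, zpow_one]; rfl
    obtain ⟨k, hk⟩ := h1' ⟨y, hy⟩
    have h6 : (y : G) ^ t ^ k = 1 := by simpa using congrArg (fun z : R' => ((z : H) : G)) hk
    obtain ⟨m, hm⟩ := exists_pow_eq_self_of_coprime (x := (y : G)) (n := 2 * a.1)
      (((hL a ha).1.pow_right k).coprime_dvd_right (orderOf_dvd_of_pow_eq_one h6))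
    exact mem_centralizer_singleton_iff.1 (hm ▸ pow_mem h5 m)
  obtain ⟨v, hv, hv'⟩ := conj_into_T (p := t) hT'
    (C := centralizer (((R.map H.subtype).map (MulAut.conj u).toMonoidHom : Subgroup G) : Set G))
    (Y := (R'.map H.subtype).map (MulAut.conj u).toMonoidHom)
    (fun x hx => by
      rintro _ ⟨y, hy, rfl⟩; exact hab _ (hu y hy) _ hx)
    ((h1'.map _).map _) (by
      rintro _ ⟨_, ⟨y, hy, rfl⟩, rfl⟩ _ ⟨_, ⟨x, hx, rfl⟩, rfl⟩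
      have := hcomm y hy x hx
      simp only [MulEquiv.toMonoidHom_eq_coe, MonoidHom.coe_coe, MulAut.conj_apply, coe_subtype]
      rw [show u * (x : G) * u⁻¹ * (u * y * u⁻¹) = u * (x * y) * u⁻¹ by group, ← this]; group)
  obtain ⟨a, ha, h4⟩ := h.act (Y := (R.map H.subtype : Set G) ∪ R'.map H.subtype) (g := g) (c := v * u) (by
    rintro y (hy | hy)
    · have := hv _ ⟨y, hy, rfl⟩
      simp only [MulEquiv.toMonoidHom_eq_coe, MonoidHom.coe_coe, MulAut.conj_apply] at this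
      rw [show v * u * y * (v * u)⁻¹ = v * (u * y * u⁻¹) * v⁻¹ by group, ← this, mul_inv_cancel_right]
      exact hu y hy
    · have := hv' _ ⟨y, hy, rfl⟩
      convert this using 1
      simp only [MulEquiv.toMonoidHom_eq_coe, MonoidHom.coe_coe, MulAut.conj_apply]; group) (by
    rintro _ (⟨x, hx, rfl⟩ | ⟨x, hx, rfl⟩)
    · exact Or.inl ⟨_, (mem_normalizer_iff.1 hg x).1 hx, rfl⟩
    · exact Or.inr ⟨_, hg' x hx, rfl⟩)
  obtain ⟨x, hx, rfl⟩ : c ∈ R.map f := h2 ▸ mem_zpowers c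
  obtain ⟨y, hy, rfl⟩ : d ∈ R'.map f := h2' ▸ mem_zpowers d
  have e1 : g ^ a.1 * x * (g ^ a.1)⁻¹ = x ^ a.2 := Subtype.ext (by simpa using h4 _ (Or.inl ⟨x, hx, rfl⟩))
  have e2 : g ^ a.1 * y * (g ^ a.1)⁻¹ = y ^ a.2 := Subtype.ext (by simpa using h4 _ (Or.inr ⟨y, hy, rfl⟩))
  refine ⟨a, ha, ?_, ?_⟩
  · rw [← pow_conj hγ, ← map_zpow, ← e1]; simp
  · rw [← pow_conj hγ', ← map_zpow, ← e2]; simp

end Lead.AS
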