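import Cfsg.Agent.Lead.Fl0

/-! Quadratic pairs under the weaker hypothesis that opposite elements exist. -/

set_option autoImplicit false
set_option linter.unusedSectionVars false
set_option linter.unusedSimpArgs false

open Subgroup Cfsg H16 Module Polynomial H4 Cfsg.IsRankOnePair Lead.Fl
open scoped commutatorElement MatrixGroups

namespace H16.H11

variable {k M : Type*} [Field k] [AddCommGroup M] [Module k M] {G A B L N : Subgroup (GLm k M)}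
  {s s' s'' t t' q u v w x y : End k M} {g a b c : GLm k M} {m : M}

variable [FiniteDimensional k M] (hk2 : ringChar k ≠ 2) (hk3 : Nat.card k ≠ 3)
include hk2 hk3

theorem exists_npE (hG : EO G) (hs : Mn G s) : ∃ t, Mn G t ∧ NP s t := by
  obtain ⟨t, ht, h⟩ := hG _ hs
  obtain ⟨t', h1, h2, h3⟩ := h.symm.np hk2 hk3 ht hs
  exact ⟨t', ht.of_mem h1 h2, h3.symm⟩

theorem Nl.fr_eqE (hG : EO G) (h : Nl s t) (hs : Mn G s) (ht : Mn G t) (h0 : s * t - t * s ≠ 0) :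
    finrank k (ES G (s * t - t * s)) ≤ finrank k (ES G t) := by
  have hx := h.mn hk2 hs ht h0
  obtain ⟨u, hu, hn⟩ := exists_npE hk2 hk3 hG hx
  have xs : (s * t - t * s) * s = 0 := by simp [sub_mul, mul_assoc, h.1, hs.qs.1]
  have sx : s * (s * t - t * s) = 0 := by simp [mul_sub, h.1, mul_mul_zero hs.qs.1]
  have xt : (s * t - t * s) * t = 0 := by simp [sub_mul, mul_assoc, h.2, ht.qs.1]
  have tx : t * (s * t - t * s) = 0 := by simp [mul_sub, h.2, mul_mul_zero ht.qs.1]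
  have h0' : t * s - s * t ≠ 0 := fun e => h0 (by rw [← neg_sub, e, neg_zero])
  obtain ⟨a, a1, -, a2⟩ := hn.grade hk2 hk3 hx hu hs xs sx fun m hm => h.map_ker hk2 hs ht h0 hm
  obtain ⟨b, b1, -, b2⟩ := hn.grade hk2 hk3 hx hu ht xt tx fun m hm => by
    have := h.symm.map_ker hk2 ht hs h0' (m := m) (by rw [← neg_sub, LinearMap.neg_apply, hm, neg_zero])
    rwa [← neg_sub, LinearMap.range_neg] at this
  have c1 := ES_left a1 xs; have c2 := ES_left a1 xt; have c3 := ES_left b1 xs; have c4 := ES_left b1 xt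
  have d1 := ES_right a1 sx; have d2 := ES_right a1 tx; have d3 := ES_right b1 sx; have d4 := ES_right b1 tx
  have e1 : (s - a) * (t - b) = s * t := by simp [mul_sub, sub_mul, c2, d3, ES_mul a1 b1]
  have e2 : (t - b) * (s - a) = t * s := by simp [mul_sub, sub_mul, c3, d2, ES_mul b1 a1]
  obtain ⟨a3, a4⟩ := a2 fun e => h0 (by rw [← e1, ← e2, e]; simp)
  obtain ⟨b3, b4⟩ := b2 fun e => h0 (by rw [← e1, ← e2, e]; simp)
  have n1 : Nl (t - b) (s - a) := nl_of hk2 hk3 b3 a3 (by rw [e1, sub_mul, h.2, mul_mul_zero c3, sub_zero])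
  have e3 : (t - b) * (s - a) - (s - a) * (t - b) = -(s * t - t * s) := by rw [e1, e2, neg_sub]
  obtain ⟨c, c5, c6⟩ := n1.surj_of hk2 hk3 b3 a3 (e3 ▸ neg_ne_zero.2 h0) (y := -b) (by rwa [e3, ES_neg])
    (by rw [e3, ES_neg]; exact neg_mem b1)
  have e4 : (ex c c5.1.1).1 * (t - b) * (ex c c5.1.1)⁻¹.1 = t := by
    change (1 + c) * (t - b) * (1 - c) = t
    have := n1.symm.word hk2 hk3 a3 b3 c5 b3.qs.mem c5
    generalize ht' : t - b = t' at *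
    rw [← sub_add_cancel t b, ht', ← neg_neg b, ← c6, add_mul, one_mul, mul_sub, mul_one, add_mul, mul_assoc, this]
    abel
  rw [← e4, fr_conj (RG_le (ex_mem c5))]
  rwa [e4]

theorem Nl.surjE (hG : EO G) (h : Nl s t) (hs : Mn G s) (ht : Mn G t) (h0 : s * t - t * s ≠ 0) (h1 : s' ∈ ES G s)
    (s0 : s' ≠ 0) (hy : y ∈ ES G (s * t - t * s)) : ∃ t' ∈ ES G t, s' * t' - t' * s' = y := by
  have h2 := h.congr hk2 hk3 hs ht h1 ht.qs.mem
  have h3 := h.br_ne hk2 hk3 hs ht h0 h1 s0 ht.qs.mem ht.ne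
  refine h2.surj_of hk2 hk3 (hs.of_mem h1 s0) ht h3 (h2.fr_eqE hk2 hk3 hG (hs.of_mem h1 s0) ht h3) ?_
  rwa [(h.mn hk2 hs ht h0).ES_eq (h.br_mem hk2 hk3 hs ht h0 h1 ht.qs.mem) h3]

section
variable (h : Nl s t) (hs : Mn G s) (ht : Mn G t) (h0 : s * t - t * s ≠ 0)
include h hs ht h0

variable (hG : EO G)
include hG

theorem Nl.exrE (ha : a ∈ RG G s) (a1 : a ≠ 1) (hc : c ∈ RG G (s * t - t * s)) : ∃ b ∈ RG G t, ⁅a, b⁆ = c := by
  obtain ⟨t', h1, e⟩ := h.surjE hk2 hk3 hG hs ht h0 ha (sub_ne a1) hc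
  have hb := ex_mem h1
  exact ⟨_, hb, Units.ext (sub_left_inj.1 (by rw [comm_val ha.1.1 hb.1.1 (h.congr hk2 hk3 hs ht ha hb), ex_val, e]))⟩

theorem Nl.comm_eqE : ⁅RG G s, RG G t⁆ = RG G (s * t - t * s) := (h.comm_le hk2 hk3 hs ht h0).antisymm fun c hc => by
  obtain ⟨b, hb, rfl⟩ := h.exrE hk2 hk3 hs ht h0 hG (ex_mem hs.qs.mem) (ex_ne _ hs.ne) hc
  exact commutator_mem_commutator (ex_mem hs.qs.mem) hb

theorem Nl.ccE : CC (quadraticRootSubgroups G) (RG G s) (RG G t) := by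
  have e := h.comm_eqE hk2 hk3 hs ht h0 hG
  refine ⟨e ▸ (h.mn hk2 hs ht h0).sigma, e ▸ cent_of_ann (h.xs hs.qs.1) (h.sx hs.qs.1),
    e ▸ cent_of_ann (h.xt ht.qs.1) (h.tx ht.qs.1), fun a ha a1 c hc => h.exrE hk2 hk3 hs ht h0 hG ha a1 (e ▸ hc),
    fun b hb b1 c hc => ?_⟩
  obtain ⟨a, ha, e⟩ := h.symm.exrE hk2 hk3 ht hs (br_ne_symm h0) hG hb b1 (c := c⁻¹) (by
    rw [← h.symm.comm_eqE hk2 hk3 ht hs (br_ne_symm h0) hG, commutator_comm]; exact inv_mem hc)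
  exact ⟨a, ha, by rw [← commutatorElement_inv, e, inv_inv]⟩

end

theorem sigma_pairE (hG : EO G) (hA : A ∈ quadraticRootSubgroups G) (hB : B ∈ quadraticRootSubgroups G) :
    A ≤ C[B] ∨ IsRankOnePair A B ∨ CC (quadraticRootSubgroups G) A B := by
  obtain ⟨s, hs, rfl⟩ := mem_sigma.1 hA
  obtain ⟨t, ht, rfl⟩ := mem_sigma.1 hB
  exact (tri hk2 hk3 hs ht).imp_right (Or.imp (·.rank hk2 hk3 hs ht) fun h => h.1.ccE hk2 hk3 hs ht h.2 hG)

theorem sigma_rootE (hG : EO G) :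
    IsRootSubgroupSet (sub (quadraticRootSubgroups G) (⨆ B ∈ quadraticRootSubgroups G, B)) :=
  root_sub (fun A hA => by obtain ⟨s, hs, rfl⟩ := mem_sigma.1 hA; exact RG_comm)
    (fun A hA => by obtain ⟨s, hs, rfl⟩ := mem_sigma.1 hA; exact hs.RG_ne)
    (fun A hA g hg => sigma_cj hA ((iSup₂_le fun _ => sigma_le : _ ≤ G) hg)) fun _ hA _ hB => sigma_pairE hk2 hk3 hG hA hB

theorem sigma_niE (hG : EO G) (hA : A ∈ quadraticRootSubgroups G) : NI (quadraticRootSubgroups G) A := by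
  obtain ⟨s, hs, rfl⟩ := mem_sigma.1 hA
  obtain ⟨t, ht, h⟩ := hG _ hs
  exact ⟨_, ht.sigma, h.rank hk2 hk3 hs ht⟩

variable (hG : EO G)
include hG

theorem Nn.not_mnE (h : Nn G q) : ¬ Mn G q := fun hq => by
  obtain ⟨u, hu, ho⟩ := hG _ hq
  exact ho.symm.ne hu.ne (h.2 u hu)

theorem Nn.commE (h : Nn G q) (hs : Mn G s) : q * s = s * q := by
  have k2 := Ring.two_ne_zero hk2
  obtain ⟨h1, h2⟩ := hs.qs.br k2 h.1 (h.2 s hs)
  have key : ∀ {q t : End k M}, Nn G q → QS G t → ∀ u, Mn G u → u * ((1 - t) * q * (1 + t) * u) = 0 := fun {q t} h ht u hu => by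
    have e := congrArg (fun y => (1 - t) * y * (1 + t)) (h.2 _ (hu.cj ht 1))
    have e1 : ∀ y, (1 - t) * ((1 + t) * y) = y := fun y => by simp [mul_add, sub_mul, add_mul, mul_mul_zero ht.1]
    have e2 : (1 - t) * (1 + t) = 1 := by simpa using e1 1
    simpa only [one_smul, mul_assoc, e1, e2, mul_one, zero_mul, mul_zero] using e
  have h3 : Nn G (q * s - s * q) := ⟨h1, fun u hu => by
    have := key h hs.qs u hu
    simp only [mul_add, add_mul, mul_sub, sub_mul, mul_assoc, one_mul, mul_one, h.2 u hu,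
      show s * (q * (s * u)) = 0 by rw [← mul_assoc q, ← mul_assoc, h.2 s hs, zero_mul], mul_zero] at this ⊢
    rw [← this]; abel⟩
  have h4 : Nn G (q * (s * q)) := ⟨h2, fun u hu => by
    have := key h3 h.1 u hu
    have e := h3.2 u hu
    simp only [mul_add, add_mul, mul_sub, sub_mul, mul_assoc, one_mul, mul_one, mul_mul_zero h.1.1, mul_zero, h.1.1,
      zero_mul] at this e ⊢
    refine (smul_eq_zero.1 ?_).resolve_left k2
    linear_combination (norm := module) this - e⟩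
  have h5 : q * (s * q) = 0 := by_contra fun h0 => h4.not_mnE hk2 hk3 hG (hs.of_le h2 h0
    ((rk_le' (ker_le_mul _ _)).trans (rk_le (range_mul_le _ _))))
  exact sub_eq_zero.1 (by_contra fun h0 => h3.not_mnE hk2 hk3 hG (hs.of_le h1 h0 ((rk_sub _ _).trans (rk_br h5))))

theorem cmp_cjE (hB : B ∈ cmp G A) (hg : g ∈ G0 G) : B :^ g ∈ cmp G A := by
  have hS : ∀ A ∈ quadraticRootSubgroups G, A ≤ G0 G := fun _ => le_gen'
  obtain ⟨C, hC, h⟩ := sigma_niE hk2 hk3 hG hB.1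
  have := rtg_of_sub hS ((sigma_rootE hk2 hk3 hG).conn_cj ⟨B, hB.1, rfl⟩ ⟨_, ⟨C, hC, rfl⟩, (rank_map (subtype_injective _)).1 (by
    rwa [map_subgroupOf_eq_of_le (hS _ hB.1), map_subgroupOf_eq_of_le (hS _ hC)])⟩ ⟨g, hg⟩)
  rw [cj_map, map_subgroupOf_eq_of_le (hS _ hB.1)] at this
  exact ⟨sigma_cj hB.1 (G0_le hg), hB.2.trans this⟩

theorem Nl.cmpE (h : Nl s t) (hs : Mn G s) (ht : Mn G t) (h0 : s * t - t * s ≠ 0) :
    RG G (s * t - t * s) ∈ H11.cmp G (RG G s) := by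
  have hx := h.mn hk2 hs ht h0
  obtain ⟨u, hu, ho⟩ := hG _ hx
  have key : ∀ y, Mn G y → RG G y ∈ H11.cmp G (RG G s) → u * (y * u) ≠ 0 → RG G (s * t - t * s) ∈ H11.cmp G (RG G s) :=
    fun y hy h1 h2 => ⟨hx.sigma, (h1.2.tail ⟨hy.sigma, hu.sigma, (opp_of_ne hk2 hk3 hu hy h2).symm.rank hk2 hk3 hy hu⟩).tail
      ⟨hu.sigma, hx.sigma, ho.symm.rank hk2 hk3 hu hx⟩⟩
  by_cases h1 : u * (s * u) = 0
  swap
  · exact key s hs (cmp_self hs.sigma) h1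
  have hg := ex_mem ht.qs.mem
  have h2 := cmp_cjE hk2 hk3 hG (cmp_self hs.sigma) (le_gen' ht.sigma hg)
  rw [RG_cj (RG_le hg)] at h2
  refine key _ (hs.conj (RG_le hg)) h2 fun e => ho.symm.ne hu.ne ?_
  change u * ((1 + t) * s * (1 - t) * u) = 0 at e
  simp only [mul_add, add_mul, mul_sub, sub_mul, mul_assoc, one_mul, mul_one, h1,
    show t * (s * (t * u)) = 0 by rw [← mul_assoc s, ← mul_assoc, h.2, zero_mul], mul_zero] at e ⊢
  rw [← neg_eq_zero, ← e]; abel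

theorem cent_of_not_cmpE (hA : A ∈ quadraticRootSubgroups G) (hB : B ∈ quadraticRootSubgroups G) (h : B ∉ cmp G A) :
    A ≤ C[B] := by
  obtain ⟨s, hs, rfl⟩ := mem_sigma.1 hA
  obtain ⟨t, ht, rfl⟩ := mem_sigma.1 hB
  rcases tri hk2 hk3 hs ht with h1 | h1 | ⟨h1, h0⟩
  · exact h1
  · exact absurd ⟨hB, .single ⟨hA, hB, h1.rank hk2 hk3 hs ht⟩⟩ h
  · have h2 := h1.symm.cmpE hk2 hk3 hG ht hs (br_ne_symm h0)
    rw [← neg_sub, RG_congr ES_neg] at h2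
    rw [← cmp_eq (h1.cmpE hk2 hk3 hG hs ht h0), cmp_eq h2] at h
    exact absurd (cmp_self hB) h


end H16.H11

namespace Lead.Fl

open H16.H11 Lead.Qf

variable {p : ℕ} [hp : Fact p.Prime] (h5 : 5 ≤ p) {M : Type*} [AddCommGroup M] [Module (ZMod p) M]
  [Finite M] {G K K1 A : Subgroup (GLm (ZMod p) M)} {q s t w x y : End (ZMod p) M}
  {a g : GLm (ZMod p) M}
include h5

theorem halfE (hG : EO G) (hq : ∀ g ∈ G, g ^ p = 1 → g ∈ K) (hs : Mn G s) (hy : y ∈ ES G s)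
    (y0 : y ≠ 0) : ({x | x ∈ ES G s ∧ x ≠ 0} : Set _).ncard ≤
      2 * ({x | (x ∈ ES G s ∧ x ≠ 0) ∧ ∃ k ∈ K, x = k.1 * y * k⁻¹.1} : Set _).ncard := by
  classical
  have hm := hs.of_mem hy y0
  obtain ⟨t, ht, h⟩ := exists_npE (k2 h5) (k3 h5) hG hm
  rw [← hs.ES_eq hy y0, Set.ncard_eq_toFinset_card _ (Set.toFinite _),
    Set.ncard_eq_toFinset_card _ (Set.toFinite _)]
  refine Finset.card_le_mul_card_image_of_maps_to (f := fun x => x * t * x) (fun x hx => ?_) 2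
    fun b _ => ?_
  · rw [Set.Finite.mem_toFinset] at hx ⊢
    obtain ⟨u, hu, e⟩ := orb h5 hm ht h hx.1 hx.2
    have hu' := sup_le (RG_le (G := G)) RG_le hu
    refine ⟨⟨mem_ES hm.qs.1 (e ▸ hm.qs.conj hu') (hx.1.2.1.trans (ker_le_mul _ _)) ?_,
      e ▸ (hm.conj hu').ne⟩, u, sup_le (RG_le_K hq) (RG_le_K hq) hu, e.symm⟩
    rw [mul_assoc]; exact (range_mul_le _ _).trans hx.1.2.2.1
  · by_cases hn : ∃ x ∈ ES G y, x * t * x = b
    · obtain ⟨x, hx, rfl⟩ := hn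
      refine (Finset.card_le_card (t := {x, -x}) fun z hz => ?_).trans Finset.card_le_two
      rw [Finset.mem_filter, Set.Finite.mem_toFinset] at hz
      simpa using fib h5 hm ht h hz.1.1 hx hz.2
    · refine (Finset.card_eq_zero.2 (Finset.eq_empty_of_forall_notMem fun z hz => ?_)).trans_le
        (zero_le_two)
      rw [Finset.mem_filter, Set.Finite.mem_toFinset] at hz
      exact hn ⟨z, hz.1.1, hz.2⟩

theorem threeE (hG : EO G) (hq : ∀ g ∈ G, g ^ p = 1 → g ∈ K) (hs : Mn G s) (hx : x ∈ ES G s)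
    (x0 : x ≠ 0) (hy : y ∈ ES G s) (y0 : y ≠ 0) : (∃ k ∈ K, x = k.1 * s * k⁻¹.1) ∨
      (∃ k ∈ K, y = k.1 * s * k⁻¹.1) ∨ ∃ k ∈ K, y = k.1 * x * k⁻¹.1 := by
  by_contra hc
  push Not at hc
  let O : End (ZMod p) M → Set (End (ZMod p) M) := fun y =>
    {x | (x ∈ ES G s ∧ x ≠ 0) ∧ ∃ k ∈ K, x = k.1 * y * k⁻¹.1}
  have d : ∀ x y, (∀ k ∈ K, y ≠ k.1 * x * k⁻¹.1) → Disjoint (O x) (O y) := fun x y h =>
    Set.disjoint_left.2 fun z ⟨_, k, hk, e⟩ ⟨_, l, hl, e'⟩ => h (l⁻¹ * k)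
      (mul_mem (inv_mem hl) hk) (by rw [← cj_cj', ← e, e', cj_cj', inv_mul_cancel]; simp)
  have h1 : (O s ∪ O x ∪ O y).ncard ≤ ({x | x ∈ ES G s ∧ x ≠ 0} : Set _).ncard :=
    Set.ncard_le_ncard (by rintro z ((h | h) | h) <;> exact h.1)
  rw [Set.ncard_union_eq (Set.disjoint_union_left.2 ⟨d _ _ hc.2.1, d _ _ hc.2.2⟩),
    Set.ncard_union_eq (d _ _ hc.1)] at h1
  have h2 := halfE h5 hG hq hs hs.qs.mem hs.ne
  have h3 := halfE h5 hG hq hs hx x0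
  have h4 := halfE h5 hG hq hs hy y0
  have h6 : 0 < ({x | x ∈ ES G s ∧ x ≠ 0} : Set _).ncard :=
    (Set.ncard_pos (Set.toFinite _)).2 ⟨s, hs.qs.mem, hs.ne⟩
  simp only [O] at h1
  omega

theorem l1E (hG : EO G) (hK : K ≤ G) (hq : ∀ g ∈ G, g ^ p = 1 → g ∈ K) (hs : Mn G s) (ha : a ∈ G)
    (ho : Odd (orderOf a)) (h : a ∈ @os _ _ _ (sA _) K (RG G s)) :
    a ∈ @os _ _ _ (cA _ _) K s := by
  have key : ∀ a ∈ G, a ∈ @os _ _ _ (sA _) K (RG G s) → ∃ k ∈ K,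
      (k * a).1 * s * (k * a)⁻¹.1 ∈ ES G s ∧ (k * a).1 * s * (k * a)⁻¹.1 ≠ 0 := by
    rintro a ha ⟨-, k, hk, e⟩
    have m := mul_mem (inv_mem (hK hk)) ha
    refine ⟨k⁻¹, inv_mem hk, ?_, (hs.conj m).ne⟩
    have e' : RG G s :^ (k⁻¹ * a) = RG G s := by
      rw [← cj_cj, show RG G s :^ a = RG G s :^ k from e, cj_cj_inv]
    rw [RG_cj m] at e'
    exact ES_of_RG e'.le (hs.conj m).qs.mem
  have fin : ∀ a ∈ N[K], ∀ k ∈ K, ∀ l ∈ K, (k * a).1 * s * (k * a)⁻¹.1 = l.1 * s * l⁻¹.1 →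
      a ∈ @os _ _ _ (cA _ _) K s := fun a ha k hk l hl e =>
    ⟨ha, k⁻¹ * l, mul_mem (inv_mem hk) hl, by
      change a.1 * s * a⁻¹.1 = (k⁻¹ * l).1 * s * (k⁻¹ * l)⁻¹.1
      rw [← cj_cj', ← e, cj_cj', inv_mul_cancel_left]⟩
  obtain ⟨k, hk, h1, h2⟩ := key a ha h
  obtain ⟨l, hl, h3, h4⟩ := key (a * a) (mul_mem ha ha) (mul_mem h h)
  rcases threeE h5 hG hq hs h1 h2 h3 h4 with ⟨m, hm, e⟩ | ⟨m, hm, e⟩ | ⟨m, hm, e⟩
  · exact fin a h.1 k hk m hm e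
  · exact mem_of_sq ho (fin _ (mul_mem h.1 h.1) l hl m hm e)
  · have n : ∀ c ∈ K, a⁻¹ * c * a⁻¹⁻¹ ∈ K := fun c hc => (mem_normalizer_iff.1 (inv_mem h.1) c).1 hc
    refine fin a h.1 _ (n l hl) _ (n _ (mul_mem hm hk)) ?_
    rw [show a⁻¹ * l * a⁻¹⁻¹ * a = a⁻¹ * (l * (a * a)) by group,
      show a⁻¹ * (m * k) * a⁻¹⁻¹ = a⁻¹ * (m * (k * a)) by group, ← cj_cj' a⁻¹, ← cj_cj' a⁻¹,
      ← cj_cj' m, e]

theorem cent_ofE (hG : EO G) (hq : ∀ g ∈ G, g ^ p = 1 → g ∈ K) (hs : Mn G s) (ht : Mn G t)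
    (h : ∀ k ∈ K, RG G t ≠ RG G s :^ k) : RG G t ≤ C[RG G s] := by
  refine cent_of_not_cmpE (k2 h5) (k3 h5) hG ht.sigma hs.sigma fun hc => ?_
  obtain ⟨g, hg, e⟩ := conj_of_rtg hc.2
  have : g ∈ K := (iSup₂_le fun B hB => by
    obtain ⟨u, -, rfl⟩ := mem_sigma.1 hB.1
    exact RG_le_K hq : (⨆ C ∈ _, C) ≤ K) hg
  exact h g⁻¹ (inv_mem this) (by rw [e, cj_cj_inv])

theorem odd_of (hG : EO G) (hc : (Nat.card A).Coprime (Nat.card K)) (hq : ∀ g ∈ G, g ^ p = 1 → g ∈ K)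
    (hs : Mn G s) : Odd (Nat.card A) := by
  obtain ⟨t, ht, h⟩ := exists_npE (k2 h5) (k3 h5) hG hs
  obtain ⟨i, hi, e⟩ := h.inv_mem hs.qs ht.qs
  have t0 : (2 : ZMod p) ≠ 0 := Ring.two_ne_zero (k2 h5)
  have i2 : orderOf i = 2 := orderOf_eq_prime (Units.ext (by
    rw [sq, Units.val_mul, e]
    simp only [mul_sub, sub_mul, smul_mul_assoc, mul_smul_comm, h.idem hs.qs.1 ht.qs.1, one_mul,
      mul_one, Units.val_one]
    module)) fun h1 => hs.ne (by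
      rw [h1, Units.val_one, eq_comm, sub_eq_self, smul_eq_zero_iff_right t0] at e
      rw [← h.e_left hs.qs.1 ht.qs.1 hs.qs.mem, e, zero_mul])
  have := (sup_le (RG_le_K hq) (RG_le_K hq) hi : i ∈ K)
  exact (Nat.coprime_two_right.1 (Nat.Coprime.coprime_dvd_right
    (i2 ▸ orderOf_dvd_natCard K this) hc))

theorem fp (hG : EO G) (hK : K ≤ G) (hA : A ≤ G) (hn : G ≤ N[K])
    (hc : (Nat.card A).Coprime (Nat.card K)) (hB0 : Group.IsSolvable A)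
    (hq : ∀ g ∈ G, g ^ p = 1 → g ∈ K) (hK1 : K1 ≤ K) (nK1 : A ≤ N[K1])
    (hs : Mn G s) (hw : ∀ a ∈ A, ∀ k ∈ K, a.1 * s * a⁻¹.1 = k.1 * s * k⁻¹.1 →
      ∃ n ∈ K1, a.1 * s * a⁻¹.1 = n.1 * s * n⁻¹.1) :
    ∃ n ∈ K1, ∃ s' t, s' = n.1 * s * n⁻¹.1 ∧ Mn G s' ∧ Mn G t ∧ NP s' t ∧
      ∀ a ∈ A, (∃ k ∈ K, RG G s' :^ a = RG G s' :^ k) →
        a.1 * s' * a⁻¹.1 = s' ∧ a.1 * t * a⁻¹.1 = t := by
  have ho := odd_of h5 hG hc hq hs
  let B := A ⊓ @os _ _ _ (sA _) K (RG G s)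
  have hB : Group.IsSolvable B := H1.ft_odd (ho.of_dvd_nat (card_dvd_of_le inf_le_left))
  have cB : (Nat.card B).Coprime (Nat.card K) :=
    Nat.Coprime.coprime_dvd_left (card_dvd_of_le inf_le_left) hc
  have nB : B ≤ N[K] := inf_le_left.trans (hA.trans hn)
  obtain ⟨k, hk', h1⟩ := @H1.glauberman_exists _ _ _ _ (cA _ _) B K1 (inf_le_left.trans nK1)
    (Nat.Coprime.coprime_dvd_right (card_dvd_of_le hK1) cB) (.inl hB) s fun a ha => by
      obtain ⟨k, hk, e⟩ :=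
        (l1E h5 hG hK hq hs (hA ha.1) (ho.of_dvd_nat (orderOf_dvd_natCard A ha.1)) ha.2).2
      exact hw a ha.1 k hk e
  have hk := hK1 hk'
  have hs1 := hs.conj (hK hk)
  change ∀ a ∈ B, a.1 * (k.1 * s * k⁻¹.1) * a⁻¹.1 = k.1 * s * k⁻¹.1 at h1
  have e1 := RG_cj (s := s) (hK hk)
  refine ⟨k, hk', ?_⟩
  generalize k.1 * s * k⁻¹.1 = s1 at hs1 h1 e1
  obtain ⟨t, ht, h⟩ := exists_npE (k2 h5) (k3 h5) hG hs1
  let K2 := K ⊓ @MulAction.stabilizer _ _ _ (cA _ _) s1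
  have n1 : B ≤ N[K2] := fun b hb => le_norm_iff_cj.2 (fun b hb => cj_le_forall.2 fun c hc =>
    (mem_inf (p := K) (p' := @MulAction.stabilizer _ _ _ (cA _ _) s1)).2
      ⟨(mem_normalizer_iff.1 (nB hb) c).1 hc.1, (@MulAction.stabilizer _ _ _ (cA _ _) s1).mul_mem
        ((@MulAction.stabilizer _ _ _ (cA _ _) s1).mul_mem (h1 b hb) hc.2) (h1 _ (inv_mem hb))⟩) hb
  obtain ⟨u, hu, h2⟩ := @H1.glauberman_exists _ _ _ _ (cA _ _) B K2 n1
    (Nat.Coprime.coprime_dvd_right (card_dvd_of_le inf_le_left) cB) (.inl hB) t fun b hb => by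
      have := np_cj h b
      rw [h1 b hb] at this
      obtain ⟨u, hu, e, e'⟩ := QfT.tr h5 hs1.qs ht.qs (ht.qs.conj (hA hb.1)) h this
      exact ⟨u, ⟨sup_le (sup_le (RG_le_K hq) (RG_le_K hq)) (RG_le_K hq) hu, e⟩, e'.symm⟩
  have h3 := np_cj h u
  rw [show u.1 * s1 * u⁻¹.1 = s1 from hu.2] at h3
  refine ⟨s1, _, rfl, hs1, ht.conj (hK hu.1), h3, fun a ha ⟨l, hl, e⟩ => ?_⟩
  have : a ∈ B := ⟨ha, hn (hA ha), a * k⁻¹ * a⁻¹ * (l * k), mul_mem
    ((mem_normalizer_iff.1 (hn (hA ha)) _).1 (inv_mem hk)) (mul_mem hl hk), by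
      change RG G s :^ a = RG G s :^ _
      rw [← cj_cj _ (l * k), ← cj_cj _ k l, e1, ← e, ← e1, cj_cj, cj_cj]; congr 3; group⟩
  exact ⟨h1 a this, h2 a this⟩

omit h5 in
theorem pg_of_unip (h : IsUnipotentOn A) : IsPGroup p A := by
  obtain ⟨n, hn⟩ := h
  rintro ⟨g, hg⟩
  refine ⟨n, Subtype.ext (Units.ext ?_)⟩
  have h1 := hn (List.replicate n g) (by simp +contextual [hg]) (by simp)
  replace h1 : (g.1 - 1) ^ n = 0 := by
    rw [← h1, ← List.prod_replicate]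
    congr 1
    clear h1 hn
    induction n with
    | zero => rfl
    | succ n ih => rw [List.replicate_succ, List.replicate_succ, ih]; rfl
  have h2 : (g.1 - 1) ^ p ^ n = 0 :=
    pow_eq_zero_of_le (Nat.lt_pow_self hp.out.one_lt).le h1
  rcases subsingleton_or_nontrivial (End (ZMod p) M) with h | h
  · exact Subsingleton.elim _ _
  haveI : CharP (End (ZMod p) M) p := charP_of_injective_algebraMap
    (algebraMap (ZMod p) (End (ZMod p) M)).injective p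
  rw [sub_pow_char_pow_of_commute _ _ (Commute.one_right _), one_pow, sub_eq_zero] at h2
  simpa using h2

theorem eo_of_op (h : OP p G) : EO G := fun s hs => by
  have hk2 := k2 h5
  have hk3 := k3 h5
  by_contra hc
  let S : Set (Subgroup (GLm (ZMod p) M)) := {A | ∃ g ∈ G, A = RG G s :^ g}
  have hS : ∀ A ∈ S, ∀ g ∈ G, A :^ g ∈ S := by
    rintro _ ⟨a, ha, rfl⟩ g hg; exact ⟨g * a, mul_mem hg ha, cj_cj _ _ _⟩
  have hle : ∀ A ∈ S, A ≤ G := by rintro _ ⟨a, ha, rfl⟩; exact cj_le_of_mem ha RG_le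
  have h1 := h _ (iSup₂_le hle) (le_norm_iff_cj.2 fun a ha => cj_le_iff.2 (iSup₂_le fun A hA =>
    cj_le_iff.1 (le_iSup₂_of_le (f := fun A _ => A) _ (hS A hA a ha) le_rfl))) (pg_of_unip (unip_iSup hle (by
      rintro _ ⟨a, ha, rfl⟩ _ ⟨b, hb, rfl⟩
      rw [RG_cj ha, RG_cj hb]
      refine Nl.unip hk2 hk3 ((opp_or_nl hk2 hk3 (hs.conj ha) (hs.conj hb)).resolve_left fun ho => hc
        ⟨_, hs.conj (mul_mem (inv_mem ha) hb), ?_⟩) (hs.conj ha) (hs.conj hb)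
      rw [← opp_iff hk2 hk3 (hs.conj ha) (hs.conj hb), ← RG_cj ha, ← RG_cj hb] at ho
      rw [← opp_iff hk2 hk3 hs (hs.conj (mul_mem (inv_mem ha) hb)), ← RG_cj (mul_mem (inv_mem ha) hb)]
      simpa only [cj_cj, inv_mul_cancel, cj_one] using ho.cj a⁻¹) hS))
  exact hs.RG_ne (eq_bot_of_le h1 (le_iSup₂_of_le (f := fun A _ => A) _ ⟨1, one_mem _, (cj_one _).symm⟩ le_rfl))

theorem nn_comm (hG : EO G) (h : Nn G q) (hs : Mn G s) : q * s = s * q :=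
  h.commE (k2 h5) (k3 h5) hG hs

omit h5 in
theorem eo_of_jm (hG : JM G) : EO G := fun s hs => by
  obtain ⟨t, ht, h⟩ := hG s hs.qs
  refine ⟨t, hs.of_le ht (fun e => hs.ne (by rw [← h.1, e]; simp)) ?_, h.opp⟩
  rw [← h.2]
  exact (rk_le' (ker_le_mul _ _)).trans (rk_le (range_mul_le _ _))

omit h5 in
theorem diag2 {X Y : Type*} [Group X] [Group Y] [Finite Y] {K A : Subgroup Y} (hA : A ≤ N[K])
    (φ : X →* Y) (hK : ∀ x, φ x ∈ K)
    (hc : ∀ a ∈ A, (∀ x, a * φ x * a⁻¹ = φ x) ∨ ∀ x y, Commute (φ x) (a * φ y * a⁻¹)) :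
    ∃ ψ : X →* Y, (∀ x, ψ x ∈ K ⊓ C[A]) ∧
      ∀ x y, ψ x * φ y * (ψ x)⁻¹ = φ x * φ y * (φ x)⁻¹ := by
  classical
  let F : Y → X →* Y := fun a => (MulAut.conj a).toMonoidHom.comp φ
  have FF : ∀ a x, F a x = a * φ x * a⁻¹ := fun _ _ => rfl
  let I : Finset (X →* Y) := (Set.toFinite (A : Set Y)).toFinset.image F
  have mI : ∀ f, f ∈ I ↔ ∃ a ∈ A, F a = f := fun f => by simp [I]
  have cm : ∀ f ∈ I, ∀ g ∈ I, f ≠ g → ∀ x y, Commute (f x) (g y) := fun f hf g hg h x y => by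
    obtain ⟨a, ha, rfl⟩ := (mI f).1 hf
    obtain ⟨b, hb, rfl⟩ := (mI g).1 hg
    rcases hc _ (mul_mem (inv_mem ha) hb) with e | e
    · refine absurd (MonoidHom.ext fun x => ?_) h
      rw [FF, FF]
      conv_lhs => rw [← e x]
      group
    · have := (e x y).conj a
      rw [FF, FF]; convert this using 1; group
  let ψ : X →* Y := (MonoidHom.noncommPiCoprod (fun f : I => f.1) fun f g h =>
    cm _ f.2 _ g.2 fun e => h (Subtype.ext e)).comp (Pi.constMonoidHom I X)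
  have pw : ∀ x, ((Finset.univ : Finset I) : Set I).Pairwise
      (Function.onFun Commute fun f : I => f.1 x) := fun x f _ g _ h =>
    cm _ f.2 _ g.2 (fun e => h (Subtype.ext e)) x x
  have hψ : ∀ x, ψ x = Finset.univ.noncommProd (fun f : I => f.1 x) (pw x) := fun x => rfl
  refine ⟨ψ, fun x => ⟨?_, fun a ha => ?_⟩, fun x y => ?_⟩
  · rw [hψ]
    refine Subgroup.noncommProd_mem _ _ fun f _ => ?_
    obtain ⟨a, ha, e⟩ := (mI _).1 f.2
    rw [← e, FF]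
    exact (mem_normalizer_iff.1 (hA ha) _).1 (hK x)
  · let σ : I → I := fun f => ⟨(MulAut.conj a).toMonoidHom.comp f.1, by
      obtain ⟨b, hb, e⟩ := (mI _).1 f.2
      exact (mI _).2 ⟨a * b, mul_mem ha hb, MonoidHom.ext fun x => by
        rw [← e]; simp [FF, mul_assoc]⟩⟩
    have hσ : Function.Bijective σ := Finite.injective_iff_bijective.1 fun f g h =>
      Subtype.ext (MonoidHom.ext fun x => (MulAut.conj a).injective
        (DFunLike.congr_fun (congrArg Subtype.val h) x))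
    have key : ∀ (m m' : Multiset Y) (_ : m = m') c c', m.noncommProd c = m'.noncommProd c' := by
      rintro m _ rfl c c'; rfl
    rw [← mul_inv_eq_iff_eq_mul]
    change (MulAut.conj a).toMonoidHom (ψ x) = ψ x
    rw [hψ, Finset.map_noncommProd]
    refine key _ _ ?_ _ _
    change Finset.univ.val.map ((fun f : I => f.1 x) ∘ σ) = _
    rw [← Multiset.map_map]
    exact congrArg _ (Multiset.map_univ_val_equiv (Equiv.ofBijective σ hσ))
  · have h1 : φ ∈ I := (mI _).2 ⟨1, one_mem _, MonoidHom.ext fun x => by simp [FF]⟩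
    rw [hψ, ← Finset.mul_noncommProd_erase _ (Finset.mem_univ (⟨φ, h1⟩ : I))]
    have := (Finset.noncommProd_commute (Finset.univ.erase (⟨φ, h1⟩ : I)) (fun f : I => f.1 x)
      ((pw x).mono (by simp)) (φ y) fun f hf =>
        cm _ h1 _ f.2 (fun e => (Finset.mem_erase.1 hf).1 (Subtype.ext e.symm)) _ _)
    rw [mul_inv_rev, mul_assoc (φ x), ← this.eq]
    simp only [mul_assoc, mul_inv_cancel_left]

end Lead.Fl
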