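import Cfsg.Agent.Lead.Fl1

/-! Equivariant quadratic action: normalized partners. -/

set_option autoImplicit false
set_option linter.unusedSectionVars false

open Subgroup Cfsg H16 H16.H11 Module H4 Lead.Qf
open scoped MatrixGroups

universe u

namespace Lead.Fl

variable {p : ℕ} [hp : Fact p.Prime] {M : Type*} [AddCommGroup M] [Module (ZMod p) M]
  [Finite M] {Γ G H K K1 A R S Q : Subgroup (GLm (ZMod p) M)} {q s t w : End (ZMod p) M}
  {a b g : GLm (ZMod p) M}

theorem hq_sup {X : Type*} [Group X] [Finite X] {K R : Subgroup X} (hn : R ≤ N[K])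
    (hc : (Nat.card R).Coprime p) : ∀ g ∈ K ⊔ R, g ^ p = 1 → g ∈ K := fun g hg h => by
  have hg' : g ∈ ((K ⊔ R : Subgroup X) : Set X) := hg
  rw [coe_mul_of_right_le_normalizer_left K R hn] at hg'
  obtain ⟨k, hk, a, ha, rfl⟩ := hg'
  have key : ∀ n : ℕ, (k * a) ^ n * (a ^ n)⁻¹ ∈ K := fun n => by
    induction n with
    | zero => simp
    | succ n ih =>
      have := mul_mem hk ((mem_normalizer_iff.1 (hn ha) _).1 ih)
      convert this using 1
      rw [pow_succ', pow_succ']; group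
  have h1 := key (Nat.card R)
  rw [show a ^ Nat.card R = 1 from congrArg Subtype.val (pow_card_eq_one' (x := (⟨a, ha⟩ : R))),
    inv_one, mul_one] at h1
  exact mem_of_pow_mem_of_coprime_orderOf h1
    (hc.symm.coprime_dvd_left (orderOf_dvd_of_pow_eq_one h))

theorem op_le {X : Type*} [Group X] [Finite X] {G H : Subgroup X} (h : OP p G) (hH : H ≤ G)
    (hn : G ≤ N[H]) : OP p H := fun A hA nA pA => by
  have h1 : A ≤ (pCore p H).map H.subtype := by
    haveI : (A.subgroupOf H).Normal := (normal_subgroupOf_iff_le_normalizer hA).2 nA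
    rw [← map_subgroupOf_eq_of_le hA]
    exact map_mono (H1.le_pCore (N := A.subgroupOf H) (pA.comap_of_injective _ H.subtype_injective))
  refine eq_bot_iff.2 (h1.trans (h _ ((map_subtype_le _).trans hH) ?_
    ((H1.isPGroup_pCore p).map _)).le)
  exact hn.trans (H1.normalizer_le_normalizer_map_char H _)

theorem op_of_irr (hi : IsIrreducibleFor Γ) (hK : K ≤ Γ) (hn : Γ ≤ N[K]) : OP p K := by
  refine op_le (fun A hA nA pA => ?_) hK hn
  let W : Submodule (ZMod p) M :=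
    { carrier := {m | ∀ g ∈ A, g.1 m = m}
      zero_mem' := fun g _ => map_zero _
      add_mem' := fun ha hb g hg => by rw [map_add, ha g hg, hb g hg]
      smul_mem' := fun c m hm g hg => by rw [map_smul, hm g hg] }
  rcases hi.2 W fun g hg m hm a ha => by
      have := hm _ ((mem_normalizer_iff.1 (inv_mem (nA hg)) a).1 ha)
      have e := congrArg g.1 this
      rwa [← End.mul_apply, ← Units.val_mul, show g * (g⁻¹ * a * g⁻¹⁻¹) = a * g by group,
        Units.val_mul, End.mul_apply] at e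
    with e | e
  · obtain ⟨m, hm⟩ := hi.1
    haveI : Nontrivial M := ⟨m, 0, hm⟩
    obtain ⟨b, hb, b0⟩ := pA.exists_fixed_point_of_prime_dvd_card_of_fixed_point M (a := 0) (by
      rw [Module.natCard_eq_pow_finrank (K := ZMod p), Nat.card_zmod]
      exact dvd_pow_self _ finrank_pos.ne') fun g => smul_zero g
    exact absurd (e.le (fun g hg => hb ⟨g, hg⟩ : b ∈ W)).symm b0
  · exact eq_bot_iff.2 fun g hg => Units.ext (LinearMap.ext fun m => e.ge trivial g hg)

theorem jmc (jmp : ∀ (G : Subgroup (GLm (ZMod p) M)) (q w s t : End (ZMod p) M), QS G q → QS G w →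
      NP q w → QS G s → QS G t → NP s t → q * s = s * q → q * t = t * q →
      ∃ w', QS G w' ∧ NP q w' ∧ w' * s = s * w' ∧ w' * t = t * w')
    (hG : JM G) (P : Set (End (ZMod p) M × End (ZMod p) M))
    (hP : ∀ x ∈ P, QS G x.1 ∧ QS G x.2 ∧ NP x.1 x.2)
    (hc : ∀ x ∈ P, ∀ y ∈ P, x ≠ y → Commute x.1 y.1 ∧ Commute x.1 y.2 ∧ Commute x.2 y.2) :
    JM (G ⊓ CE (Prod.fst '' P ∪ Prod.snd '' P)) := by
  have qs : ∀ (G : Subgroup (GLm (ZMod p) M)) T q, QS (G ⊓ CE T) q ↔ QS G q ∧ ∀ x ∈ T, q * x = x * q :=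
    fun G T q => ⟨fun h => ⟨h.mono inf_le_left, fun x hx => by
      obtain ⟨g, hg, e⟩ := h.2 1
      have := hg.2 x hx
      simpa [e, add_mul, mul_add] using this⟩, fun h => ⟨h.1.1, fun c => by
        obtain ⟨g, hg, e⟩ := h.1.2 c
        exact ⟨g, ⟨hg, fun x hx => by simp [e, add_mul, mul_add, h.2 x hx]⟩, e⟩⟩⟩
  induction P, Set.toFinite P using Set.Finite.induction_on with
  | empty => intro q hq; obtain ⟨t, h1, h2⟩ := hG q ((qs _ _ _).1 hq).1
             exact ⟨t, (qs _ _ _).2 ⟨h1, by simp⟩, h2⟩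
  | @insert x P hx _ ih =>
    intro q hq
    obtain ⟨q1, q2⟩ := (qs _ _ _).1 hq
    obtain ⟨w, h1, h2⟩ := ih (fun y hy => hP y (.inr hy)) (fun y hy z hz => hc y (.inr hy) z (.inr hz)) q
      ((qs _ _ _).2 ⟨q1, fun y hy => q2 y (hy.imp (Set.image_mono (Set.subset_insert _ _) ·)
        (Set.image_mono (Set.subset_insert _ _) ·))⟩)
    have ne : ∀ y ∈ P, x ≠ y := fun y hy e => hx (e ▸ hy)
    obtain ⟨x1, x2, x3⟩ := hP x (.inl rfl)
    obtain ⟨w', a1, a2, a3, a4⟩ := jmp _ q w x.1 x.2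
      ((qs _ _ _).2 ⟨q1, fun y hy => q2 y (hy.imp (Set.image_mono (Set.subset_insert _ _) ·)
        (Set.image_mono (Set.subset_insert _ _) ·))⟩) h1 h2
      ((qs _ _ _).2 ⟨x1, by
        rintro _ (⟨y, hy, rfl⟩ | ⟨y, hy, rfl⟩)
        exacts [(hc x (.inl rfl) y (.inr hy) (ne y hy)).1, (hc x (.inl rfl) y (.inr hy) (ne y hy)).2.1]⟩)
      ((qs _ _ _).2 ⟨x2, by
        rintro _ (⟨y, hy, rfl⟩ | ⟨y, hy, rfl⟩)
        exacts [(hc y (.inr hy) x (.inl rfl) (ne y hy).symm).2.1.symm,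
          (hc x (.inl rfl) y (.inr hy) (ne y hy)).2.2]⟩) x3
      (q2 _ (.inl ⟨x, .inl rfl, rfl⟩)) (q2 _ (.inr ⟨x, .inl rfl, rfl⟩))
    obtain ⟨b1, b2⟩ := (qs _ _ _).1 a1
    refine ⟨w', (qs _ _ _).2 ⟨b1, ?_⟩, a2⟩
    rintro _ (⟨y, rfl | hy, rfl⟩ | ⟨y, rfl | hy, rfl⟩)
    exacts [a3, b2 _ (.inl ⟨y, hy, rfl⟩), a4, b2 _ (.inr ⟨y, hy, rfl⟩)]

theorem jm_of_op (h5 : 5 ≤ p)
    (jmp : ∀ (G : Subgroup (GLm (ZMod p) M)) (q w s t : End (ZMod p) M), QS G q → QS G w →
      NP q w → QS G s → QS G t → NP s t → q * s = s * q → q * t = t * q →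
      ∃ w', QS G w' ∧ NP q w' ∧ w' * s = s * w' ∧ w' * t = t * w') (h : OP p G) : JM G := by
  induction e : Nat.card G using Nat.strong_induction_on generalizing G with
  | _ n ih =>
  intro q hq
  induction e' : rk q using Nat.strong_induction_on generalizing q with
  | _ m ih' =>
  have eo := eo_of_op h5 h
  by_cases q0 : q = 0
  · exact ⟨0, QS.zero, by simp [NP, q0]⟩
  by_cases hN : Nn G q
  · obtain ⟨s, hs⟩ : ∃ s, Mn G s := by
      classical
      have ex : ∃ n, ∃ s, QS G s ∧ s ≠ 0 ∧ rk s = n := ⟨_, _, hq, q0, rfl⟩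
      obtain ⟨s, h1, h2, h3⟩ := Nat.find_spec ex
      exact ⟨s, h1, h2, fun t ht t0 => h3 ▸ Nat.find_min' ex ⟨t, ht, t0, rfl⟩⟩
    obtain ⟨t, ht, ho⟩ := eo s hs
    have nH : G ≤ N[G ⊓ CE {s | Mn G s}] := H1.le_normalizer_inf le_normalizer
      (le_norm_iff_cj.2 fun c hc => cj_le_forall.2 fun b hb x hx => by
        have := congrArg (fun x => c.1 * x * c⁻¹.1) (hb _ (Mn.conj hx (inv_mem hc)))
        simpa [mul_assoc] using this)
    obtain ⟨w, h1, h2⟩ := ih _ (e ▸ lt_of_le_of_ne (card_le_of_le (inf_le_left : G ⊓ CE {s | Mn G s} ≤ G))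
      fun e => by
        have := ((eq_of_le_of_card_ge (inf_le_left : G ⊓ CE {s | Mn G s} ≤ G) e.ge).ge
          (RG_le (ex_mem hs.qs.mem))).2 t ht
        simp only [ex, one_mul, mul_one, add_mul, mul_add, add_right_inj] at this
        exact ho.ne hs.ne (by rw [← this, mul_mul_zero hs.qs.1])) (op_le h inf_le_left nH) rfl q
      ⟨hq.1, fun c => by
        obtain ⟨g, hg, e⟩ := hq.2 c
        exact ⟨g, ⟨hg, fun x hx => by simp [e, add_mul, mul_add, nn_comm h5 eo hN hx]⟩, e⟩⟩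
    exact ⟨w, h1.mono inf_le_left, h2⟩
  obtain ⟨s, hs, h1⟩ : ∃ s, Mn G s ∧ s * (q * s) ≠ 0 := by simpa [Nn, hq] using hN
  obtain ⟨r, h2, -, h3⟩ := hs.norm' (k2 h5) (k3 h5) hq fun hn =>
    h1 (hs.nil (Ring.two_ne_zero (k2 h5)) hq hn)
  generalize pz s q r * s = t at h2 h3
  have h4 := h2.part hq h3
  have h3' : ∀ y, t * (q * (t * y)) = t * y := fun y => by rw [← mul_assoc q, ← mul_assoc, h3]
  have hy := hq.sub h4.qs (mul_mul_zero hq.1 _) (by simp [mul_assoc, hq.1])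
  have h5' : LinearMap.ker q < LinearMap.ker (q - q * (t * q)) := by
    refine lt_of_le_of_ne (fun m hm => by simp [LinearMap.mem_ker.1 hm]) fun e => h2.ne ?_
    rw [← h3, mul_eq_zero_of ((range_le_ker (by
      rw [sub_mul, mul_assoc, mul_assoc, h3, sub_self])).trans e.ge), mul_zero]
  have np : NP (q * (t * q)) t := ⟨by simp only [mul_assoc, h3'], by simp only [mul_assoc, h3', h3]⟩
  have xy : q * (t * q) * (q - q * (t * q)) = 0 := by simp [mul_sub, mul_assoc, hq.1, mul_mul_zero hq.1]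
  have yx : (q - q * (t * q)) * (q * (t * q)) = 0 := by simp [sub_mul, mul_assoc, mul_mul_zero hq.1]
  have ty : t * (q - q * (t * q)) = 0 := by simp [mul_sub, h3']
  have yt : (q - q * (t * q)) * t = 0 := by simp [sub_mul, mul_assoc, h3]
  obtain ⟨w, a1, a2⟩ := ih' _ (by
    have := Submodule.finrank_lt_finrank_of_lt h5'
    have := rk_ker q
    have := rk_ker (q - q * (t * q))
    omega) _ hy rfl
  have eq : q = q * (t * q) + (q - q * (t * q)) := by abel
  have hx := h4.qs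
  generalize q - q * (t * q) = y at *
  generalize q * (t * q) = x at *
  obtain ⟨w, b1, b2, b3, b4⟩ := jmp G y w x t hy a1 a2 hx h2.qs np (yx.trans xy.symm) (yt.trans ty.symm)
  have k : ∀ z, w * z = z * w → z * y = 0 → z * w = 0 := fun z c d => by
    rw [← b2.2, ← mul_assoc, ← c, mul_assoc, mul_mul_zero d, mul_zero]
  have xw := k x b3 xy
  have tw := k t b4 ty
  refine ⟨t + w, h2.qs.add b1 tw (b4.trans tw), ?_, ?_⟩ <;> rw [eq] <;>
    simp only [mul_add, add_mul, np.1, np.2, b2.1, b2.2, ty, b3.trans xw, xw, yt, mul_zero, add_zero,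
      zero_add, mul_mul_zero xw, mul_mul_zero yt, mul_mul_zero ty, mul_mul_zero (b3.trans xw)]

end Lead.Fl
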