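import Cfsg.Agent.Lead.Fl0
import Cfsg.Agent.H5.TR

/-! Normalized partners commuting with a given pair. -/

set_option autoImplicit false
set_option linter.unusedSimpArgs false
set_option linter.unusedSectionVars false

open Subgroup Cfsg H16 H16.H11 Module H5TR Lead.Qf

namespace Lead.Fl

variable {p : ℕ} [hp : Fact p.Prime] (h5 : 5 ≤ p) {M : Type*} [AddCommGroup M] [Module (ZMod p) M]
  {G : Subgroup (GLm (ZMod p) M)} {q s t w : End (ZMod p) M}
include h5

theorem tu2 (hs : QS G s) (ht : QS G t) (hw : QS G w) (h : NP s t) (h' : NP s w) (e : s * w + w * s = s * t + t * s) :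
    ∃ u ∈ G ⊓ UG s, u.1 * s * u⁻¹.1 = s ∧ u.1 * t * u⁻¹.1 = w := by
  have n2 := ne2 h5
  obtain ⟨a, ha, e1⟩ := hh h' hs hw n2 (neg_ne_zero.2 one_ne_zero)
  obtain ⟨b, hb, e2⟩ := hh h hs ht one_ne_zero (neg_ne_zero.2 n2)
  have w1 : w * (s * t) + w * (t * s) = w := by
    rw [← mul_add, ← e, mul_add, h'.2, mul_mul_zero hw.1, add_zero]
  have w2 : s * (t * w) + t * (s * w) = w := by
    rw [← mul_assoc, ← mul_assoc, ← add_mul, ← e, add_mul, mul_assoc, mul_assoc, h'.2, hw.1, mul_zero, zero_add]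
  have t1 : s * (w * t) + w * (s * t) = t := by
    rw [← mul_assoc, ← mul_assoc, ← add_mul, e, add_mul, mul_assoc, mul_assoc, h.2, ht.1, mul_zero, zero_add]
  obtain ⟨y, hy⟩ : ∃ y, y = s * t - s * w := ⟨_, rfl⟩
  have y2 : y = w * s - t * s := by rw [hy, sub_eq_sub_iff_add_eq_add, ← e, add_comm]
  have sy : s * y = 0 := by rw [hy, mul_sub, mul_mul_zero hs.1, mul_mul_zero hs.1, sub_zero]
  have ys : y * s = 0 := by rw [hy, sub_mul, mul_assoc, mul_assoc, h.1, h'.1, sub_self]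
  have yy : y * y = 0 := by conv_lhs => rw [hy, mul_sub, ← mul_assoc, ← mul_assoc, ← hy, ys]
                            simp
  have k1 : s * (w * (t * s)) = -y := by
    rw [eq_sub_of_add_eq' w1, mul_sub, h'.l, hy, neg_sub]
  have ab : (a * b).1 = 1 + (-3 : ZMod p) • y := by
    have f1 : ∀ x, (1 - (s * t + t * s)) * (s * x) = 0 := fun x => by
      simp [sub_mul, add_mul, mul_assoc, h.l, mul_mul_zero hs.1]
    have f2 : (1 - (s * t + t * s)) * (t * s) = 0 := by
      simp [sub_mul, add_mul, mul_assoc, h.symm.l, mul_mul_zero ht.1]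
    have f3 : (w * s) * (1 - (s * t + t * s)) = 0 := by
      simp [mul_sub, mul_add, mul_assoc, h.1, mul_mul_zero hs.1]
    have f4 : (s * w) * (1 - (s * t + t * s)) = 0 := by
      rw [← e]; simp [mul_sub, mul_add, mul_assoc, h'.2, mul_mul_zero hw.1]
    have f5 := h.idem hs.1 ht.1
    have f6 : (1 - (s * t + t * s)) * (1 - (s * t + t * s)) = 1 - (s * t + t * s) := by
      rw [mul_sub, sub_mul, sub_mul, f5]; simp
    rw [Units.val_mul, e1, e2, e]
    generalize hf : 1 - (s * t + t * s) = f at f1 f2 f3 f4 f6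
    simp only [mul_add, add_mul, mul_sub, sub_mul, mul_smul_comm, smul_mul_assoc, f1, f2, f3, f4, f6, smul_zero]
    simp only [mul_assoc, k1, h'.l, mul_mul_zero hs.1, h.1, mul_zero, smul_zero]
    rw [← hf, eq_add_of_sub_eq y2.symm]
    have i2 : (2 : ZMod p) * 2⁻¹ = 1 := mul_inv_cancel₀ n2
    match_scalars
    · rfl
    · simp [n2]
    · simp [n2]
    · simp [n2]; linear_combination i2
  have ab2 : ((a * b) ^ ((-3 : ZMod p)⁻¹).val).1 = 1 + (1 : ZMod p) • y := by
    rw [Units.val_pow_eq_pow_val, ab, pow3 (by simp [yy]), ZMod.natCast_zmod_val, smul_smul,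
      inv_mul_cancel₀ (neg_ne_zero.2 (ne3 h5))]
    simp [yy]
  refine ⟨_, ⟨pow_mem (mul_mem ha hb) ((-3 : ZMod p)⁻¹).val, by
    change _ ∧ _ ∧ _
    rw [ab2, one_smul, add_sub_cancel_left]
    exact ⟨sy, ys, fun m _ => ⟨(t - w) m, by rw [hy, ← mul_sub]; rfl⟩⟩⟩, ?_, ?_⟩ <;>
    rw [inv_val yy ab2, ab2, one_smul]
  · simp [mul_sub, add_mul, sy, ys]
  · have yt : y * t = -(s * (w * t)) := by rw [hy, sub_mul, mul_assoc, ht.1, mul_zero, zero_sub, mul_assoc]
    have ty : t * y = t * (w * s) := by rw [y2, mul_sub, mul_mul_zero ht.1, sub_zero]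
    have z1 : w * (s * (t * (w * s))) = -(w * (t * s)) := by
      rw [← mul_assoc t, ← mul_assoc s, eq_sub_of_add_eq w2, sub_mul, mul_sub, mul_mul_zero hw.1, mul_assoc, mul_assoc, h'.1,
        zero_sub]
    rw [add_mul, one_mul, yt, eq_sub_of_add_eq t1, neg_sub, add_sub_cancel, mul_sub, mul_one, mul_assoc, mul_assoc, ty, z1,
      sub_neg_eq_add, w1]

theorem tu1 (hs : QS G s) (ht : QS G t) (hw : QS G w) (h : NP s t) (h' : NP s w) :
    ∃ u ∈ G ⊓ UG s, u.1 * s * u⁻¹.1 = s ∧ u.1 * t * u⁻¹.1 = w := by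
  have hp : p.Prime := hp.out
  have n2 := ne2 h5
  obtain ⟨a, ha, e1⟩ := h.inv_mem hs ht
  obtain ⟨b, hb, e2⟩ := h'.inv_mem hs hw
  replace ha : a ∈ G := (sup_le RG_le RG_le : _ ≤ G) ha
  replace hb : b ∈ G := (sup_le RG_le RG_le : _ ≤ G) hb
  have sq : ∀ (c : GLm (ZMod p) M) (f : End (ZMod p) M), f * f = f → c.1 = 1 - (2 : ZMod p) • f → c * c = 1 := fun c f x y =>
    Units.ext (by
      rw [Units.val_mul, y]
      simp only [mul_sub, sub_mul, mul_smul_comm, smul_mul_assoc, x, mul_one, one_mul, Units.val_one]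
      module)
  obtain ⟨N, hN⟩ : ∃ N, N = (a * b).1 - 1 := ⟨_, rfl⟩
  have hN' : N = s * ((2 : ZMod p) • (w - t)) + ((2 : ZMod p) • (t - w) + (4 : ZMod p) • (s * (t * w))) * s := by
    rw [hN, Units.val_mul, e1, e2]
    simp only [mul_add, add_mul, mul_sub, sub_mul, mul_smul_comm, smul_mul_assoc, mul_assoc, mul_one, one_mul, h.l, h'.1,
      mul_mul_zero hs.1, mul_zero]
    module
  have Ns : N * s = 0 := by
    rw [hN']; simp [add_mul, mul_assoc, hs.1, sub_mul, mul_sub, h.1, h'.1]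
  have sN : s * N = 0 := by
    rw [hN']; simp [mul_add, add_mul, mul_assoc, mul_mul_zero hs.1, sub_mul, mul_sub, h.1, h'.1]
  have N3 : N * (N * N) = 0 := by
    conv_lhs => enter [2, 1]; rw [hN']
    rw [add_mul, mul_assoc, mul_assoc, sN, mul_zero, add_zero, mul_mul_zero Ns]
  have ab : (a * b).1 = 1 + N := by rw [hN]; abel
  obtain ⟨n, hn⟩ := conj_odd (sq a _ (h.idem hs.1 ht.1) e1) (sq b _ (h'.idem hs.1 hw.1) e2) (hp.odd_of_ne_two (by omega))
    (Units.ext (by
      rw [Units.val_pow_eq_pow_val, ab, pow3 N3, (ZMod.natCast_eq_zero_iff _ p).2 (hp.dvd_choose_self (by norm_num) (by omega))]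
      simp))
  have uG := pow_mem (mul_mem ha hb) n
  have uU : (a * b) ^ n ∈ UG s := pow_mem (by
    change _ ∧ _ ∧ _
    rw [← hN]
    exact ⟨sN, Ns, fun m hm => ⟨((2 : ZMod p) • (w - t)) m, by
      rw [hN', LinearMap.add_apply, End.mul_apply, End.mul_apply, hm, map_zero, add_zero]⟩⟩) n
  have us : ((a * b) ^ n).1 * s = s * ((a * b) ^ n).1 := by
    rw [Units.val_pow_eq_pow_val, ab]
    exact (Commute.pow_left (by simp [Commute, SemiconjBy, add_mul, mul_add, Ns, sN]) n).eq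
  generalize (a * b) ^ n = u at hn uG us uU
  have us' : u.1 * s * u⁻¹.1 = s := by rw [us]; simp
  have cm : ∀ x y : End (ZMod p) M, u.1 * x * u⁻¹.1 * (u.1 * y * u⁻¹.1) = u.1 * (x * y) * u⁻¹.1 := fun x y => by
    simp [mul_assoc]
  obtain ⟨v, hv, v1, v2⟩ := tu2 h5 hs ht (hw.conj uG) h
    ⟨by conv_lhs => rw [← us', cm, cm, h'.1, us'], by conv_lhs => rw [← us', cm, cm, h'.2]⟩ (by
      have := congrArg Units.val hn
      rw [Units.val_mul, Units.val_mul, e1, e2, mul_sub, sub_mul, mul_one, Units.mul_inv, sub_right_inj, mul_smul_comm,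
        smul_mul_assoc] at this
      rw [← smul_right_injective _ n2 this, mul_add, add_mul, ← cm, ← cm, us'])
  refine ⟨u⁻¹ * v, mul_mem (inv_mem ⟨uG, uU⟩) hv, ?_, ?_⟩
  · calc _ = u⁻¹.1 * (v.1 * s * v⁻¹.1) * u.1 := by simp [mul_assoc]
      _ = s := by rw [v1, mul_assoc, ← us]; simp
  · calc _ = u⁻¹.1 * (v.1 * t * v⁻¹.1) * u.1 := by simp [mul_assoc]
      _ = w := by rw [v2]; simp [mul_assoc]

theorem ug_p : IsPGroup p (UG q) := by
  rintro ⟨g, h1, h2, h3⟩
  refine ⟨1, Subtype.ext (Units.ext ?_)⟩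
  have N3 : (g.1 - 1) * ((g.1 - 1) * (g.1 - 1)) = 0 := LinearMap.ext fun m => by
    obtain ⟨v, hv⟩ := h3 _ (congrArg (· m) h1)
    rw [End.mul_apply, End.mul_apply, ← hv]
    exact congrArg (· v) h2
  change (g ^ p ^ 1).1 = 1
  rw [pow_one, Units.val_pow_eq_pow_val, ← add_sub_cancel 1 g.1, pow3 N3,
    (ZMod.natCast_eq_zero_iff _ p).2 (hp.out.dvd_choose_self (by norm_num) (by omega))]
  simp

omit h5 in
theorem ug_cj {d g : GLm (ZMod p) M} (hd : d.1 * q = q * d.1) (hg : g ∈ UG q) : d * g * d⁻¹ ∈ UG q := by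
  have hd' : d⁻¹.1 * q = q * d⁻¹.1 := by
    rw [Units.inv_mul_eq_iff_eq_mul, ← mul_assoc, hd, Units.mul_inv_cancel_right]
  have e : (d * g * d⁻¹).1 - 1 = d.1 * (g.1 - 1) * d⁻¹.1 := by simp [mul_sub, sub_mul]
  change _ ∧ _ ∧ _
  rw [e]
  refine ⟨by rw [← mul_assoc, ← mul_assoc, ← hd, mul_assoc d.1, hg.1]; simp,
    by rw [mul_assoc, hd', mul_assoc, ← mul_assoc _ q, hg.2.1]; simp, fun m hm => ?_⟩
  obtain ⟨v, hv⟩ := hg.2.2 (d⁻¹.1 m) (by rw [← End.mul_apply, ← hd', End.mul_apply, hm, map_zero])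
  exact ⟨d.1 v, by rw [← End.mul_apply, ← hd, End.mul_apply, hv]; rfl⟩

theorem jmp [Finite M] (hq : QS G q) (hw : QS G w) (h : NP q w) (hs : QS G s) (ht : QS G t)
    (h' : NP s t) (c1 : q * s = s * q) (c2 : q * t = t * q) :
    ∃ w', QS G w' ∧ NP q w' ∧ w' * s = s * w' ∧ w' * t = t * w' := by
  have n2 := ne2 h5
  obtain ⟨a, b, b0, ab⟩ : ∃ a b : ZMod p, b ≠ 0 ∧ a * a + b * b = -1 := by
    obtain ⟨a, b, e⟩ := ZMod.sq_add_sq p (-1)
    by_cases b0 : b = 0
    · exact ⟨b, a, fun a0 => by simp [a0, b0] at e, by rw [← e]; ring⟩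
    · exact ⟨a, b, b0, by rw [← e]; ring⟩
  obtain ⟨n, hn, en⟩ := nm h' hs ht one_ne_zero
  rw [inv_one, one_smul, one_smul] at en
  obtain ⟨j, hj, ej⟩ : ∃ j ∈ G, j.1 = 1 - (s * t + t * s) + (a • (s * t - t * s) + b • (s + t)) := by
    obtain ⟨x, hx, e1⟩ := hs.2 ((a - 1) * b⁻¹)
    obtain ⟨y, hy, e2⟩ := ht.2 b
    obtain ⟨z, hz, e3⟩ := hs.2 ((-a - 1) * b⁻¹)
    refine ⟨x * y * z, mul_mem (mul_mem hx hy) hz, ?_⟩
    rw [Units.val_mul, Units.val_mul, e1, e2, e3]
    simp only [mul_add, add_mul, mul_smul_comm, smul_mul_assoc, mul_assoc, hs.1, h'.1, mul_one, one_mul,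
      smul_zero]
    match_scalars
    · ring
    · field_simp; linear_combination (-1 : ZMod p) * ab
    all_goals field_simp; try ring
  have rl : ∀ x y : End (ZMod p) M, x = y → (1 : End (ZMod p) M) * x = y := fun x y e => by rw [one_mul, e]
  have nn : (n * n).1 = 1 - (2 : ZMod p) • (s * t + t * s) := by
    rw [Units.val_mul, en]
    simp only [mul_add, add_mul, mul_sub, sub_mul, mul_assoc, hs.1, ht.1, h'.1, h'.2, mul_one, one_mul,
      mul_mul_zero hs.1, mul_mul_zero ht.1, h'.l, h'.symm.l, mul_zero]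
    module
  have jj : j * j = n * n := Units.ext (by
    rw [nn, Units.val_mul, ej]
    simp only [mul_add, add_mul, mul_sub, sub_mul, mul_smul_comm, smul_mul_assoc, mul_assoc, hs.1, ht.1,
      h'.1, h'.2, mul_one, one_mul, mul_mul_zero hs.1, mul_mul_zero ht.1, h'.l, h'.symm.l, mul_zero]
    match_scalars
    · ring
    · linear_combination ab
    · linear_combination ab
    · ring
    · ring)
  have nj : (n * j).1 = 1 - (s * t + t * s) + (b • (s * t - t * s) - a • (s + t)) := by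
    rw [Units.val_mul, en, ej]
    simp only [mul_add, add_mul, mul_sub, sub_mul, mul_smul_comm, smul_mul_assoc, mul_assoc, hs.1, ht.1,
      h'.1, h'.2, mul_one, one_mul, mul_mul_zero hs.1, mul_mul_zero ht.1, h'.l, h'.symm.l, mul_zero]
    module
  have njn : n * j * n = j := Units.ext (by
    rw [Units.val_mul, nj, en, ej]
    simp only [mul_add, add_mul, mul_sub, sub_mul, mul_smul_comm, smul_mul_assoc, mul_assoc, hs.1, ht.1,
      h'.1, h'.2, mul_one, one_mul, mul_mul_zero hs.1, mul_mul_zero ht.1, h'.l, h'.symm.l, mul_zero]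
    module)
  have n4 : n ^ 2 ^ 2 = 1 := Units.ext (by
    rw [show n ^ 2 ^ 2 = (n * n) * (n * n) by simp [pow_succ, mul_assoc], Units.val_mul, nn]
    simp only [mul_sub, sub_mul, mul_smul_comm, smul_mul_assoc, h'.idem hs.1 ht.1, mul_one, one_mul,
      Units.val_one]
    module)
  have j4 : j ^ 2 ^ 2 = 1 := by
    rw [← n4, show j ^ 2 ^ 2 = (j * j) * (j * j) by simp [pow_succ, mul_assoc], jj]
    simp [pow_succ, mul_assoc]
  have zp : ∀ x : GLm (ZMod p) M, x ^ 2 ^ 2 = 1 → IsPGroup 2 (zpowers x) := fun x hx => by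
    rintro ⟨_, k, rfl⟩
    exact ⟨2, Subtype.ext (by
      change (x ^ k) ^ 2 ^ 2 = 1
      rw [← zpow_natCast, ← zpow_mul, mul_comm, zpow_mul, zpow_natCast, hx, one_zpow])⟩
  have D2 : IsPGroup 2 (zpowers j ⊔ zpowers n : Subgroup _) :=
    IsPGroup.to_sup_of_normal_right' (zp j j4) (zp n n4) (zpowers_le.2 (mem_normalizer_fintype fun c hc => by
      obtain ⟨k, rfl⟩ := hc
      have : j * n * j⁻¹ = n⁻¹ := by
        rw [mul_inv_eq_iff_eq_mul, eq_inv_mul_iff_mul_eq, ← mul_assoc, njn]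
      rw [← conj_zpow, this]
      exact zpow_mem (inv_mem (mem_zpowers n)) k))
  have DG : zpowers j ⊔ zpowers n ≤ G ⊓ CE {q} := sup_le
    (zpowers_le.2 ⟨hj, by
      rintro _ rfl
      rw [ej]
      simp only [mul_add, add_mul, mul_sub, sub_mul, mul_smul_comm, smul_mul_assoc, mul_one, one_mul,
        ← mul_assoc, c1, c2]
      simp only [mul_assoc, c1, c2]⟩)
    (zpowers_le.2 ⟨hn, by
      rintro _ rfl
      rw [en]
      simp only [mul_add, add_mul, mul_sub, sub_mul, mul_one, one_mul, ← mul_assoc, c1, c2]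
      simp only [mul_assoc, c1, c2]⟩)
  obtain ⟨u, hu, e⟩ := @H1.glauberman_exists _ _ _ _ (cA _ _) (zpowers j ⊔ zpowers n) (G ⊓ UG q)
    (le_norm_iff_cj.2 fun d hd => cj_le_forall.2 fun g hg =>
      ⟨mul_mem (mul_mem (DG hd).1 hg.1) (G.inv_mem (DG hd).1), ug_cj ((DG hd).2 q rfl) hg.2⟩)
    (IsPGroup.coprime_card_of_ne 2 p (by omega) _ _ D2 ((ug_p h5).to_le inf_le_right))
    (.inl (haveI := D2.isNilpotent; inferInstance)) w fun d hd => by
      have := np_cj h d
      rw [(Units.mul_inv_eq_iff_eq_mul _).2 ((DG hd).2 q rfl)] at this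
      obtain ⟨u, hu, -, e⟩ := tu1 h5 hq hw (hw.conj (DG hd).1) h this
      exact ⟨u, hu, e.symm⟩
  have h1 := np_cj h u
  rw [show u.1 * q * u⁻¹.1 = q from (Units.mul_inv_eq_iff_eq_mul _).2 (by
    have a1 := hu.2.1
    have a2 := hu.2.2.1
    rw [mul_sub, mul_one, sub_eq_zero] at a1
    rw [sub_mul, one_mul, sub_eq_zero] at a2
    rw [a1, a2])] at h1
  have h2 := hw.conj hu.1
  change ∀ a ∈ zpowers j ⊔ zpowers n, a.1 * (u.1 * w * u⁻¹.1) * a⁻¹.1 = u.1 * w * u⁻¹.1 at e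
  generalize u.1 * w * u⁻¹.1 = x at e h1 h2
  replace e : ∀ a ∈ zpowers j ⊔ zpowers n, Commute x a.1 := fun a ha =>
    ((Units.mul_inv_eq_iff_eq_mul _).1 (e a ha)).symm
  have mj := mem_sup_left (T := zpowers n) (mem_zpowers j)
  have mn := mem_sup_right (S := zpowers j) (mem_zpowers n)
  have f1 := e _ mn
  have f2 := e _ mj
  have f3 := e _ (mul_mem mn mn)
  have f4 := e _ (mul_mem mn mj)
  rw [en] at f1; rw [ej] at f2; rw [nn] at f3; rw [nj] at f4
  have g : ∀ (c : ZMod p) y, c ≠ 0 → Commute x (c • y) → Commute x y := fun c y c0 h => by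
    simpa [c0] using h.smul_right c⁻¹
  have f0 : Commute x (1 - (s * t + t * s)) := (Commute.one_right x).sub_right (g 2 _ n2 (by
    simpa using (Commute.one_right x).sub_right f3))
  have k : ∀ {y} z, Commute x y → z = y → Commute x z := fun z h e => e ▸ h
  have f5 : Commute x (s + t) := by
    refine k _ (((f4.sub_right f0).smul_right a).sub_right ((f2.sub_right f0).smul_right b)) ?_
    match_scalars
    · linear_combination ab
    · linear_combination ab
    · ring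
    · ring
    · ring
  have f6 : Commute x (s - t) := by simpa using f1.sub_right f0
  exact ⟨x, h2, h1, g 2 _ n2 (k _ (f5.add_right f6) (by module)),
    g 2 _ n2 (k _ (f5.sub_right f6) (by module))⟩

end Lead.Fl
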