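import Cfsg.Agent.Lead.Fl2
import Cfsg.Agent.Lead.Fl3
import Cfsg.Agent.H25.Wc
import Cfsg.Agent.H16.ZS1

/-! Equivariant quadratic action: the induction. -/

set_option autoImplicit false
set_option linter.unusedSectionVars false

open Subgroup Cfsg H16 H16.H11 Module H4 Lead.Qf
open scoped MatrixGroups

universe u

namespace Lead.Fl

variable {p : ℕ} [hp : Fact p.Prime] {M : Type*} [AddCommGroup M] [Module (ZMod p) M]
  [Finite M] {Γ G H K K1 A R S Q : Subgroup (GLm (ZMod p) M)} {q s t w : End (ZMod p) M}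
  {a b g : GLm (ZMod p) M}

theorem qs_K (hq : ∀ g ∈ G, g ^ p = 1 → g ∈ K) (h : QS G q) : QS K q :=
  ⟨h.1, fun c => ⟨_, RG_le_K hq (ex_mem (Submodule.smul_mem _ c h.mem)), rfl⟩⟩

theorem qd_cj (g : GLm (ZMod p) M) (h : (b.1 - 1) * (b.1 - 1) = 0) :
    ((g * b * g⁻¹).1 - 1) * ((g * b * g⁻¹).1 - 1) = 0 := by
  have : (g * b * g⁻¹).1 - 1 = g.1 * (b.1 - 1) * g⁻¹.1 := by simp [mul_sub, sub_mul]
  rw [this]; simp [mul_assoc, mul_mul_zero h]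

theorem fix_iff : g.1 * s * g⁻¹.1 = s ↔ g.1 * s = s * g.1 := Units.mul_inv_eq_iff_eq_mul _

theorem cm_cj (g : GLm (ZMod p) M) (h : (g⁻¹ * b * g⁻¹⁻¹).1 * s = s * (g⁻¹ * b * g⁻¹⁻¹).1) :
    b.1 * (g.1 * s * g⁻¹.1) = g.1 * s * g⁻¹.1 * b.1 := by
  have := congrArg (fun x => g.1 * x * g⁻¹.1) h
  simpa [mul_assoc] using this

theorem dich (h5 : 5 ≤ p) (hG : EO G) (hn : G ≤ N[K]) (hq : ∀ g ∈ G, g ^ p = 1 → g ∈ K) (hs : Mn G s)
    (ht : Mn G t) (h : NP s t) (ha : a ∈ G) (hb : ¬ ∃ k ∈ K, RG G s :^ a = RG G s :^ k) :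
    (RG G s ⊔ RG G t) :^ a ≤ C[RG G s ⊔ RG G t] := by
  push Not at hb
  have nk : ∀ c ∈ K, a * c * a⁻¹ ∈ K := fun c hc => (mem_normalizer_iff.1 (hn ha) c).1 hc
  have ts : ∃ k ∈ K, RG G t = RG G s :^ k := ⟨(ex s hs.qs.1)⁻¹ * ex t ht.qs.1,
    mul_mem (inv_mem (RG_le_K hq (ex_mem hs.qs.mem))) (RG_le_K hq (ex_mem ht.qs.mem)), by
      rw [← cj_cj, h.cj_eq hs.qs ht.qs, cj_cj_inv]⟩
  have key : ∀ u v, Mn G u → Mn G v → (∃ k ∈ K, RG G u = RG G s :^ k) →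
      (∃ k ∈ K, RG G v = RG G s :^ k) → RG G v :^ a ≤ C[RG G u] := by
    rintro u v hu hv ⟨k, hk, e⟩ ⟨l, hl, e'⟩
    rw [RG_cj ha]
    refine cent_ofE h5 hG hq hu (hv.conj ha) fun c hc e'' => hb ((a * l * a⁻¹)⁻¹ * (c * k))
      (mul_mem (inv_mem (nk l hl)) (mul_mem hc hk)) ?_
    rw [← RG_cj ha, e, e', cj_cj, cj_cj] at e''
    rw [← cj_cj, ← e'', cj_cj]; congr 3; group
  have ss : ∃ k ∈ K, RG G s = RG G s :^ k := ⟨1, one_mem _, (cj_one _).symm⟩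
  refine cent_symm (sup_le (cent_symm ?_) (cent_symm ?_)) <;> rw [cj_sup]
  exacts [sup_le (key _ _ hs hs ss ss) (key _ _ hs ht ss ts),
    sup_le (key _ _ ht hs ts ss) (key _ _ ht ht ts ts)]

theorem weyl (hs : QS G s) (ht : QS G t) (s0 : s ≠ 0) (h : NP s t) (hn : R ≤ N[K])
    (hq : ∀ g ∈ G, g ^ p = 1 → g ∈ K)
    (hd : ∀ a ∈ R, (a.1 * s * a⁻¹.1 = s ∧ a.1 * t * a⁻¹.1 = t) ∨
      (RG G s ⊔ RG G t) :^ a ≤ C[RG G s ⊔ RG G t]) :
    ∃ n ∈ K ⊓ C[R], n.1 * s * n⁻¹.1 = -t := by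
  obtain ⟨φ, h1, h2, h3⟩ := sl2_hom (algebraMap (ZMod p) (End (ZMod p) M)).toAddMonoidHom hs.1
    ht.1 h.1 h.2 (algebraMap (ZMod p) (End (ZMod p) M)).map_mul
    (fun a => (Algebra.commutes a s).symm) (fun a => (Algebra.commutes a t).symm) (by simp) (by simp)
    (fun a ha => (smul_eq_zero.1 ((Algebra.smul_def a s).trans ha)).resolve_right s0)
  replace h2 : ∀ c, (φ (upT c)).1 = 1 + c • s := fun c => by rw [h2, Algebra.smul_def]; rfl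
  replace h3 : ∀ c, (φ (loT c)).1 = 1 + c • t := fun c => by rw [h3, Algebra.smul_def]; rfl
  have gen : ∀ H : Subgroup (GLm (ZMod p) M), (∀ c, φ (upT c) ∈ H) → (∀ c, φ (loT c) ∈ H) →
      ∀ x, φ x ∈ H := fun H a b x =>
    (sl2_eq_top_of_upT_loT (H := H.comap φ) a b).ge (mem_top x)
  have m : ∀ x, φ x ∈ RG G s ⊔ RG G t := gen _
    (fun c => mem_sup_left (by rw [mem_RG, h2, add_sub_cancel_left]; exact Submodule.smul_mem _ c hs.mem))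
    (fun c => mem_sup_right (by rw [mem_RG, h3, add_sub_cancel_left]; exact Submodule.smul_mem _ c ht.mem))
  obtain ⟨ψ, p1, p2⟩ := diag2 hn φ (fun x => sup_le (RG_le_K hq) (RG_le_K hq) (m x))
    fun a ha => by
      rcases hd a ha with ⟨e1, e2⟩ | e
      · have : ∀ (g : GLm (ZMod p) M) (c : ZMod p) (u : End (ZMod p) M), g.1 = 1 + c • u →
            a.1 * u * a⁻¹.1 = u → g ∈ C1[a] := fun g c u e e' =>
          mem_centralizer_singleton_iff.2 (mul_inv_eq_iff_eq_mul.1 (Units.ext (by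
            rw [Units.val_mul, Units.val_mul, e, mul_add, add_mul, mul_smul_comm, smul_mul_assoc, e']
            simp))).symm
        exact .inl fun x => mul_inv_eq_iff_eq_mul.2 (mem_centralizer_singleton_iff.1
          (gen _ (fun c => this _ _ _ (h2 c) e1) (fun c => this _ _ _ (h3 c) e2) x)).symm
      · exact .inr fun x y => e (cj_mem (m y)) _ (m x)
  let x0 : SL(2, ZMod p) := ⟨!![0, 1; -1, 0], by simp [Matrix.det_fin_two]⟩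
  have e0 : x0 * upT 1 * x0⁻¹ = loT (-1) := by
    rw [mul_inv_eq_iff_eq_mul]
    refine Subtype.ext ?_
    change (!![0, 1; -1, 0] * !![1, 1; 0, 1] : Matrix (Fin 2) (Fin 2) (ZMod p)) =
      !![1, 0; -1, 1] * !![0, 1; -1, 0]
    simp
  refine ⟨ψ x0, p1 _, ?_⟩
  have := congrArg Units.val (p2 x0 (upT 1))
  rw [← map_inv φ, ← map_mul, ← map_mul, e0, h3, Units.val_mul, Units.val_mul, h2] at this
  simpa [mul_add, add_mul] using this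

theorem lc (h5 : 5 ≤ p) (hp' : (Nat.card R).Coprime p) (hR : Group.IsSolvable R) (n : ℕ) :
    ∀ K Q : Subgroup (GLm (ZMod p) M), Nat.card K = n → R ≤ N[K] →
      (Nat.card R).Coprime (Nat.card K) → JM K → Q ≤ K → IsPGroup p Q → R ≤ N[Q] →
      K ⊓ C[R] ≤ N[Q] → ∀ a ∈ Q, (a.1 - 1) * (a.1 - 1) = 0 → a = 1 := by
  induction n using Nat.strong_induction_on with
  | _ n ih =>
  intro K Q hn nK hc hJ hQ pQ nQ cQ a ha a2
  by_contra a1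
  obtain ⟨G, hG⟩ : ∃ G, G = K ⊔ R := ⟨_, rfl⟩
  have hK : K ≤ G := hG ▸ le_sup_left
  have hA : R ≤ G := hG ▸ le_sup_right
  have nG : G ≤ N[K] := hG ▸ sup_le le_normalizer nK
  have hq : ∀ g ∈ G, g ^ p = 1 → g ∈ K := hG ▸ hq_sup nK hp'
  have eo : EO G := eo_of_jm fun q h => let ⟨t, h1, h2⟩ := hJ q (qs_K hq h); ⟨t, h1.mono hK, h2⟩
  obtain ⟨s0, hs0⟩ : ∃ s, Mn G s := by
    classical
    have ex : ∃ n, ∃ s, QS G s ∧ s ≠ 0 ∧ rk s = n := ⟨_, _, qs_of (hK (hQ ha)) a2, sub_ne a1, rfl⟩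
    obtain ⟨s, h1, h2, h3⟩ := Nat.find_spec ex
    exact ⟨s, h1, h2, fun t ht t0 => h3 ▸ Nat.find_min' ex ⟨t, ht, t0, rfl⟩⟩
  obtain ⟨S, hS, QS', nS⟩ := H1.exists_invariant_sylowOf_ge nK hc (.inl hR) hQ pQ nQ
  obtain ⟨s1, hs1, z1⟩ := H16.ZS.zs h5 hK hq hS hs0
  have nW : R ≤ N[closure (QD (ZMod p) M ∩ S)] := le_norm_iff_cj.2 fun c hc =>
    map_le_iff_le_comap.2 ((closure_le _).2 fun d hd => subset_closure (k := QD (ZMod p) M ∩ S)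
      ⟨qd_cj c hd.1, (mem_normalizer_iff.1 (nS hc) d).1 hd.2⟩)
  obtain ⟨m, hm, s, t, es, hs, ht, h, hf⟩ := fp h5 eo hK hA nG hc hR hq
    (K1 := K ⊓ N[closure (QD (ZMod p) M ∩ S)]) inf_le_left
    (H1.le_normalizer_inf nK (nW.trans le_normalizer)) hs1 fun c hc k hk e => by
      obtain ⟨m, hm, e'⟩ := @H25.Wc.wc p _ _ _ _ _ (cA _ _) K S (QD (ZMod p) M) (fun k _ d hd => qd_cj k hd)
        hS s1 k hk (fun d hd hd' => fix_iff.2 (z1 d hd' hd)) fun d hd hd' => fix_iff.2 (by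
          change d.1 * (k.1 * s1 * k⁻¹.1) = k.1 * s1 * k⁻¹.1 * d.1
          rw [← e]
          exact cm_cj c (z1 _ ((mem_normalizer_iff.1 (nS (inv_mem hc)) d).1 hd') (qd_cj _ hd)))
      exact ⟨m, hm, e.trans e'.symm⟩
  have z2 : ∀ b ∈ Q, (b.1 - 1) * (b.1 - 1) = 0 → b.1 * s = s * b.1 := fun b hb b2 => by
    rw [es]
    exact cm_cj m (((closure_le (CE {s1})).2 fun d hd x hx => hx ▸ z1 d hd.2 hd.1)
      ((mem_normalizer_iff.1 (inv_mem hm.2) b).1 (subset_closure ⟨b2, QS' hb⟩)) s1 rfl)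
  have hd : ∀ a ∈ R, (a.1 * s * a⁻¹.1 = s ∧ a.1 * t * a⁻¹.1 = t) ∨
      (RG G s ⊔ RG G t) :^ a ≤ C[RG G s ⊔ RG G t] := fun a ha =>
    (em _).imp (hf a ha) (dich h5 eo nG hq hs ht h (hA ha))
  obtain ⟨v, hv, ev⟩ := weyl hs.qs ht.qs hs.ne h nK hq hd
  have z3 : ∀ b ∈ Q, (b.1 - 1) * (b.1 - 1) = 0 → b.1 * t = t * b.1 := fun b hb b2 => by
    have := cm_cj v (z2 _ ((mem_normalizer_iff.1 (inv_mem (cQ hv)) b).1 hb) (qd_cj _ b2))
    rwa [ev, mul_neg, neg_mul, neg_inj] at this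
  let P : Set (End (ZMod p) M × End (ZMod p) M) :=
    {x | ∃ c ∈ R, x = (c.1 * s * c⁻¹.1, c.1 * t * c⁻¹.1)}
  have hJ' := jmc (fun G q w s t => jmp h5) hJ P (by
    rintro _ ⟨c, hc, rfl⟩
    exact ⟨qs_K hq (hs.qs.conj (hA hc)), qs_K hq (ht.qs.conj (hA hc)), np_cj h c⟩) (by
    rintro _ ⟨c, hc, rfl⟩ _ ⟨d, hd', rfl⟩ hne
    have m := mul_mem (inv_mem hc) hd'
    have e : ∀ x : End (ZMod p) M, d.1 * x * d⁻¹.1 = c.1 * ((c⁻¹ * d).1 * x * (c⁻¹ * d)⁻¹.1) * c⁻¹.1 :=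
      fun x => by rw [cj_cj', mul_inv_cancel_left]
    rcases hd _ m with ⟨e1, e2⟩ | e1
    · exact absurd (by rw [e s, e t, e1, e2]) hne
    have key : ∀ x y, QS G x → QS G y → RG G x ≤ RG G s ⊔ RG G t → RG G y ≤ RG G s ⊔ RG G t →
        Commute (c.1 * x * c⁻¹.1) (d.1 * y * d⁻¹.1) := fun x y hx hy l1 l2 => by
      have := commute_of_cent (hy.conj (hA m)) hx (by
        rw [← RG_cj (hA m)]; exact (map_mono l2).trans (e1.trans (cent_anti l1)))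
      rw [e y, Commute, SemiconjBy]
      generalize (c⁻¹ * d).1 * y * (c⁻¹ * d)⁻¹.1 = z at this
      simp only [mul_assoc, Units.inv_mul_cancel_left]
      rw [← mul_assoc z, this, mul_assoc]
    exact ⟨key _ _ hs.qs hs.qs le_sup_left le_sup_left, key _ _ hs.qs ht.qs le_sup_left le_sup_right,
      key _ _ ht.qs ht.qs le_sup_right le_sup_right⟩)
  have mC : ∀ b, b ∈ CE (Prod.fst '' P ∪ Prod.snd '' P) ↔ ∀ c ∈ R,
      b.1 * (c.1 * s * c⁻¹.1) = c.1 * s * c⁻¹.1 * b.1 ∧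
        b.1 * (c.1 * t * c⁻¹.1) = c.1 * t * c⁻¹.1 * b.1 := fun b =>
    ⟨fun hb c hc => ⟨hb _ (.inl ⟨_, ⟨c, hc, rfl⟩, rfl⟩), hb _ (.inr ⟨_, ⟨c, hc, rfl⟩, rfl⟩)⟩, by
      rintro hb _ (⟨_, ⟨c, hc, rfl⟩, rfl⟩ | ⟨_, ⟨c, hc, rfl⟩, rfl⟩)
      exacts [(hb c hc).1, (hb c hc).2]⟩
  generalize CE (Prod.fst '' P ∪ Prod.snd '' P) = Y at hJ' mC
  have nY : R ≤ N[Y] := le_norm_iff_cj.2 fun c hc => cj_le_forall.2 fun b hb => (mC _).2 fun d hd => by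
    have := (mC b).1 hb _ (mul_mem (inv_mem hc) hd)
    have e : ∀ x : End (ZMod p) M, d.1 * x * d⁻¹.1 = c.1 * ((c⁻¹ * d).1 * x * (c⁻¹ * d)⁻¹.1) * c⁻¹.1 :=
      fun x => by rw [cj_cj', mul_inv_cancel_left]
    rw [e s, e t]
    refine ⟨cm_cj c ?_, cm_cj c ?_⟩ <;> rw [show c⁻¹ * (c * b * c⁻¹) * c⁻¹⁻¹ = b by group]
    exacts [this.1, this.2]
  have hlt : Nat.card (K ⊓ Y : Subgroup _) < n :=
    hn ▸ lt_of_le_of_ne (card_le_of_le (inf_le_left : K ⊓ Y ≤ K)) fun e => by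
      replace e := eq_of_le_of_card_ge (inf_le_left : K ⊓ Y ≤ K) e.ge
      have := ((mC _).1 (e.ge (RG_le_K hq (ex_mem hs.qs.mem))).2 1 (one_mem _)).2
      simp only [ex, Units.val_one, inv_one, one_mul, mul_one, add_mul, mul_add, add_right_inj] at this
      exact hs.ne (by rw [← h.1, ← this, mul_mul_zero hs.qs.1])
  refine a1 (ih _ hlt (K ⊓ Y) (Q ⊓ Y) rfl (H1.le_normalizer_inf nK nY)
    (hc.coprime_dvd_right (card_dvd_of_le inf_le_left)) hJ' (inf_le_inf_right _ hQ)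
    (pQ.to_le inf_le_left) (H1.le_normalizer_inf nQ nY) (H1.le_normalizer_inf
      ((inf_le_inf_right _ inf_le_left).trans cQ)
      ((inf_le_left.trans inf_le_right).trans le_normalizer)) a ⟨ha, (mC a).2 fun c hc => ?_⟩ a2)
  have m := (mem_normalizer_iff.1 (inv_mem (nQ hc)) a).1 ha
  exact ⟨cm_cj c (z2 _ m (qd_cj _ a2)), cm_cj c (z3 _ m (qd_cj _ a2))⟩

theorem core2 (h5 : 5 ≤ p) : Core2 p := fun _ _ _ _ _ K _ Q hi hK hn nK hc hp' hR =>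
  lc h5 hp' hR _ K Q rfl nK hc (jm_of_op h5 (fun _ _ _ _ _ => jmp h5) (op_of_irr hi hK hn))

end Lead.Fl
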