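import Cfsg.Agent.H12.Link
import Cfsg.Agent.H12.Tate

/-! Noncyclic coprime operator groups: definitions. -/

set_option autoImplicit false

open Subgroup Cfsg H4 H12
open scoped commutatorElement

namespace Lead.Fv

variable {X : Type*} [Group X]

/-- the local hypothesis -/
def Hyp (p : ℕ) (G R : Subgroup X) : Prop := ∀ a ∈ R, a ≠ 1 → ∃ T ≤ G, IsPGroup p T ∧ R ≤ 𝒩 T ∧
  G ⊓ centralizer {a} ≤ 𝒩 T ∧ IsPGroup p (⁅res p (G ⊓ centralizer {a} ⊓ 𝒞 T), R⁆ : Subgroup X)

/-- the conclusion -/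
def Phi (p : ℕ) (G R : Subgroup X) : Prop :=
  IsPGroup p (⁅G ⊓ 𝒞 (pCoreOf p G), R⁆ : Subgroup X)

/-- the `p`-residual of the generalized Fitting subgroup -/
def NF (p : ℕ) (G : Subgroup X) : Subgroup X :=
  ((pResidual p (generalizedFittingSubgroup G)).map (generalizedFittingSubgroup G).subtype).map G.subtype

end Lead.Fv
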