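import Cfsg.Agent.Lead.Fv0
import Cfsg.Agent.S0058
import Cfsg.Agent.H4.Up1
import Cfsg.Agent.H10.Eq1
import Cfsg.Agent.H12.Hm
import Cfsg.Agent.H12.Link2

/-! Noncyclic coprime operator groups: the induction. -/

set_option autoImplicit false
set_option linter.unusedSectionVars false

open Subgroup Cfsg H4 H12 H4.Up H10.Eq1 H12.Hm H12.Link
open scoped commutatorElement

universe u

namespace Lead.Fv

variable {X : Type u} [Group X] [Finite X] {p : ℕ} [hp : Fact p.Prime] {G H N R P Q D Y : Subgroup X}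

theorem st {T T' : Subgroup X} {y : X} (hT' : IsPGroup p T') (hy : (orderOf y).Coprime p)
    (h : ⁅T, zpowers y⁆ ≤ T') (h' : y ∈ 𝒞 T') : y ∈ 𝒞 T := by
  obtain ⟨k, hk⟩ := hT'.exists_card_eq
  exact H1.le_centralizer_of_commutator_le h (le_centralizer_iff.1 (zpowers_le.2 h'))
    (by rw [Nat.card_zpowers, hk]; exact hy.pow_right k) (mem_zpowers y)

theorem cent_le {a : X} (ha : a ∈ R) : G ⊓ 𝒞 R ≤ G ⊓ centralizer {a} :=
  inf_le_inf_left _ (centralizer_le (Set.singleton_subset_iff.2 ha))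

theorem hyp_normal (hN : N ≤ G) (hn : G ≤ 𝒩 N) (hR : R ≤ 𝒩 N) (h : Hyp p G R) : Hyp p N R :=
  fun a ha a1 => by
  obtain ⟨T, h1, h2, h3, h4, h5⟩ := h a ha a1
  refine ⟨T ⊓ N, inf_le_right, h2.to_inf_left, H1.le_normalizer_inf h3 hR, H1.le_normalizer_inf
    ((inf_le_inf_right _ hN).trans h4) (inf_le_left.trans le_normalizer), h5.to_le
    (commutator_mono (res_le_iff.2 fun y hy hc => mem_res ⟨⟨hN hy.1.1, hy.1.2⟩, st h2.to_inf_left hc
      (le_inf ?_ ?_) hy.2⟩ hc) le_rfl)⟩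
  · exact le_normalizer_iff_commutator_le_left.1 (zpowers_le.2 (h4 ⟨hN hy.1.1, hy.1.2⟩))
  · exact (commutator_mono le_rfl (zpowers_le.2 hy.1.1)).trans
      (le_normalizer_iff_commutator_le_right.1 (h1.trans hn))

/-- the largest invariant `p`-subgroup -/
structure Big (p : ℕ) (G R P : Subgroup X) : Prop where
  le : P ≤ G
  pg : IsPGroup p P
  nR : R ≤ 𝒩 P
  nC : G ⊓ 𝒞 R ≤ 𝒩 P
  max : ∀ Q ≤ G, IsPGroup p Q → R ≤ 𝒩 Q → G ⊓ 𝒞 R ≤ 𝒩 Q → Q ≤ P

theorem exists_big (hn : R ≤ 𝒩 G) (hc : (Nat.card R).Coprime (Nat.card G)) (hs : Group.IsSolvable R) :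
    ∃ P, Big p G R P := by
  obtain ⟨S, hS, nS⟩ := H1.exists_invariant_sylowOf p hn hc (.inl hs)
  have key : ∀ Q ≤ G, IsPGroup p Q → R ≤ 𝒩 Q → G ⊓ 𝒞 R ≤ 𝒩 Q → Q ≤ S := fun Q h1 h2 h3 h4 => by
    obtain ⟨S', hS', h5, nS'⟩ := H1.exists_invariant_sylowOf_ge hn hc (.inl hs) h1 h2 h3
    obtain ⟨c, hc', e⟩ := H1.invariant_sylowOf_conj hn hc (.inl hs) hS' hS nS' nS
    intro x hx
    rw [← e]
    exact ⟨c⁻¹ * x * c⁻¹⁻¹, h5 ((mem_normalizer_iff.1 (inv_mem (h4 hc')) x).1 hx), by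
      simp [mul_assoc]⟩
  obtain ⟨P, ⟨h1, h2, h3, h4⟩, hm⟩ := (Set.toFinite {Q : Subgroup X | Q ≤ G ∧ IsPGroup p Q ∧ R ≤ 𝒩 Q ∧
    G ⊓ 𝒞 R ≤ 𝒩 Q}).exists_maximal ⟨⊥, bot_le, IsPGroup.of_bot, le_normalizer_of_normal,
      le_normalizer_of_normal⟩
  exact ⟨P, h1, h2, h3, h4, fun Q q1 q2 q3 q4 => le_sup_right.trans (hm (y := P ⊔ Q) ⟨sup_le h1 q1,
    (H1.isPiHallOf_singleton_iff.1 hS).2.1.to_le (sup_le (key P h1 h2 h3 h4) (key Q q1 q2 q3 q4)),
    H1.le_normalizer_sup h3 q3, H1.le_normalizer_sup h4 q4⟩ le_sup_left)⟩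

theorem hyp_local (hP : Big p G R P) (hQ : Q ≤ P) (hR : R ≤ 𝒩 Q) (h : Hyp p G R) :
    Hyp p (G ⊓ 𝒩 Q) R := fun a ha a1 => by
  obtain ⟨T, h1, h2, h3, h4, h5⟩ := h a ha a1
  have h6 : T ⊔ Q ≤ P := sup_le (hP.max T h1 h2 h3 ((cent_le ha).trans h4)) hQ
  have h7 := hP.pg.to_le h6
  have h8 : G ⊓ 𝒩 Q ⊓ centralizer {a} ≤ 𝒩 (T ⊔ Q : Subgroup X) := H1.le_normalizer_sup
    ((inf_le_inf_right _ inf_le_left).trans h4) (inf_le_left.trans inf_le_right)
  refine ⟨(T ⊔ Q) ⊓ 𝒩 Q, inf_le_inf_right _ (h6.trans hP.le), h7.to_inf_left,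
    H1.le_normalizer_inf (H1.le_normalizer_sup h3 hR) (hR.trans le_normalizer),
    H1.le_normalizer_inf h8 ((inf_le_left.trans inf_le_right).trans le_normalizer), h5.to_le
    (commutator_mono (res_le_iff.2 fun y hy hc => mem_res ⟨⟨hy.1.1.1, hy.1.2⟩, ?_⟩ hc) le_rfl)⟩
  have h9 : (T ⊔ Q) ⊓ 𝒩 Q ≤ 𝒞 (zpowers y) := le_centralizer_iff.1 (zpowers_le.2 hy.2)
  exact centralizer_le (le_sup_left : T ≤ T ⊔ Q) (H1.thompson_PQ (hP.pg.to_le hQ)
    (by rwa [Nat.card_zpowers]) ((le_inf le_sup_right le_normalizer).trans h9) (T ⊔ Q) h7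
    (le_sup_right.trans le_normalizer) (zpowers_le.2 (h8 hy.1))
    ((inf_le_inf_left _ (centralizer_le_normalizer _)).trans h9) (mem_zpowers y))

theorem cs (core : Lead.Fl.Core2.{u} p) (hn : R ≤ 𝒩 H) (hc : (Nat.card R).Coprime (Nat.card H))
    (hs : Group.IsSolvable R) (h : Phi p H R) (hP : IsPGroup p P) (hPH : P ≤ H) (hRP : R ≤ 𝒩 P)
    (hCP : H ⊓ 𝒞 R ≤ 𝒩 P) (hT : pCoreOf p H ≤ P) : ⁅H, R⁆ ≤ 𝒩 (inducedFunctor kInfLower P) := by
  have h1 := rc hn hc hs h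
  have nO : 𝒩 H ≤ 𝒩 (pCoreOf p H) := H11.normalizer_le_normalizer_pCoreOf H
  obtain ⟨N, hN⟩ : ∃ N, N = res p (H ⊓ 𝒞 (pCoreOf p H)) := ⟨_, rfl⟩
  have nN : 𝒩 H ≤ 𝒩 N := hN ▸ (H1.le_normalizer_inf le_rfl (H1.le_normalizer_centralizer nO)).trans
    (normalizer_le_normalizer_res _)
  have lN : N ≤ H ⊓ 𝒞 (pCoreOf p H) := hN ▸ res_le _
  rw [← hN] at h1
  have nS : 𝒩 H ≤ 𝒩 (H ⊓ 𝒞 N : Subgroup X) := H1.le_normalizer_inf le_rfl (H1.le_normalizer_centralizer nN)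
  have NP : N ≤ 𝒩 P := (le_inf (lN.trans inf_le_left) (le_centralizer_iff.1 h1)).trans hCP
  have PN : P ⊓ N ≤ pCoreOf p H := (H11.le_pCoreOf inf_le_right (H1.le_normalizer_inf NP le_normalizer)
    hP.to_inf_left).trans (H11.le_pCoreOf ((H11.pCoreOf_le _).trans (lN.trans inf_le_left))
      (le_normalizer.trans (nN.trans (H11.normalizer_le_normalizer_pCoreOf N))) (H11.isPGroup_pCoreOf _))
  have PC : N ≤ 𝒞 P := hN.le.trans (res_le_iff.2 fun y hy hc' => st (H11.isPGroup_pCoreOf H) hc'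
    (le_trans (le_inf (le_normalizer_iff_commutator_le_left.1 (zpowers_le.2 (NP (hN.ge (mem_res hy hc')))))
      ((commutator_mono le_rfl (zpowers_le.2 (hN.ge (mem_res hy hc')))).trans
        (le_normalizer_iff_commutator_le_right.1 (hPH.trans (le_normalizer.trans nN))))) PN) hy.2)
  have eO : pCoreOf p (H ⊓ 𝒞 N) = pCoreOf p H := by
    rw [H11.pCoreOf_eq_inf_of_le_normalizer inf_le_left (le_normalizer.trans nS), inf_eq_left]
    exact le_inf (H11.pCoreOf_le _) (le_centralizer_iff.1 (lN.trans inf_le_right))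
  refine le_trans (le_inf (le_normalizer_iff_commutator_le_left.1 hn) ?_) (link2 (G := H ⊓ 𝒞 N) core
    (hn.trans nS) (hc.coprime_dvd_right (card_dvd_of_le inf_le_left)) hs hP
    (le_inf hPH (le_centralizer_iff.1 PC)) hRP ((inf_le_inf_right _ inf_le_left).trans hCP) (eO ▸ hT) ?_)
  · exact (commutator_mono le_rfl h1).trans (le_normalizer_iff_commutator_le_right.1
      (H1.le_normalizer_centralizer (le_normalizer.trans nN)))
  · rw [eO]
    exact (res_mono (inf_le_inf_right _ inf_le_left)).trans (hN.ge.trans (le_centralizer_iff.1 inf_le_right))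

theorem w_norm (hP : IsPGroup p P) : 𝒩 P ≤ 𝒩 (inducedFunctor kInfLower P) :=
  haveI : (kInfLower P).Characteristic := characteristic_iff_map_eq.2 fun φ =>
    isCharPFunctor_kInfLower.2 P P hP φ
  H1.normalizer_le_normalizer_map_char P _

theorem w_ne (hP : IsPGroup p P) (h : P ≠ ⊥) : inducedFunctor kInfLower P ≠ ⊥ := fun e =>
  isCharPFunctor_kInfLower.1 P hP ((nontrivial_iff_ne_bot P).2 h)
    ((map_eq_bot_iff_of_injective _ P.subtype_injective).1 e)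

theorem chain (core : Lead.Fl.Core2.{u} p) (hn : R ≤ 𝒩 G) (hc : (Nat.card R).Coprime (Nat.card G))
    (hs : Group.IsSolvable R) (hP : Big p G R P)
    (ih : ∀ Q ≤ P, Q ≠ ⊥ → R ≤ 𝒩 Q → Phi p (G ⊓ 𝒩 Q) R) (hD : D ≤ G) (eD : D ≤ ⁅D, R⁆) (n : ℕ) :
    ∀ Q ≤ P, Q ≠ ⊥ → R ≤ 𝒩 Q → G ⊓ 𝒞 R ≤ 𝒩 Q → D ≤ 𝒩 Q →
      Nat.card P ≤ Nat.card (P ⊓ 𝒩 Q : Subgroup X) + n → D ≤ 𝒩 (inducedFunctor kInfLower P) := by
  induction n using Nat.strong_induction_on with
  | _ n ihn =>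
  intro Q h1 h0 h2 h3 h4 h5
  have nH : R ≤ 𝒩 (G ⊓ 𝒩 Q : Subgroup X) := H1.le_normalizer_inf hn (h2.trans le_normalizer)
  have p1 : IsPGroup p (P ⊓ 𝒩 Q : Subgroup X) := hP.pg.to_inf_left
  have r1 : R ≤ 𝒩 (P ⊓ 𝒩 Q : Subgroup X) := H1.le_normalizer_inf hP.nR (h2.trans le_normalizer)
  have c1 : G ⊓ 𝒞 R ≤ 𝒩 (P ⊓ 𝒩 Q : Subgroup X) := H1.le_normalizer_inf hP.nC (h3.trans le_normalizer)
  have h6 := (eD.trans (commutator_mono (le_inf hD h4) le_rfl)).trans (cs core nH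
    (hc.coprime_dvd_right (card_dvd_of_le inf_le_left)) hs (ih Q h1 h0 h2) p1 (inf_le_inf_right _ hP.le) r1
    ((inf_le_inf_right _ inf_le_left).trans c1) (le_inf (hP.max _ ((H11.pCoreOf_le _).trans inf_le_left)
      (H11.isPGroup_pCoreOf _) (nH.trans (H11.normalizer_le_normalizer_pCoreOf _))
      ((le_inf inf_le_left h3).trans (H11.le_normalizer_pCoreOf _))) ((H11.pCoreOf_le _).trans inf_le_right)))
  rcases (inf_le_left : P ⊓ 𝒩 Q ≤ P).eq_or_lt with e | e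
  · rwa [e] at h6
  have h7 := (lt_inf_normalizer hP.pg e).trans_le (inf_le_inf_left _ (w_norm p1))
  have h8 := lt_of_le_of_ne (card_le_of_le h7.le) fun e' => h7.ne (eq_of_le_of_card_ge h7.le e'.ge)
  have h9 := lt_of_le_of_ne (card_le_of_le e.le) fun e' => e.ne (eq_of_le_of_card_ge e.le e'.ge)
  exact ihn (n - 1) (by omega) (inducedFunctor kInfLower (P ⊓ 𝒩 Q)) ((map_subtype_le _).trans inf_le_left)
    (w_ne p1 fun e => h0 (eq_bot_iff.2 ((le_inf h1 le_normalizer).trans e.le))) (r1.trans (w_norm p1))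
    (c1.trans (w_norm p1)) h6 (by omega)

theorem core_case (core : Lead.Fl.Core2.{u} p) (hn : R ≤ 𝒩 G) (hc : (Nat.card R).Coprime (Nat.card G))
    [hab : IsMulCommutative R] (hnc : ¬ IsCyclic R) (h : Hyp p G R) (h0 : pCoreOf p G = ⊥)
    (ih : ∀ H < G, R ≤ 𝒩 H → Hyp p H R → Phi p H R) : ⁅G, R⁆ = ⊥ := by
  have hs : Group.IsSolvable R := Group.isSolvable_of_comm hab.is_comm.comm
  obtain ⟨P, hP⟩ := exists_big (p := p) hn hc hs
  have hb : ∀ Q ≤ P, G ≤ 𝒩 Q → Q = ⊥ := fun Q h1 h2 => eq_bot_iff.2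
    ((H11.le_pCoreOf (h1.trans hP.le) h2 (hP.pg.to_le h1)).trans h0.le)
  have nC : ∀ a ∈ R, R ≤ 𝒩 (G ⊓ centralizer {a} : Subgroup X) := fun a ha =>
    H1.le_normalizer_inf hn (le_trans (fun b hb => mem_centralizer_singleton_iff.2
      (congrArg Subtype.val (hab.is_comm.comm ⟨b, hb⟩ ⟨a, ha⟩))) le_normalizer)
  have cC : ∀ a, (Nat.card R).Coprime (Nat.card (G ⊓ centralizer {a} : Subgroup X)) := fun a =>
    hc.coprime_dvd_right (card_dvd_of_le inf_le_left)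
  have lC : ∀ a ∈ R, ⁅G ⊓ centralizer {a}, R⁆ ≤ G ⊓ centralizer {a} := fun a ha =>
    le_normalizer_iff_commutator_le_left.1 (nC a ha)
  have key : ∀ a ∈ R, a ≠ 1 → (P ≠ ⊥ ∧ ⁅G ⊓ centralizer {a}, R⁆ ≤ 𝒩 (inducedFunctor kInfLower P)) ∨
      ⁅G ⊓ centralizer {a}, R⁆ ≤ P := fun a ha a1 => by
    obtain ⟨T, h1, h2, h3, h4, h5⟩ := h a ha a1
    by_cases hT : T = ⊥
    · rw [hT, show 𝒞 (⊥ : Subgroup X) = ⊤ from eq_top_iff.2 fun x _ y hy => by
        rw [mem_bot.1 hy]; simp, inf_top_eq] at h5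
      exact .inr (hP.max _ ((lC a ha).trans inf_le_left) (up (nC a ha) (cC a) hs h5)
        (H1.le_normalizer_commutator (nC a ha) le_normalizer)
        (H1.le_normalizer_commutator ((cent_le ha).trans le_normalizer)
          (inf_le_right.trans (centralizer_le_normalizer _))))
    have h6 := hP.max T h1 h2 h3 ((cent_le ha).trans h4)
    exact .inl ⟨fun e => hT (eq_bot_iff.2 (h6.trans e.le)), chain core hn hc hs hP (fun Q q1 q0 q2 =>
      ih _ (lt_of_le_of_ne inf_le_left fun e => q0 (hb Q q1 (e.ge.trans inf_le_right)))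
        (H1.le_normalizer_inf hn (q2.trans le_normalizer)) (hyp_local hP q1 q2 h))
      ((lC a ha).trans inf_le_left) (H1.commutator_commutator_eq (nC a ha) (cC a) (.inl hs)).ge _ T h6 hT
      h3 ((cent_le ha).trans h4) ((lC a ha).trans h4) (Nat.le_add_left _ _)⟩
  have gen : ∀ M : Subgroup X, G ⊓ 𝒞 R ≤ M → (∀ a ∈ R, a ≠ 1 → ⁅G ⊓ centralizer {a}, R⁆ ≤ M) → G ≤ M :=
    fun M h1 h2 => (Cfsg.Agent.S0058.result R G hnc hn hc).ge.trans (iSup₂_le fun a ha =>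
      (H1.commutator_sup_centralizer (nC a ha.1) (cC a) (.inl hs)).ge.trans (sup_le (h2 a ha.1 ha.2)
        ((inf_le_inf_right _ inf_le_left).trans h1)))
  have hP0 : P = ⊥ := by_contra fun hP0 => w_ne hP.pg hP0 (hb _ (map_subtype_le _)
    (gen _ (hP.nC.trans (w_norm hP.pg)) fun a ha a1 => (key a ha a1).elim (·.2)
      fun e => e.trans (le_normalizer.trans (w_norm hP.pg))))
  exact commutator_eq_bot_iff_le_centralizer.2 (gen _ inf_le_right fun a ha a1 =>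
    (((key a ha a1).resolve_left fun e => e.1 hP0).trans hP0.le).trans bot_le)

theorem hyp_sub {Γ : Subgroup X} (hG : G ≤ Γ) (h : Hyp p G R) :
    Hyp p (G.subgroupOf Γ) (R.subgroupOf Γ) := fun a ha a1 => by
  obtain ⟨T, h1, h2, h3, h4, h5⟩ := h a ha fun e => a1 (Subtype.ext e)
  have hn : ∀ {A : Subgroup Γ}, A.map Γ.subtype ≤ 𝒩 T → A ≤ 𝒩 (T.subgroupOf Γ) := fun h x hx =>
    mem_normalizer_fintype fun y hy => (mem_normalizer_iff.1 (h ⟨x, hx, rfl⟩) y.1).1 hy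
  have h6 : (G.subgroupOf Γ ⊓ centralizer {a}).map Γ.subtype ≤ G ⊓ centralizer {a.1} := by
    rintro _ ⟨x, hx, rfl⟩
    exact ⟨hx.1, mem_centralizer_singleton_iff.2
      (congrArg Subtype.val (mem_centralizer_singleton_iff.1 hx.2))⟩
  refine ⟨T.subgroupOf Γ, comap_mono h1, h2.comap_subtype, hn ((map_comap_le _ _).trans h3),
    hn (h6.trans h4), h5.comap_subtype.to_le (map_le_iff_le_comap.1 ?_)⟩
  rw [map_commutator, map_res]
  refine commutator_mono (res_mono ?_) (map_comap_le _ _)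
  rintro _ ⟨x, hx, rfl⟩
  exact ⟨h6 ⟨x, hx.1, rfl⟩, fun y hy => congrArg Subtype.val (hx.2 ⟨y, hG (h1 hy)⟩ hy)⟩

theorem main (core : Lead.Fl.Core2.{u} p) (n : ℕ) : ∀ (X : Type u) [Group X] [Finite X]
    (G R : Subgroup X), Nat.card G = n → R ≤ 𝒩 G → (Nat.card R).Coprime (Nat.card G) →
    IsMulCommutative R → ¬ IsCyclic R → Hyp p G R → Phi p G R := by
  induction n using Nat.strong_induction_on with
  | _ n ih =>
  intro X _ _ G R e hn hc hab hnc h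
  have ih' : ∀ H < G, R ≤ 𝒩 H → Hyp p H R → Phi p H R := fun H hH h1 h2 =>
    ih _ (e ▸ lt_of_le_of_ne (card_le_of_le hH.le) fun e' => hH.ne (eq_of_le_of_card_ge hH.le e'.ge))
      X H R rfl h1 (hc.coprime_dvd_right (card_dvd_of_le hH.le)) hab hnc h2
  have nO : 𝒩 G ≤ 𝒩 (pCoreOf p G) := H11.normalizer_le_normalizer_pCoreOf G
  have nB : 𝒩 G ≤ 𝒩 (G ⊓ 𝒞 (pCoreOf p G) : Subgroup X) :=
    H1.le_normalizer_inf le_rfl (H1.le_normalizer_centralizer nO)
  rcases (inf_le_left : G ⊓ 𝒞 (pCoreOf p G) ≤ G).eq_or_lt with eB | eB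
  swap
  · refine (ih' _ eB (hn.trans nB) (hyp_normal eB.le (le_normalizer.trans nB) (hn.trans nB) h)).to_le
      (commutator_mono (le_inf le_rfl (inf_le_right.trans (centralizer_le ?_))) le_rfl)
    rw [H11.pCoreOf_eq_inf_of_le_normalizer eB.le (le_normalizer.trans nB)]
    exact inf_le_left (b := G ⊓ 𝒞 (pCoreOf p G))
  by_cases h0 : pCoreOf p G = ⊥
  · exact (IsPGroup.of_bot (p := p)).to_le ((commutator_mono inf_le_left le_rfl).trans
      (core_case core hn hc hnc h h0 ih').le)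
  obtain ⟨Γ, hΓ⟩ : ∃ Γ, Γ = 𝒩 G := ⟨_, rfl⟩
  have hG : G ≤ Γ := hΓ ▸ le_normalizer
  have hR : R ≤ Γ := hΓ ▸ hn
  have hO : pCoreOf p G ≤ G := H11.pCoreOf_le G
  have hcG : ∀ {H : Subgroup X}, H ≤ Γ → Nat.card (H.subgroupOf Γ) = Nat.card H := fun h =>
    Nat.card_congr (subgroupOfEquivOfLe h).toEquiv
  haveI : ((pCoreOf p G).subgroupOf Γ).Normal :=
    (normal_subgroupOf_iff_le_normalizer (hO.trans hG)).2 (hΓ ▸ nO)
  haveI nG : (G.subgroupOf Γ).Normal := (normal_subgroupOf_iff_le_normalizer hG).2 hΓ.le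
  let π := QuotientGroup.mk' ((pCoreOf p G).subgroupOf Γ)
  have kπ : π.ker = (pCoreOf p G).subgroupOf Γ := QuotientGroup.ker_mk' _
  have pk : IsPGroup p π.ker := (H11.isPGroup_pCoreOf G).comap_subtype.to_le kπ.le
  have kG : π.ker ≤ G.subgroupOf Γ := kπ.le.trans (comap_mono hO)
  have hc' : (Nat.card (R.subgroupOf Γ)).Coprime (Nat.card (G.subgroupOf Γ)) := by rwa [hcG hR, hcG hG]
  have ab' : IsMulCommutative (R.subgroupOf Γ) := ⟨⟨fun a b => Subtype.ext (Subtype.ext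
    (congrArg (fun x : R => x.1) (hab.is_comm.comm ⟨a.1.1, a.2⟩ ⟨b.1.1, b.2⟩)))⟩⟩
  haveI := nG.map π (QuotientGroup.mk'_surjective _)
  have h1 := ih (Nat.card ((G.subgroupOf Γ).map π)) (by
      rw [← e, ← hcG hG, H5.card_dvd_card_map_mul π (G.subgroupOf Γ), inf_eq_right.2 kG, kπ,
        hcG (hO.trans hG)]
      exact lt_mul_of_one_lt_right Nat.card_pos ((one_lt_card_iff_ne_bot _).2 h0)) _ _
    ((R.subgroupOf Γ).map π) rfl le_normalizer_of_normal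
    ((hc'.coprime_dvd_left (card_map_dvd _ _)).coprime_dvd_right (card_map_dvd _ _)) inferInstance
    (fun hcy => hnc (by
      have hd : Disjoint (R.subgroupOf Γ) π.ker :=
        (disjoint_of_coprime_natCard hc').mono_right kG
      have hi : Function.Injective (π.subgroupMap (R.subgroupOf Γ)) :=
        (injective_iff_map_eq_one _).2 fun x hx => Subtype.ext
          (disjoint_def.1 hd x.2 (congrArg Subtype.val hx))
      haveI := isCyclic_of_injective _ hi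
      exact isCyclic_of_surjective (subgroupOfEquivOfLe hR) (subgroupOfEquivOfLe hR).surjective))
    (hyp_map π le_normalizer_of_normal hc' ab' (le_inf kG (kπ.le.trans fun x hx y hy =>
      Subtype.ext ((eB.ge hy).2 x.1 hx).symm)) pk (hyp_sub hG h))
  have h2 : pCoreOf p ((G.subgroupOf Γ).map π) = ⊥ := by
    have h3 : ((pCoreOf p ((G.subgroupOf Γ).map π)).comap π).map Γ.subtype ≤ pCoreOf p G := by
      haveI : (pCoreOf p ((G.subgroupOf Γ).map π)).Normal := normalizer_eq_top_iff.1 (top_le_iff.1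
        (le_normalizer_of_normal.trans (H11.normalizer_le_normalizer_pCoreOf _)))
      refine H11.le_pCoreOf (map_le_iff_le_comap.2 ((comap_mono (H11.pCoreOf_le _)).trans ?_))
        (hG.trans (H1.le_normalizer_map_subtype_iff.2 inferInstance))
        (((H11.isPGroup_pCoreOf _).comap_of_ker_isPGroup π pk).map _)
      rw [comap_map_eq, sup_eq_left.2 kG]; rfl
    rw [← map_comap_eq_self_of_surjective (QuotientGroup.mk'_surjective _)
      (pCoreOf p ((G.subgroupOf Γ).map π)), Subgroup.map_eq_bot_iff]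
    exact (map_le_iff_le_comap.1 h3).trans kπ.ge
  rw [Phi, h2, show 𝒞 (⊥ : Subgroup _) = ⊤ from eq_top_iff.2 fun x _ y hy => by
    rw [mem_bot.1 hy]; simp, inf_top_eq, ← map_commutator] at h1
  have h4 := ((h1.comap_of_ker_isPGroup π pk).to_le (le_comap_map _ _)).map Γ.subtype
  rw [map_commutator, map_subgroupOf_eq_of_le hG, map_subgroupOf_eq_of_le hR] at h4
  exact h4.to_le (commutator_mono inf_le_left le_rfl)

theorem final (core : Lead.Fl.Core2.{u} p) (hn : R ≤ 𝒩 G) (hc : (Nat.card R).Coprime (Nat.card G))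
    (hab : IsMulCommutative R) (hnc : ¬ IsCyclic R)
    (h : ∀ a ∈ R, a ≠ 1 → R ≤ 𝒞 (NF p (G ⊓ centralizer {a}))) : R ≤ 𝒞 (NF p G) := by
  have hs : Group.IsSolvable R := Group.isSolvable_of_comm hab.is_comm.comm
  refine (rc hn hc hs (main core _ X G R rfl hn hc hab hnc fun a ha a1 => ?_)).trans
    (centralizer_le nf_le)
  have nC : R ≤ 𝒩 (G ⊓ centralizer {a} : Subgroup X) :=
    H1.le_normalizer_inf hn (le_trans (fun b hb => mem_centralizer_singleton_iff.2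
      (congrArg Subtype.val (hab.is_comm.comm ⟨b, hb⟩ ⟨a, ha⟩))) le_normalizer)
  exact ⟨pCoreOf p (G ⊓ centralizer {a}), (H11.pCoreOf_le _).trans inf_le_left, H11.isPGroup_pCoreOf _,
    nC.trans (H11.normalizer_le_normalizer_pCoreOf _), H11.le_normalizer_pCoreOf _,
    (eq1 nC (hc.coprime_dvd_right (card_dvd_of_le inf_le_left)) hs (h a ha a1)).to_le
      (commutator_mono (res_le _) le_rfl)⟩


end Lead.Fv
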