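import Cfsg.Agent.Lead.LyA

/-! Certificates for the degree equations in Lyons' theorem. -/

namespace Lead.LyN

open Tr

set_option maxRecDepth 4000

def t0_0 : Tr :=
    B 4 (B 5 (S 4 6 (R 0)) (B 3 (R 1) (B 4 (R 4) (B 5 (S 4 6 (B 3 (R 1) (B 4 (R 4) (B 2 (R 4) (B
    3 (B 4 (R 1) (B 2 (R 10) (R 4))) (R 4)))))) (R 7))))) (B 5 (S 4 6 (R 0)) (B 3 (R 5) (B 5 (S 4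
    6 (B 4 (B 3 (R 5) (B 2 (B 3 (S 1 2 (R 5)) (B 3 (S 1 2 (R 5)) (R 4))) (L 9))) (B 3 (B 4 (R 5)
    (B 2 (B 4 (S 1 2 (R 5)) (R 1)) (R 5))) (B 4 (B 2 (R 4) (L 9)) (B 2 (R 4) (L 9)))))) (B 6 (B 4
    (B 5 (S 4 6 (R 0)) (B 3 (R 5) (B 5 (S 4 6 (B 2 (B 3 (S 1 2 (R 5)) (R 4)) (L 9))) (B 5 (S 4 6
    (R 0)) (B 2 (B 5 (S 4 6 (B 3 (S 1 2 (R 5)) (R 4))) (B 3 (B 6 (R 3) (B 5 (S 1 2 (S 4 6 (R 0)))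
    (B 5 (S 1 2 (S 4 6 (R 5))) (B 5 (S 1 2 (S 4 6 (R 0))) (B 5 (S 1 2 (S 4 6 (R 5))) (B 5 (S 1 2
    (S 4 6 (R 0))) (B 0 (B 1 (R 1) (B 6 (R 1) (B 5 (S 1 2 (R 7)) (R 7)))) (B 1 (B 6 (R 1) (B 5 (S
    1 2 (R 7)) (R 7))) (L 6))))))))) (B 6 (R 3) (R 4)))) (L 9)))))) (B 5 (S 4 6 (R 0)) (B 3 (B 5
    (S 4 6 (R 1)) (R 1)) (B 5 (S 4 6 (B 4 (B 2 (R 4) (L 9)) (B 2 (R 4) (L 9)))) (B 5 (S 4 6 (R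
    0)) (B 4 (B 2 (R 4) (L 9)) (R 7))))))) (L 5)))))

def t0_1 : Tr :=
    B 5 (B 3 (R 0) (B 5 (R 1) (B 4 (R 2) (B 3 (R 1) (B 5 (R 1) (B 5 (R 0) (B 6 (R 3) (B 4 (B 5 (R
    2) (B 3 (B 6 (L 4) (B 5 (R 1) (B 5 (R 1) (B 2 (L 1) (R 5))))) (B 6 (R 4) (B 5 (R 0) (B 5 (R
    0) (B 2 (R 4) (B 3 (B 5 (R 1) (B 5 (R 3) (B 5 (R 3) (B 5 (R 3) (B 6 (L 4) (B 2 (R 5) (B 5 (R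
    0) (B 5 (R 0) (B 0 (B 1 (R 1) (B 5 (R 1) (B 5 (R 1) (B 5 (R 1) (B 6 (L 4) (R 1)))))) (B 1 (B
    5 (R 1) (B 5 (R 1) (B 5 (R 1) (B 6 (L 4) (R 1))))) (L 6))))))))))) (B 5 (R 0) (B 5 (R 0) (B 5
    (R 0) (B 3 (B 5 (R 0) (B 6 (R 4) (B 2 (R 5) (R 4)))) (B 5 (R 0) (B 6 (R 4) (B 2 (B 5 (R 0) (B
    3 (L 1) (B 5 (R 0) (B 0 (B 1 (R 2) (B 5 (R 0) (B 5 (R 0) (B 3 (L 1) (R 4))))) (B 1 (B 5 (R 0)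
    (B 5 (R 0) (B 3 (L 1) (R 4)))) (B 5 (R 0) (B 5 (R 0) (B 3 (L 1) (R 4))))))))) (R
    4))))))))))))))) (B 5 (R 0) (B 3 (B 6 (R 4) (R 1)) (R 7))))))))))) (B 3 (B 3 (R 4) (B 4 (R 4)
    (B 5 (R 8) (B 5 (S 4 6 (B 4 (B 3 (R 9) (B 3 (R 9) (B 2 (R 4) (B 3 (R 9) (B 2 (S 1 3 (R 9)) (R
    4)))))) (R 4))) (B 6 (B 4 (B 3 (R 4) (B 5 (S 4 6 (R 0)) (B 5 (S 4 6 (R 4)) (B 5 (S 4 6 (R 0))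
    (B 3 (R 4) (B 2 (R 4) (B 5 (S 4 6 (R 4)) (B 6 (R 3) (R 4))))))))) (R 4)) (R 4)))))) (t0_0))

def tr0 : Tr :=
    t0_1

def ls0 : List T3 :=
    [(0, 0, 1), (1, 0, 0), (1, 0, 1), (0, -1, 4), (0, 1, 0), (0, -1, 0), (0, 1, -2), (2, 1, 0),
    (-2, 1, 0), (-1, 0, 0), (2, -1, 0)]

theorem ok0 : chk ls0 (cfg0.map cf) tr0 (cfg0.map st0) = true := by decide +kernel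

def tr1 : Tr :=
    B 0 (B 4 (R 0) (B 3 (R 1) (L 2))) (B 0 (R 3) (B 4 (B 3 (R 1) (B 4 (R 4) (B 0 (B 3 (R 5) (R
    6)) (R 7)))) (B 3 (R 1) (B 0 (R 2) (B 4 (S 1 5 (R 0)) (B 3 (R 5) (B 0 (L 2) (B 4 (S 1 5 (B 0
    (S 8 3 (R 0)) (R 7))) (R 9)))))))))

def ls1 : List T3 :=
    [(1, 0, 1), (0, 1, 0), (-2, -1, 2), (-1, 0, 0), (1, 0, 0), (0, -1, 0), (0, 0, 1), (4, 1, 0),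
    (-1, 0, 1), (2, 1, 0)]

theorem ok1 : chk ls1 (cfg1.map cf) tr1 (cfg1.map st0) = true := by decide +kernel

def tr2 : Tr :=
    B 7 (R 0) (B 6 (R 1) (B 7 (S 1 8 (R 0)) (B 6 (R 2) (B 7 (S 1 8 (B 6 (B 4 (B 5 (B 4 (R 1) (B 5
    (R 1) (B 4 (R 1) (L 3)))) (B 5 (R 2) (B 4 (R 1) (B 5 (R 2) (B 4 (L 4) (R 2)))))) (B 5 (B 4 (R
    2) (B 5 (R 1) (B 4 (R 2) (B 5 (L 4) (R 2))))) (R 2))) (R 1))) (B 8 (B 7 (S 1 8 (R 0)) (R 5))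
    (R 1))))))

def ls2 : List T3 :=
    [(4, 1, 0), (0, 1, 0), (0, -1, 0), (1, 0, 0), (-1, 0, 0), (2, 1, 0)]

theorem ok2 : chk ls2 (cfg2.map cf) tr2 (cfg2.map st0) = true := by decide +kernel

def tr3 : Tr :=
    R 0

def ls3 : List T3 :=
    [(0, 1, 0)]

theorem ok3 : chk ls3 (cfg3.map cf) tr3 (cfg3.map st0) = true := by decide +kernel

def tr4 : Tr :=
    R 0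

def ls4 : List T3 :=
    [(0, 1, 0)]

theorem ok4 : chk ls4 (cfg4.map cf) tr4 (cfg4.map st0) = true := by decide +kernel

def t5_0 : Tr :=
    B 4 (B 7 (B 4 (R 1) (B 6 (B 7 (B 4 (R 1) (B 5 (R 2) (B 2 (B 4 (R 2) (B 5 (L 3) (B 4 (R 2) (B
    4 (R 2) (B 2 (S 1 3 (R 0)) (R 2)))))) (R 2)))) (B 7 (B 4 (R 2) (B 5 (R 2) (B 2 (B 4 (R 2) (B
    5 (L 3) (B 4 (R 2) (B 4 (R 2) (B 2 (S 1 3 (R 0)) (R 2)))))) (R 2)))) (R 4))) (B 7 (R 1) (B 6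
    (B 7 (R 5) (B 4 (S 3 5 (R 0)) (B 5 (L 3) (B 7 (R 5) (B 2 (R 3) (B 4 (S 3 5 (R 3)) (R 3)))))))
    (R 0))))) (B 4 (R 6) (B 6 (R 4) (B 7 (B 6 (B 4 (S 3 5 (R 0)) (B 5 (L 3) (B 2 (R 3) (B 4 (S 3
    5 (R 3)) (R 3))))) (R 0)) (B 6 (B 4 (S 3 5 (R 0)) (B 7 (B 5 (L 3) (B 2 (R 3) (B 4 (S 3 5 (R
    3)) (R 3)))) (B 5 (L 3) (B 2 (R 3) (B 7 (B 4 (S 3 5 (R 3)) (R 3)) (B 4 (S 3 5 (R 3)) (R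
    3))))))) (R 0)))))) (B 7 (B 6 (B 4 (R 3) (B 7 (B 4 (S 3 5 (B 2 (R 3) (B 2 (R 2) (B 2 (R 2) (B
    2 (R 2) (B 2 (R 2) (B 2 (R 2) (B 2 (S 1 3 (R 2)) (B 2 (S 1 3 (R 2)) (B 2 (S 1 3 (R 3)) (B 3
    (R 3) (L 7)))))))))))) (B 5 (B 2 (B 4 (S 3 5 (B 2 (R 3) (B 2 (R 3) (B 2 (S 1 3 (R 2)) (R
    2))))) (B 4 (S 3 5 (B 2 (R 3) (R 2))) (B 4 (S 3 5 (B 2 (R 3) (R 2))) (B 5 (R 2) (B 2 (S 1 3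
    (R 0)) (R 2)))))) (R 2)) (L 2))) (B 7 (B 4 (R 7) (B 5 (B 2 (B 4 (S 3 5 (R 7)) (B 4 (S 3 5 (B
    2 (R 3) (R 2))) (B 4 (S 3 5 (B 2 (R 3) (R 2))) (B 5 (R 2) (B 2 (S 1 3 (R 0)) (R 2)))))) (R
    2)) (L 2))) (R 4)))) (R 3)) (B 6 (R 7) (R 3)))

def tr5 : Tr :=
    B 6 (R 0) (t5_0)

def ls5 : List T3 :=
    [(0, 0, 1), (1, 0, 0), (0, -1, 0), (0, 1, 0), (-2, -1, 0), (2, 1, 0), (2, -1, 0), (-1, 0, 0)]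

theorem ok5 : chk ls5 (cfg5.map cf) tr5 (cfg5.map st0) = true := by decide +kernel

def tr6 : Tr :=
    B 3 (R 0) (B 2 (R 1) (B 6 (L 2) (B 3 (B 2 (R 3) (B 6 (R 4) (B 2 (L 5) (R 1)))) (B 2 (R 3) (B
    6 (L 2) (R 6))))))

def ls6 : List T3 :=
    [(4, 1, 0), (0, 1, 0), (-2, -1, 2), (0, -1, 0), (-1, 0, 0), (2, 1, -2), (2, 1, 0)]

theorem ok6 : chk ls6 (cfg6.map cf) tr6 (cfg6.map st0) = true := by decide +kernel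

def tr7 : Tr :=
    R 0

def ls7 : List T3 :=
    [(0, 1, 0)]

theorem ok7 : chk ls7 (cfg7.map cf) tr7 (cfg7.map st0) = true := by decide +kernel

def tr8 : Tr :=
    B 3 (R 0) (B 4 (B 6 (B 4 (R 1) (B 3 (B 6 (R 2) (B 6 (S 3 5 (R 4)) (R 4))) (B 6 (R 2) (B 6 (R
    2) (B 3 (B 4 (R 5) (B 5 (R 2) (B 6 (R 2) (B 0 (R 0) (B 1 (R 0) (B 2 (R 0) (L 4))))))) (R
    2)))))) (L 6)) (B 6 (B 3 (L 7) (R 8)) (B 3 (R 4) (B 4 (R 9) (B 6 (R 4) (B 3 (B 6 (R 4) (B 4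
    (R 9) (B 5 (B 0 (R 9) (B 1 (R 9) (B 2 (R 9) (L 4)))) (R 9)))) (B 6 (B 4 (R 9) (B 5 (B 0 (R 9)
    (B 1 (R 9) (B 2 (R 9) (L 4)))) (R 9))) (R 8))))))))

def ls8 : List T3 :=
    [(0, 0, 1), (0, -1, 0), (1, 0, 0), (0, 0, -1), (-1, 0, 0), (0, -1, 4), (0, 1, -2), (0, -1,
    2), (2, 1, 0), (0, 1, 0)]

theorem ok8 : chk ls8 (cfg8.map cf) tr8 (cfg8.map st0) = true := by decide +kernel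

def tr9 : Tr :=
    B 3 (R 0) (B 2 (R 1) (B 5 (L 2) (B 3 (S 1 4 (R 0)) (B 2 (R 3) (B 5 (L 2) (R 4))))))

def ls9 : List T3 :=
    [(4, 1, 0), (0, 1, 0), (-2, -1, 2), (0, -1, 0), (2, 1, 0)]

theorem ok9 : chk ls9 (cfg9.map cf) tr9 (cfg9.map st0) = true := by decide +kernel

def tr10 : Tr :=
    R 0

def ls10 : List T3 :=
    [(0, 1, 0)]

theorem ok10 : chk ls10 (cfg10.map cf) tr10 (cfg10.map st0) = true := by decide +kernel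

def tr11 : Tr :=
    B 2 (B 0 (R 0) (B 2 (R 0) (B 1 (R 1) (B 0 (R 1) (B 5 (R 2) (B 2 (R 0) (B 1 (B 0 (R 1) (R 3))
    (R 2)))))))) (B 0 (B 0 (R 0) (B 2 (B 1 (L 1) (R 4)) (B 1 (R 0) (B 5 (B 1 (B 2 (R 4) (B 0 (R
    0) (B 2 (R 4) (R 3)))) (B 2 (B 0 (R 0) (B 0 (R 0) (B 1 (S 1 0 (R 0)) (B 3 (L 5) (R 0))))) (R
    3))) (R 6))))) (B 2 (B 1 (B 0 (R 7) (B 1 (L 4) (R 8))) (R 9)) (B 1 (B 0 (R 1) (B 1 (R 1) (B 5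
    (R 2) (B 2 (B 0 (R 1) (R 10)) (R 2))))) (L 4))))

def ls11 : List T3 :=
    [(0, 1, 0), (1, 0, 0), (1, 0, 1), (0, 0, 1), (-1, 0, 0), (0, 1, -1), (-2, 1, 0), (0, -1, 0),
    (-2, -1, 0), (-1, -1, 0), (2, 1, 0)]

theorem ok11 : chk ls11 (cfg11.map cf) tr11 (cfg11.map st0) = true := by decide +kernel

def t12_0 : Tr :=
    B 0 (B 3 (B 0 (R 1) (B 6 (B 0 (R 1) (B 1 (B 4 (R 2) (B 6 (B 0 (R 1) (R 3)) (R 3))) (R 4))) (B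
    6 (R 3) (B 0 (B 1 (B 4 (B 6 (B 1 (S 1 2 (R 0)) (B 4 (R 2) (B 5 (R 1) (L 5)))) (R 1)) (B 6 (B
    4 (R 0) (B 1 (R 0) (B 4 (R 0) (B 5 (R 1) (L 2))))) (R 1))) (B 4 (R 2) (L 6))) (R 3))))) (B 0
    (R 1) (B 6 (B 3 (B 0 (R 1) (B 1 (R 0) (B 4 (B 6 (R 1) (B 0 (R 1) (B 1 (S 1 2 (R 7)) (R 0))))
    (R 8)))) (R 1)) (B 3 (B 6 (R 0) (B 0 (R 1) (B 1 (R 0) (B 4 (B 0 (R 1) (B 6 (R 0) (B 1 (S 1 2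
    (R 8)) (R 0)))) (R 0))))) (R 0))))) (B 0 (R 3) (B 3 (R 3) (B 6 (B 3 (B 0 (R 3) (B 1 (R 0) (B
    4 (B 6 (B 0 (R 3) (B 0 (R 3) (B 1 (L 9) (B 0 (R 3) (B 4 (S 0 5 (B 0 (R 3) (B 0 (S 10 2 (R 3))
    (R 1)))) (R 0)))))) (B 0 (R 3) (B 0 (R 3) (B 1 (L 9) (R 0))))) (B 6 (B 0 (R 3) (B 0 (R 3) (B
    1 (S 1 2 (B 4 (R 0) (B 0 (R 3) (B 0 (R 3) (B 0 (S 10 5 (R 0)) (R 1)))))) (R 0)))) (R 0)))))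
    (R 11)) (B 3 (B 0 (R 3) (B 6 (R 0) (B 1 (R 0) (B 4 (B 0 (R 3) (B 6 (R 0) (B 0 (R 3) (B 1 (S 1
    2 (B 0 (R 3) (B 4 (B 6 (R 3) (B 0 (R 3) (B 0 (R 3) (B 6 (R 3) (B 0 (R 3) (B 5 (B 0 (R 3) (B 6
    (R 3) (B 0 (R 3) (B 0 (R 3) (B 6 (R 0) (B 0 (R 3) (B 0 (R 3) (B 6 (R 0) (B 0 (R 3) (B 0 (R 3)
    (B 6 (R 0) (B 0 (R 3) (B 6 (R 0) (B 0 (R 3) (B 5 (L 10) (R 0)))))))))))))))) (R 0))))))) (R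
    0)))) (R 0))))) (R 0))))) (R 0)))))

def tr12 : Tr :=
    B 3 (R 0) (t12_0)

def ls12 : List T3 :=
    [(0, 1, 0), (1, 0, 0), (0, -1, 0), (-1, 0, 0), (-1, -1, 0), (1, 0, -1), (-1, -1, 1), (2, 1,
    0), (1, 1, 0), (1, 1, -1), (0, 0, -1), (0, 0, 1)]

theorem ok12 : chk ls12 (cfg12.map cf) tr12 (cfg12.map st0) = true := by decide +kernel

def t13_0 : Tr :=
    B 4 (S 2 5 (R 0)) (B 4 (S 2 5 (R 0)) (B 4 (S 2 5 (R 0)) (B 4 (S 2 5 (R 0)) (B 4 (S 2 5 (R 0))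
    (B 4 (S 2 5 (R 0)) (B 4 (S 2 5 (R 0)) (B 4 (S 2 5 (R 0)) (B 4 (S 2 5 (R 0)) (B 4 (S 2 5 (R
    0)) (B 4 (S 2 5 (R 0)) (B 4 (S 2 5 (R 0)) (B 4 (S 2 5 (R 0)) (B 4 (S 2 5 (R 0)) (B 5 (R 1) (B
    4 (S 2 5 (R 0)) (B 4 (S 2 5 (R 0)) (B 4 (S 2 5 (R 0)) (B 4 (S 2 5 (R 0)) (B 4 (S 2 5 (R 0))
    (B 4 (S 2 5 (R 0)) (B 4 (S 2 5 (R 0)) (B 4 (S 2 5 (R 0)) (B 4 (S 2 5 (R 0)) (B 4 (S 2 5 (R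
    0)) (B 4 (S 2 5 (R 0)) (B 4 (S 2 5 (R 0)) (B 4 (S 2 5 (R 0)) (B 4 (S 2 5 (R 0)) (B 4 (S 2 5
    (R 0)) (B 4 (S 2 5 (R 0)) (B 5 (R 1) (B 4 (S 2 5 (R 0)) (B 4 (S 2 5 (R 0)) (B 4 (S 2 5 (R 0))
    (B 4 (S 2 5 (R 1)) (B 4 (S 2 5 (R 1)) (B 4 (S 2 5 (R 1)) (B 4 (S 2 5 (R 1)) (B 4 (S 2 5 (R
    1)) (B 4 (S 2 5 (R 1)) (B 4 (S 2 5 (R 1)) (B 4 (S 2 5 (R 1)) (B 4 (S 2 5 (R 1)) (B 4 (S 2 5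
    (R 1)) (B 4 (S 2 5 (R 1)) (B 4 (S 2 5 (R 1)) (B 4 (S 2 5 (R 1)) (B 5 (R 1) (B 4 (S 2 5 (R 1))
    (B 4 (S 2 5 (R 1)) (R 1)))))))))))))))))))))))))))))))))))))))))))))))))))

def t13_1 : Tr :=
    B 4 (S 2 5 (R 0)) (B 4 (S 2 5 (R 0)) (B 4 (S 2 5 (R 0)) (B 4 (S 2 5 (R 0)) (B 4 (S 2 5 (R 0))
    (B 4 (S 2 5 (R 0)) (B 4 (S 2 5 (R 0)) (B 4 (S 2 5 (R 0)) (B 4 (S 2 5 (R 0)) (B 4 (S 2 5 (R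
    0)) (B 4 (S 2 5 (R 0)) (B 4 (S 2 5 (R 0)) (B 4 (S 2 5 (R 0)) (B 4 (S 2 5 (R 0)) (B 5 (R 1) (B
    4 (S 2 5 (R 0)) (B 4 (S 2 5 (R 0)) (B 4 (S 2 5 (R 0)) (B 4 (S 2 5 (R 0)) (B 4 (S 2 5 (R 0))
    (B 4 (S 2 5 (R 0)) (B 4 (S 2 5 (R 0)) (B 4 (S 2 5 (R 0)) (B 4 (S 2 5 (R 0)) (B 4 (S 2 5 (R
    0)) (B 4 (S 2 5 (R 0)) (B 4 (S 2 5 (R 0)) (B 4 (S 2 5 (R 0)) (B 4 (S 2 5 (R 0)) (B 4 (S 2 5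
    (R 0)) (B 4 (S 2 5 (R 0)) (B 5 (R 1) (B 4 (S 2 5 (R 0)) (B 4 (S 2 5 (R 0)) (B 4 (S 2 5 (R 0))
    (B 4 (S 2 5 (R 0)) (B 4 (S 2 5 (R 0)) (B 4 (S 2 5 (R 0)) (B 4 (S 2 5 (R 0)) (B 4 (S 2 5 (R
    0)) (B 4 (S 2 5 (R 0)) (B 4 (S 2 5 (R 0)) (B 4 (S 2 5 (R 0)) (B 4 (S 2 5 (R 0)) (B 4 (S 2 5
    (R 0)) (B 4 (S 2 5 (R 0)) (B 4 (S 2 5 (R 0)) (B 4 (S 2 5 (R 0)) (B 5 (R 1) (B 4 (S 2 5 (R 0))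
    (B 4 (S 2 5 (R 0)) (t13_0)))))))))))))))))))))))))))))))))))))))))))))))))))

def t13_2 : Tr :=
    B 4 (S 2 5 (R 0)) (B 4 (S 2 5 (R 0)) (B 4 (S 2 5 (R 0)) (B 4 (S 2 5 (R 0)) (B 4 (S 2 5 (R 0))
    (B 4 (S 2 5 (R 0)) (B 4 (S 2 5 (R 0)) (B 4 (S 2 5 (R 0)) (B 4 (S 2 5 (R 0)) (B 4 (S 2 5 (R
    0)) (B 4 (S 2 5 (R 0)) (B 4 (S 2 5 (R 0)) (B 4 (S 2 5 (R 0)) (B 4 (S 2 5 (R 0)) (B 5 (R 1) (B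
    4 (S 2 5 (R 0)) (B 4 (S 2 5 (R 0)) (B 4 (S 2 5 (R 0)) (B 4 (S 2 5 (R 0)) (B 4 (S 2 5 (R 0))
    (B 4 (S 2 5 (R 0)) (B 4 (S 2 5 (R 0)) (B 4 (S 2 5 (R 0)) (B 4 (S 2 5 (R 0)) (B 4 (S 2 5 (R
    0)) (B 4 (S 2 5 (R 0)) (B 4 (S 2 5 (R 0)) (B 4 (S 2 5 (R 0)) (B 4 (S 2 5 (R 0)) (B 4 (S 2 5
    (R 0)) (B 4 (S 2 5 (R 0)) (B 5 (R 1) (B 4 (S 2 5 (R 0)) (B 4 (S 2 5 (R 0)) (B 4 (S 2 5 (R 0))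
    (B 4 (S 2 5 (R 0)) (B 4 (S 2 5 (R 0)) (B 4 (S 2 5 (R 0)) (B 4 (S 2 5 (R 0)) (B 4 (S 2 5 (R
    0)) (B 4 (S 2 5 (R 0)) (B 4 (S 2 5 (R 0)) (B 4 (S 2 5 (R 0)) (B 4 (S 2 5 (R 0)) (B 4 (S 2 5
    (R 0)) (B 4 (S 2 5 (R 0)) (B 4 (S 2 5 (R 0)) (B 4 (S 2 5 (R 0)) (B 5 (R 1) (B 4 (S 2 5 (R 0))
    (B 4 (S 2 5 (R 0)) (t13_1)))))))))))))))))))))))))))))))))))))))))))))))))))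

def t13_3 : Tr :=
    B 4 (R 0) (B 4 (R 0) (B 4 (S 2 5 (R 0)) (B 4 (S 2 5 (R 0)) (B 4 (S 2 5 (R 0)) (B 4 (S 2 5 (R
    0)) (B 4 (S 2 5 (R 0)) (B 4 (S 2 5 (R 0)) (B 4 (S 2 5 (R 0)) (B 4 (S 2 5 (R 0)) (B 4 (S 2 5
    (R 0)) (B 4 (S 2 5 (R 0)) (B 4 (S 2 5 (R 0)) (B 4 (S 2 5 (R 0)) (B 4 (S 2 5 (R 0)) (B 5 (R 1)
    (B 4 (S 2 5 (R 0)) (B 4 (S 2 5 (R 0)) (B 4 (S 2 5 (R 0)) (B 4 (S 2 5 (R 0)) (B 4 (S 2 5 (R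
    0)) (B 4 (S 2 5 (R 0)) (B 4 (S 2 5 (R 0)) (B 4 (S 2 5 (R 0)) (B 4 (S 2 5 (R 0)) (B 4 (S 2 5
    (R 0)) (B 4 (S 2 5 (R 0)) (B 4 (S 2 5 (R 0)) (B 4 (S 2 5 (R 0)) (B 4 (S 2 5 (R 0)) (B 4 (S 2
    5 (R 0)) (B 4 (S 2 5 (R 0)) (B 5 (R 1) (B 4 (S 2 5 (R 0)) (B 4 (S 2 5 (R 0)) (B 4 (S 2 5 (R
    0)) (B 4 (S 2 5 (R 0)) (B 4 (S 2 5 (R 0)) (B 4 (S 2 5 (R 0)) (B 4 (S 2 5 (R 0)) (B 4 (S 2 5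
    (R 0)) (B 4 (S 2 5 (R 0)) (B 4 (S 2 5 (R 0)) (B 4 (S 2 5 (R 0)) (B 4 (S 2 5 (R 0)) (B 4 (S 2
    5 (R 0)) (B 4 (S 2 5 (R 0)) (B 4 (S 2 5 (R 0)) (B 4 (S 2 5 (R 0)) (B 5 (R 1) (B 4 (S 2 5 (R
    0)) (B 4 (S 2 5 (R 0)) (t13_2))))))))))))))))))))))))))))))))))))))))))))))))))))

def t13_4 : Tr :=
    B 9 (S 0 8 (B 4 (R 0) (B 4 (R 0) (B 4 (R 0) (B 4 (R 0) (B 4 (R 0) (B 5 (L 2) (B 4 (R 0) (B 4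
    (R 0) (B 4 (R 0) (B 4 (R 0) (B 4 (R 0) (B 4 (R 0) (B 4 (R 0) (B 4 (S 2 5 (R 0)) (B 5 (R 1) (B
    4 (R 0) (B 4 (R 0) (B 4 (R 0) (B 4 (R 0) (B 4 (R 0) (B 4 (R 0) (B 4 (R 0) (B 4 (R 0) (B 4 (R
    0) (B 4 (R 0) (B 4 (R 0) (B 4 (R 0) (B 4 (S 2 5 (R 0)) (B 4 (S 2 5 (R 0)) (B 4 (S 2 5 (R 0))
    (B 4 (S 2 5 (R 0)) (B 5 (R 1) (B 4 (R 0) (B 4 (R 0) (B 4 (R 0) (B 4 (R 0) (B 4 (R 0) (B 4 (R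
    0) (B 4 (R 0) (B 4 (R 0) (B 4 (S 2 5 (R 0)) (B 4 (S 2 5 (R 0)) (B 4 (S 2 5 (R 0)) (B 4 (S 2 5
    (R 0)) (B 4 (S 2 5 (R 0)) (B 4 (S 2 5 (R 0)) (B 4 (S 2 5 (R 0)) (B 4 (S 2 5 (R 0)) (B 5 (R 1)
    (B 4 (R 0) (t13_3)))))))))))))))))))))))))))))))))))))))))))))))))))) (B 9 (S 0 8 (B 4 (R 0)
    (B 4 (R 0) (B 4 (R 0) (B 4 (R 0) (B 4 (R 0) (B 5 (R 0) (B 4 (R 0) (B 4 (R 0) (B 4 (R 0) (B 4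
    (R 0) (B 4 (R 0) (B 4 (R 0) (B 4 (R 0) (B 4 (R 0) (B 5 (L 2) (B 4 (R 0) (B 4 (R 0) (B 4 (R 0)
    (B 4 (R 0) (B 4 (R 0) (B 4 (R 0) (B 4 (R 0) (B 4 (R 0) (B 4 (R 0) (B 4 (R 0) (B 4 (R 0) (B 4
    (R 0) (B 4 (R 0) (B 4 (R 0) (B 4 (R 0) (B 4 (R 0) (B 5 (L 2) (R
    0)))))))))))))))))))))))))))))))))) (B 4 (R 0) (B 9 (S 0 8 (B 4 (R 0) (B 4 (R 0) (B 4 (R 0)
    (B 4 (R 0) (B 5 (R 0) (B 4 (R 0) (B 4 (R 0) (B 4 (R 0) (B 4 (R 0) (B 4 (R 0) (B 4 (R 0) (B 4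
    (R 0) (B 4 (R 0) (B 5 (L 2) (R 0)))))))))))))))) (R 0))))

def t13_5 : Tr :=
    B 4 (R 1) (B 4 (R 1) (B 4 (R 1) (B 4 (R 1) (B 4 (R 1) (B 4 (R 1) (B 5 (L 3) (B 4 (R 1) (B 4
    (R 1) (B 4 (R 1) (B 4 (R 1) (B 4 (R 1) (B 4 (R 1) (B 4 (R 1) (B 4 (R 1) (B 4 (R 1) (B 4 (R 1)
    (B 4 (R 1) (B 4 (R 1) (B 4 (R 1) (B 4 (R 1) (B 4 (R 1) (B 4 (R 1) (B 5 (L 3) (B 4 (R 1) (B 4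
    (R 1) (B 4 (R 1) (B 4 (R 1) (B 4 (R 1) (B 4 (R 1) (B 4 (R 1) (B 4 (R 1) (B 4 (R 1) (B 4 (R 1)
    (B 4 (R 1) (B 4 (R 1) (B 4 (R 1) (B 4 (R 1) (B 4 (R 1) (B 4 (R 1) (B 5 (L 3) (B 4 (R 1) (B 4
    (R 1) (B 4 (R 1) (B 4 (R 1) (B 4 (R 1) (B 4 (R 1) (B 4 (R 1) (B 4 (R 1) (B 4 (R 1) (B 4 (R 1)
    (B 4 (R 1) (B 4 (R 1) (B 4 (R 1) (B 4 (R 1) (B 4 (R 1) (B 4 (R 1) (B 5 (L 3) (B 4 (R 1) (B 4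
    (R 1) (B 4 (R 1) (B 4 (R 1) (B 4 (R 1) (B 4 (R 1) (B 4 (R 1) (B 4 (R 1) (B 4 (R 1) (B 4 (R 1)
    (B 4 (R 1) (B 4 (R 1) (B 4 (R 1) (B 4 (R 1) (B 4 (R 1) (B 4 (R 1) (B 5 (L 3) (R
    1)))))))))))))))))))))))))))))))))))))))))))))))))))))))))))))))))))))))))))

def t13_6 : Tr :=
    B 4 (R 1) (B 4 (R 1) (B 4 (R 1) (B 4 (R 1) (B 4 (R 1) (B 4 (R 1) (B 4 (R 1) (B 4 (R 1) (B 4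
    (R 1) (B 4 (R 1) (B 4 (R 1) (B 4 (R 1) (B 4 (R 1) (B 5 (L 3) (B 4 (R 1) (B 4 (R 1) (B 4 (R 1)
    (B 4 (R 1) (B 4 (R 1) (B 4 (R 1) (B 4 (R 1) (B 4 (R 1) (B 4 (R 1) (B 4 (R 1) (B 4 (R 1) (B 4
    (R 1) (B 4 (R 1) (B 4 (R 1) (B 4 (R 1) (B 4 (R 1) (B 5 (L 3) (B 4 (R 1) (B 4 (R 1) (B 4 (R 1)
    (B 4 (R 1) (B 4 (R 1) (B 4 (R 1) (B 4 (R 1) (B 4 (R 1) (B 4 (R 1) (B 4 (R 1) (B 4 (R 1) (B 4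
    (R 1) (B 4 (R 1) (B 4 (R 1) (B 4 (R 1) (B 4 (R 1) (B 5 (L 3) (B 4 (R 1) (B 4 (R 1) (B 4 (R 1)
    (B 4 (R 1) (B 4 (R 1) (B 4 (R 1) (B 4 (R 1) (B 4 (R 1) (B 4 (R 1) (B 4 (R 1) (B 4 (R 1) (B 4
    (R 1) (B 4 (R 1) (B 4 (R 1) (B 4 (R 1) (B 4 (R 1) (B 5 (L 3) (B 4 (R 1) (B 4 (R 1) (B 4 (R 1)
    (B 4 (R 1) (B 4 (R 1) (B 4 (R 1) (B 4 (R 1) (B 4 (R 1) (B 4 (R 1) (B 4 (R 1)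
    (t13_5)))))))))))))))))))))))))))))))))))))))))))))))))))))))))))))))))))))))))))

def t13_7 : Tr :=
    B 4 (R 1) (B 4 (R 1) (B 4 (R 1) (B 5 (L 3) (B 4 (R 1) (B 4 (R 1) (B 4 (R 1) (B 4 (R 1) (B 4
    (R 1) (B 4 (R 1) (B 4 (R 1) (B 4 (R 1) (B 4 (R 1) (B 4 (R 1) (B 4 (R 1) (B 4 (R 1) (B 4 (R 1)
    (B 4 (R 1) (B 4 (R 1) (B 4 (R 1) (B 5 (L 3) (B 4 (R 1) (B 4 (R 1) (B 4 (R 1) (B 4 (R 1) (B 4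
    (R 1) (B 4 (R 1) (B 4 (R 1) (B 4 (R 1) (B 4 (R 1) (B 4 (R 1) (B 4 (R 1) (B 4 (R 1) (B 4 (R 1)
    (B 4 (R 1) (B 4 (R 1) (B 4 (R 1) (B 5 (L 3) (B 4 (R 1) (B 4 (R 1) (B 4 (R 1) (B 4 (R 1) (B 4
    (R 1) (B 4 (R 1) (B 4 (R 1) (B 4 (R 1) (B 4 (R 1) (B 4 (R 1) (B 4 (R 1) (B 4 (R 1) (B 4 (R 1)
    (B 4 (R 1) (B 4 (R 1) (B 4 (R 1) (B 5 (L 3) (B 4 (R 1) (B 4 (R 1) (B 4 (R 1) (B 4 (R 1) (B 4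
    (R 1) (B 4 (R 1) (B 4 (R 1) (B 4 (R 1) (B 4 (R 1) (B 4 (R 1) (B 4 (R 1) (B 4 (R 1) (B 4 (R 1)
    (B 4 (R 1) (B 4 (R 1) (B 4 (R 1) (B 5 (L 3) (B 4 (R 1) (B 4 (R 1) (B 4 (R 1)
    (t13_6)))))))))))))))))))))))))))))))))))))))))))))))))))))))))))))))))))))))))))

def t13_8 : Tr :=
    B 9 (S 0 8 (R 1)) (B 9 (S 0 8 (R 1)) (B 9 (S 0 8 (R 1)) (B 9 (S 0 8 (R 1)) (B 9 (S 0 8 (R 1))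
    (B 9 (S 0 8 (R 1)) (B 9 (S 0 8 (R 1)) (B 9 (S 0 8 (R 1)) (B 9 (S 0 8 (R 1)) (B 8 (R 0) (B 9
    (S 0 8 (R 1)) (B 9 (S 0 8 (R 1)) (B 9 (S 0 8 (R 1)) (B 9 (S 0 8 (R 1)) (B 9 (S 0 8 (R 1)) (B
    9 (S 0 8 (R 1)) (B 9 (S 0 8 (R 1)) (B 9 (S 0 8 (R 1)) (B 9 (S 0 8 (R 1)) (B 8 (R 0) (B 9 (S 0
    8 (R 1)) (B 9 (S 0 8 (R 1)) (B 9 (S 0 8 (R 1)) (B 9 (S 0 8 (R 1)) (B 9 (S 0 8 (R 1)) (B 9 (S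
    0 8 (R 1)) (B 9 (S 0 8 (R 1)) (B 9 (S 0 8 (R 1)) (B 9 (S 0 8 (R 1)) (B 8 (R 0) (B 9 (S 0 8 (R
    1)) (B 9 (S 0 8 (R 1)) (B 9 (S 0 8 (R 1)) (B 9 (S 0 8 (R 1)) (B 9 (S 0 8 (R 1)) (B 9 (S 0 8
    (R 1)) (B 9 (S 0 8 (R 1)) (B 9 (S 0 8 (R 1)) (B 9 (S 0 8 (R 1)) (B 8 (R 0) (B 9 (S 0 8 (R 1))
    (B 9 (S 0 8 (R 1)) (B 9 (S 0 8 (R 1)) (B 9 (S 0 8 (R 1)) (B 9 (S 0 8 (R 1)) (B 9 (S 0 8 (R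
    1)) (B 9 (S 0 8 (R 1)) (B 9 (S 0 8 (R 0)) (B 9 (S 0 8 (R 0)) (B 8 (R 0) (B 9 (S 0 8 (R 0)) (B
    9 (S 0 8 (R 0)) (R 0))))))))))))))))))))))))))))))))))))))))))))))))))))

def t13_9 : Tr :=
    B 9 (R 1) (B 9 (R 1) (B 9 (R 1) (B 8 (L 0) (B 9 (R 1) (B 9 (R 1) (B 9 (R 1) (B 9 (R 1) (B 9
    (R 1) (B 9 (R 1) (B 9 (R 1) (B 9 (R 1) (B 9 (R 1) (B 8 (L 0) (B 9 (R 1) (B 9 (R 1) (B 9 (R 1)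
    (B 9 (R 1) (B 9 (R 1) (B 9 (R 1) (B 9 (R 1) (B 9 (R 1) (B 9 (R 1) (B 8 (L 0) (B 9 (R 1) (B 9
    (R 1) (B 9 (R 1) (B 9 (R 1) (B 9 (R 1) (B 9 (R 1) (B 9 (R 1) (B 9 (R 1) (B 9 (R 1) (B 8 (L 0)
    (B 9 (R 1) (B 9 (R 1) (B 9 (R 1) (B 9 (R 1) (B 9 (R 1) (B 9 (S 0 8 (R 1)) (B 9 (S 0 8 (R 1))
    (B 9 (S 0 8 (R 1)) (B 9 (S 0 8 (R 1)) (B 8 (R 0) (B 9 (S 0 8 (R 1)) (B 9 (S 0 8 (R 1)) (B 9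
    (S 0 8 (R 1)) (B 9 (S 0 8 (R 1)) (B 9 (S 0 8 (R 1)) (B 9 (S 0 8 (R 1)) (B 9 (S 0 8 (R 1)) (B
    9 (S 0 8 (R 1)) (B 9 (S 0 8 (R 1)) (B 8 (R 0) (B 9 (S 0 8 (R 1)) (B 9 (S 0 8 (R 1)) (B 9 (S 0
    8 (R 1)) (B 9 (S 0 8 (R 1)) (B 9 (S 0 8 (R 1)) (B 9 (S 0 8 (R 1)) (B 9 (S 0 8 (R 1)) (B 9 (S
    0 8 (R 1)) (B 9 (S 0 8 (R 1)) (B 8 (R 0)
    (t13_8))))))))))))))))))))))))))))))))))))))))))))))))))))))))))))))))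

def t13_10 : Tr :=
    B 4 (S 2 5 (B 9 (R 1) (B 9 (R 1) (B 9 (R 1) (B 9 (R 1) (B 9 (R 1) (B 9 (R 1) (B 9 (R 1) (B 8
    (L 0) (B 9 (R 1) (B 9 (R 1) (B 9 (R 1) (B 9 (R 1) (B 9 (R 1) (B 9 (R 1) (B 9 (R 1) (B 9 (R 1)
    (B 9 (R 1) (B 8 (L 0) (B 9 (R 1) (B 9 (R 1) (B 9 (R 1) (B 9 (R 1) (B 9 (R 1) (B 9 (R 1) (B 9
    (R 1) (B 9 (R 1) (B 9 (R 1) (B 8 (L 0) (B 9 (R 1) (B 9 (R 1) (B 9 (R 1) (B 9 (R 1) (B 9 (R 1)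
    (B 9 (R 1) (t13_9)))))))))))))))))))))))))))))))))))) (B 9 (S 0 8 (B 4 (R 1) (B 4 (S 2 5 (R
    1)) (B 4 (S 2 5 (R 1)) (B 5 (B 4 (S 2 5 (R 0)) (R 0)) (L 3)))))) (B 9 (S 0 8 (B 4 (S 2 5 (R
    1)) (B 4 (S 2 5 (R 1)) (B 4 (S 2 5 (R 1)) (B 5 (R 0) (L 3)))))) (B 4 (S 2 5 (B 9 (R 1) (B 9
    (R 1) (B 9 (R 1) (B 9 (S 0 8 (R 1)) (B 9 (S 0 8 (R 1)) (B 8 (R 0) (B 9 (S 0 8 (R 1)) (B 9 (S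
    0 8 (R 1)) (B 9 (S 0 8 (R 1)) (B 9 (S 0 8 (R 1)) (B 9 (S 0 8 (R 1)) (B 9 (S 0 8 (R 1)) (B 9
    (S 0 8 (R 1)) (B 9 (S 0 8 (R 1)) (B 9 (S 0 8 (R 0)) (R 0))))))))))))))))) (B 9 (S 0 8 (B 4 (S
    2 5 (R 1)) (B 4 (S 2 5 (R 0)) (B 5 (R 0) (L 3))))) (B 9 (S 0 8 (B 4 (S 2 5 (R 1)) (B 4 (S 2 5
    (R 0)) (B 5 (R 0) (L 3))))) (B 9 (S 0 8 (B 4 (S 2 5 (R 1)) (B 4 (S 2 5 (R 0)) (B 5 (R 0) (L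
    3))))) (B 4 (S 2 5 (B 9 (S 0 8 (R 1)) (R 0))) (B 9 (S 0 8 (B 4 (S 2 5 (R 0)) (B 5 (R 0) (L
    3)))) (B 9 (S 0 8 (B 4 (S 2 5 (R 0)) (B 5 (R 0) (L 3)))) (B 4 (S 2 5 (R 0)) (B 8 (L 0) (B 5
    (R 0) (L 3)))))))))))))

def t13_11 : Tr :=
    B 9 (S 0 8 (B 4 (R 1) (B 4 (R 1) (B 4 (R 1) (B 4 (R 1) (B 4 (R 1) (B 4 (R 1) (B 5 (B 4 (R 1)
    (B 4 (R 1) (B 4 (R 1) (B 4 (S 2 5 (R 1)) (B 4 (S 2 5 (R 1)) (B 4 (S 2 5 (R 1)) (B 4 (S 2 5 (R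
    1)) (B 4 (S 2 5 (R 1)) (B 5 (R 0) (B 4 (S 2 5 (R 1)) (B 4 (S 2 5 (R 1)) (B 4 (S 2 5 (R 1)) (B
    4 (S 2 5 (R 1)) (B 4 (S 2 5 (R 1)) (B 4 (S 2 5 (R 1)) (B 4 (S 2 5 (R 1)) (B 4 (S 2 5 (R 1))
    (B 4 (S 2 5 (R 1)) (B 4 (S 2 5 (R 1)) (B 4 (S 2 5 (R 1)) (B 4 (S 2 5 (R 1)) (B 4 (S 2 5 (R
    1)) (B 4 (S 2 5 (R 1)) (B 4 (S 2 5 (R 1)) (B 4 (S 2 5 (R 1)) (B 5 (R 0) (B 4 (S 2 5 (R 0)) (B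
    4 (S 2 5 (R 0)) (R 0))))))))))))))))))))))))))))) (L 3))))))))) (B 4 (R 1) (B 9 (S 0 8 (B 4
    (R 1) (B 4 (R 1) (B 4 (R 1) (B 4 (R 1) (B 4 (R 1) (B 5 (B 4 (S 2 5 (R 1)) (B 4 (S 2 5 (R 1))
    (B 4 (S 2 5 (R 1)) (B 4 (S 2 5 (R 1)) (B 4 (S 2 5 (R 1)) (B 4 (S 2 5 (R 1)) (B 4 (S 2 5 (R
    1)) (B 4 (S 2 5 (R 1)) (B 5 (R 0) (B 4 (S 2 5 (R 1)) (B 4 (S 2 5 (R 0)) (R 0)))))))))))) (L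
    3)))))))) (B 9 (S 0 8 (B 4 (R 1) (B 4 (R 1) (B 4 (R 1) (B 4 (R 1) (B 4 (S 2 5 (R 1)) (B 5 (B
    4 (S 2 5 (R 1)) (B 4 (S 2 5 (R 1)) (B 4 (S 2 5 (R 1)) (B 4 (S 2 5 (R 1)) (B 4 (S 2 5 (R 1))
    (B 4 (S 2 5 (R 0)) (R 0))))))) (L 3)))))))) (B 4 (S 2 5 (B 8 (L 0) (R 1))) (B 8 (L 0) (B 9 (S
    0 8 (B 4 (R 1) (B 4 (R 1) (B 4 (S 2 5 (R 1)) (B 4 (S 2 5 (R 1)) (B 5 (B 4 (S 2 5 (R 1)) (B 4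
    (S 2 5 (R 1)) (B 4 (S 2 5 (R 1)) (R 0)))) (L 3))))))) (B 9 (S 0 8 (B 4 (R 1) (B 4 (R 1) (B 4
    (S 2 5 (R 1)) (B 4 (S 2 5 (R 1)) (B 5 (B 4 (S 2 5 (R 1)) (B 4 (S 2 5 (R 0)) (R 0))) (L
    3))))))) (t13_10))))))))

def t13_12 : Tr :=
    B 4 (B 7 (R 1) (B 9 (B 7 (S 0 8 (B 4 (R 0) (R 1))) (R 1)) (B 7 (B 9 (S 0 8 (B 4 (R 0) (B 4 (R
    0) (B 4 (S 2 5 (R 1)) (B 4 (S 2 5 (R 1)) (R 1)))))) (B 4 (R 0) (B 9 (S 0 8 (B 4 (R 0) (B 4 (R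
    0) (B 4 (R 0) (B 4 (S 2 5 (R 0)) (B 4 (S 2 5 (R 0)) (B 4 (S 2 5 (R 1)) (B 5 (L 2) (R
    1))))))))) (B 9 (S 0 8 (B 4 (R 0) (B 4 (R 0) (B 4 (R 0) (B 4 (R 0) (B 4 (R 0) (B 4 (R 0) (B 5
    (L 2) (B 4 (R 0) (B 4 (S 2 5 (R 0)) (B 4 (S 2 5 (R 0)) (B 4 (S 2 5 (R 0)) (B 4 (S 2 5 (R 0))
    (B 4 (S 2 5 (R 0)) (B 4 (S 2 5 (R 0)) (B 4 (S 2 5 (R 0)) (B 5 (R 1) (B 4 (S 2 5 (R 0)) (B 4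
    (S 2 5 (R 0)) (B 4 (S 2 5 (R 1)) (R 1))))))))))))))))))))) (B 8 (L 0) (B 4 (R 0)
    (t13_4))))))) (B 9 (R 1) (B 4 (S 2 5 (R 0)) (B 9 (R 1) (B 7 (B 9 (R 1) (B 8 (L 0) (B 4 (S 2 5
    (R 1)) (R 1)))) (R 1)))))))) (B 7 (R 1) (B 9 (R 1) (B 4 (R 1) (B 7 (B 9 (R 1) (B 9 (R 1) (B 4
    (R 1) (B 9 (S 0 8 (B 4 (R 1) (B 4 (R 1) (B 4 (R 1) (B 4 (R 1) (B 4 (R 1) (B 4 (R 1) (B 5 (B 4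
    (R 1) (B 4 (R 1) (B 4 (R 1) (B 4 (R 1) (B 4 (R 1) (B 4 (R 1) (B 4 (R 1) (B 4 (R 1) (B 5 (L 3)
    (R 1)))))))))) (R 1))))))))) (B 8 (L 0) (B 9 (S 0 8 (B 4 (R 1) (B 4 (R 1) (B 4 (R 1) (B 4 (R
    1) (B 4 (R 1) (B 4 (R 1) (B 5 (B 4 (R 1) (B 4 (R 1) (B 4 (R 1) (B 4 (R 1) (B 4 (R 1) (B 4 (R
    1) (B 4 (R 1) (B 4 (R 1) (B 5 (L 3) (B 4 (R 1) (B 4 (R 1) (B 4 (R 1) (B 4 (R 1) (B 4 (R 1) (B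
    4 (R 1) (B 4 (R 1) (B 4 (R 1) (B 4 (R 1) (B 4 (R 1) (B 4 (R 1) (B 4 (R 1) (B 4 (R 1)
    (t13_7))))))))))))))))))))))) (R 1))))))))) (t13_11))))))) (R 1)))))

def t13_13 : Tr :=
    B 7 (R 0) (B 7 (S 0 8 (R 0)) (B 8 (R 1) (B 7 (S 0 8 (R 0)) (B 7 (S 0 8 (R 0)) (B 7 (S 0 8 (R
    0)) (B 7 (S 0 8 (R 0)) (B 8 (R 1) (B 7 (S 0 8 (R 0)) (B 7 (S 0 8 (R 0)) (B 7 (S 0 8 (R 0)) (B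
    7 (S 0 8 (R 0)) (B 8 (R 1) (B 7 (S 0 8 (R 0)) (B 7 (S 0 8 (R 0)) (B 7 (S 0 8 (R 0)) (B 7 (S 0
    8 (R 0)) (B 8 (R 1) (B 7 (S 0 8 (R 0)) (B 7 (S 0 8 (R 0)) (B 7 (S 0 8 (R 0)) (B 7 (S 0 8 (R
    0)) (B 8 (R 1) (B 7 (S 0 8 (R 0)) (B 7 (S 0 8 (R 0)) (B 7 (S 0 8 (R 0)) (B 7 (S 0 8 (R 0)) (B
    8 (R 1) (B 7 (S 0 8 (R 0)) (B 7 (S 0 8 (R 0)) (B 7 (S 0 8 (R 0)) (B 7 (S 0 8 (R 0)) (B 8 (R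
    1) (B 7 (S 0 8 (R 0)) (B 7 (S 0 8 (R 0)) (B 7 (S 0 8 (R 0)) (B 7 (S 0 8 (R 0)) (B 8 (R 1) (B
    7 (S 0 8 (R 0)) (B 7 (S 0 8 (R 0)) (B 7 (S 0 8 (R 0)) (B 7 (S 0 8 (R 1)) (B 8 (R 1) (B 7 (S 0
    8 (R 1)) (B 7 (S 0 8 (R 1)) (B 7 (S 0 8 (R 1)) (B 7 (S 0 8 (R 1)) (B 8 (R 1) (B 7 (S 0 8 (R
    1)) (B 7 (S 0 8 (R 1)) (B 7 (S 0 8 (R 1)) (B 7 (S 0 8 (R 1)) (B 8 (R 1) (B 7 (S 0 8 (R 1)) (R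
    1))))))))))))))))))))))))))))))))))))))))))))))))))))))

def t13_14 : Tr :=
    B 7 (R 0) (B 7 (R 0) (B 8 (L 1) (B 7 (R 0) (B 7 (R 0) (B 7 (R 0) (B 7 (R 0) (B 8 (L 1) (B 7
    (R 0) (B 7 (R 0) (B 7 (R 0) (B 7 (R 0) (B 8 (L 1) (B 7 (R 0) (B 7 (R 0) (B 7 (R 0) (B 7 (R 0)
    (B 8 (L 1) (B 7 (R 0) (B 7 (R 0) (B 7 (R 0) (B 7 (R 0) (B 8 (L 1) (B 7 (R 0) (B 7 (R 0) (B 7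
    (R 0) (B 7 (R 0) (B 8 (L 1) (B 7 (R 0) (B 7 (R 0) (B 7 (R 0) (B 7 (R 0) (B 8 (L 1) (B 7 (R 0)
    (B 7 (R 0) (B 7 (R 0) (B 7 (R 0) (B 8 (L 1) (B 7 (R 0) (B 7 (R 0) (B 7 (R 0) (B 7 (R 0) (B 8
    (L 1) (B 7 (R 0) (B 7 (R 0) (B 7 (R 0) (B 7 (R 0) (B 8 (L 1) (B 7 (R 0) (B 7 (R 0) (B 7 (R 0)
    (B 7 (R 0) (B 8 (L 1) (B 7 (R 0) (B 7 (R 0) (B 7 (R 0) (B 7 (R 0) (B 8 (L 1) (B 7 (R 0) (B 7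
    (R 0) (B 7 (R 0) (B 7 (R 0) (B 8 (L 1) (B 7 (R 0) (B 7 (R 0) (B 7 (R 0) (B 7 (R 0) (B 8 (L 1)
    (B 7 (R 0) (B 7 (R 0) (B 7 (R 0) (B 7 (R 0) (B 8 (L 1) (B 7 (R 0) (B 7 (R 0)
    (t13_13)))))))))))))))))))))))))))))))))))))))))))))))))))))))))))))))))))))))))))

def t13_15 : Tr :=
    B 7 (R 0) (B 7 (R 0) (B 8 (L 1) (B 7 (R 0) (B 7 (R 0) (B 7 (R 0) (B 7 (R 0) (B 8 (L 1) (B 7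
    (R 0) (B 7 (R 0) (B 7 (R 0) (B 7 (R 0) (B 8 (L 1) (B 7 (R 0) (B 7 (R 0) (B 7 (R 0) (B 7 (R 0)
    (B 8 (L 1) (B 7 (R 0) (B 7 (R 0) (B 7 (R 0) (B 7 (R 0) (B 8 (L 1) (B 7 (R 0) (B 7 (R 0) (B 7
    (R 0) (B 7 (R 0) (B 8 (L 1) (B 7 (R 0) (B 7 (R 0) (B 7 (R 0) (B 7 (R 0) (B 8 (L 1) (B 7 (R 0)
    (B 7 (R 0) (B 7 (R 0) (B 7 (R 0) (B 8 (L 1) (B 7 (R 0) (B 7 (R 0) (B 7 (R 0) (B 7 (R 0) (B 8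
    (L 1) (B 7 (R 0) (B 7 (R 0) (B 7 (R 0) (B 7 (R 0) (B 8 (L 1) (B 7 (R 0) (B 7 (R 0) (B 7 (R 0)
    (B 7 (R 0) (B 8 (L 1) (B 7 (R 0) (B 7 (R 0) (B 7 (R 0) (B 7 (R 0) (B 8 (L 1) (B 7 (R 0) (B 7
    (R 0) (B 7 (R 0) (B 7 (R 0) (B 8 (L 1) (B 7 (R 0) (B 7 (R 0) (B 7 (R 0) (B 7 (R 0) (B 8 (L 1)
    (B 7 (R 0) (B 7 (R 0) (B 7 (R 0) (B 7 (R 0) (B 8 (L 1) (B 7 (R 0) (B 7 (R 0)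
    (t13_14)))))))))))))))))))))))))))))))))))))))))))))))))))))))))))))))))))))))))))

def t13_16 : Tr :=
    B 9 (B 7 (S 0 8 (B 4 (R 0) (B 4 (R 0) (B 4 (R 0) (B 4 (R 0) (B 4 (R 0) (B 4 (S 2 5 (R 0)) (B
    5 (L 2) (B 4 (S 2 5 (R 0)) (B 4 (S 2 5 (R 0)) (B 4 (S 2 5 (R 0)) (B 4 (S 2 5 (R 0)) (B 4 (S 2
    5 (R 1)) (R 1)))))))))))))) (B 8 (B 4 (S 2 5 (B 7 (R 0) (B 7 (S 0 8 (R 0)) (R 1)))) (B 7 (S 0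
    8 (B 4 (S 2 5 (R 0)) (B 4 (S 2 5 (R 1)) (R 1)))) (B 4 (S 2 5 (R 1)) (R 1)))) (L 1))) (B 9 (B
    7 (S 0 8 (B 4 (R 0) (B 4 (R 0) (B 4 (S 2 5 (R 0)) (B 4 (S 2 5 (R 1)) (B 4 (S 2 5 (R 1)) (B 4
    (S 2 5 (R 1)) (R 1)))))))) (B 8 (B 4 (S 2 5 (B 7 (S 0 8 (R 0)) (R 1))) (B 7 (S 0 8 (R 1)) (R
    1))) (L 1))) (B 7 (B 8 (B 9 (S 0 8 (B 4 (R 0) (B 4 (R 0) (B 4 (S 2 5 (R 1)) (B 4 (S 2 5 (R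
    1)) (R 1)))))) (B 4 (S 2 5 (B 9 (R 0) (B 9 (R 0) (B 9 (R 0) (B 9 (S 0 8 (R 0)) (B 8 (R 1) (B
    9 (R 0) (B 9 (S 0 8 (R 0)) (B 9 (S 0 8 (R 0)) (B 9 (S 0 8 (R 0)) (B 9 (S 0 8 (R 1)) (R
    1)))))))))))) (B 9 (S 0 8 (B 4 (S 2 5 (R 1)) (B 4 (S 2 5 (R 1)) (R 1)))) (B 9 (S 0 8 (B 4 (S
    2 5 (R 1)) (R 1))) (B 4 (S 2 5 (R 1)) (R 1)))))) (L 1)) (B 8 (B 9 (B 4 (S 2 5 (R 1)) (R 1))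
    (B 4 (S 2 5 (R 1)) (R 1))) (L 1))))

def t13_17 : Tr :=
    B 7 (B 9 (B 4 (S 2 5 (R 0)) (B 7 (R 1) (B 8 (B 4 (S 2 5 (R 1)) (R 1)) (B 4 (S 2 5 (B 7 (R 1)
    (B 7 (R 1) (B 8 (R 3) (B 7 (R 1) (B 7 (R 1) (B 7 (R 1) (B 7 (R 1) (B 8 (L 0) (B 7 (R 1) (B 7
    (R 1) (B 7 (R 1) (B 7 (R 1) (B 8 (L 0) (B 7 (R 1) (B 7 (R 1) (B 7 (R 1) (B 7 (R 1) (B 8 (L 0)
    (B 7 (R 1) (B 7 (R 1) (B 7 (R 1) (B 7 (R 1) (B 8 (L 0) (B 7 (R 1) (B 7 (R 1) (B 7 (R 1) (B 7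
    (R 1) (B 8 (L 0) (B 7 (R 1) (B 7 (R 1) (B 7 (R 1) (B 7 (R 1) (B 8 (L 0) (B 7 (R 1) (B 7 (R 1)
    (B 7 (R 1) (B 7 (R 1) (B 8 (L 0) (B 7 (R 1) (B 7 (R 1) (B 7 (R 1) (B 7 (R 1) (B 8 (L 0) (B 7
    (R 1) (B 7 (R 1) (B 7 (R 1) (B 7 (R 1) (B 8 (L 0) (R
    1)))))))))))))))))))))))))))))))))))))))))))))))))) (B 7 (R 1) (B 4 (S 2 5 (R 1)) (R 1)))))))
    (B 4 (S 2 5 (R 0)) (R 1))) (B 9 (B 7 (R 0) (B 4 (R 0) (B 7 (R 0) (B 8 (B 4 (S 2 5 (B 7 (R 0)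
    (B 7 (R 0) (B 8 (L 1) (B 7 (R 0) (B 7 (R 0) (t13_15))))))) (B 7 (S 0 8 (B 4 (R 0) (B 4 (R 0)
    (B 4 (R 0) (B 4 (R 0) (B 4 (R 0) (B 5 (L 2) (B 4 (R 0) (B 4 (S 2 5 (R 0)) (B 4 (S 2 5 (R 0))
    (B 4 (S 2 5 (R 0)) (B 4 (S 2 5 (R 0)) (B 4 (S 2 5 (R 0)) (B 4 (S 2 5 (R 0)) (B 4 (S 2 5 (R
    0)) (B 5 (R 1) (B 4 (S 2 5 (R 0)) (B 4 (S 2 5 (R 0)) (B 4 (S 2 5 (R 1)) (R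
    1)))))))))))))))))))) (B 4 (S 2 5 (B 7 (R 0) (B 8 (L 1) (B 7 (R 0) (B 7 (R 0) (B 7 (S 0 8 (R
    0)) (B 7 (S 0 8 (R 0)) (R 1)))))))) (B 7 (S 0 8 (B 4 (R 0) (B 4 (S 2 5 (R 0)) (B 4 (S 2 5 (R
    0)) (B 4 (S 2 5 (R 1)) (B 5 (L 2) (R 1))))))) (B 8 (L 1) (B 4 (S 2 5 (B 7 (S 0 8 (R 0)) (R
    1))) (B 7 (S 0 8 (B 4 (S 2 5 (R 1)) (B 4 (S 2 5 (R 1)) (B 4 (S 2 5 (R 1)) (R 1))))) (B 4 (S 2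
    5 (R 1)) (R 1))))))))) (L 1))))) (B 7 (R 0) (B 4 (S 2 5 (R 0)) (t13_16))))

def t13_18 : Tr :=
    B 4 (S 2 5 (B 9 (R 0) (B 9 (R 0) (B 9 (R 0) (B 9 (R 0) (B 9 (R 0) (B 9 (R 0) (B 9 (R 0) (B 8
    (L 1) (B 9 (R 0) (B 9 (R 0) (B 9 (R 0) (B 9 (R 0) (B 9 (R 0) (B 9 (R 0) (B 9 (R 0) (B 9 (R 0)
    (B 9 (R 0) (B 8 (L 1) (B 9 (R 0) (B 9 (R 0) (B 9 (R 0) (B 9 (R 0) (B 9 (R 0) (B 9 (R 0) (B 9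
    (R 0) (B 9 (R 0) (B 9 (R 0) (B 8 (L 1) (B 9 (R 0) (B 9 (R 0) (B 9 (R 0) (B 9 (R 0) (B 9 (R 0)
    (B 9 (R 0) (B 9 (R 0) (B 9 (R 0) (B 9 (R 0) (B 8 (L 1) (B 9 (R 0) (B 9 (R 0) (B 9 (R 0) (B 9
    (R 0) (B 9 (R 0) (B 9 (R 0) (B 9 (R 0) (B 9 (R 0) (B 9 (R 0) (B 8 (L 1) (B 9 (R 0) (B 9 (R 0)
    (B 9 (R 0) (B 9 (R 0) (B 9 (R 0) (B 9 (R 0) (B 9 (R 0) (B 9 (R 0) (B 9 (R 0) (B 8 (L 1) (B 9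
    (R 0) (B 9 (R 0) (B 9 (R 0) (B 9 (R 0) (B 9 (R 0) (B 9 (R 0) (B 9 (R 0) (B 9 (R 0) (B 9 (R 0)
    (B 8 (L 1) (R 0)))))))))))))))))))))))))))))))))))))))))))))))))))))))))))))))))))))) (B 9 (R
    0) (B 9 (R 0) (B 4 (S 2 5 (R 0)) (B 9 (R 0) (B 9 (R 0) (B 4 (S 2 5 (R 0)) (B 9 (R 0) (B 9 (R
    0) (B 4 (S 2 5 (R 0)) (B 9 (R 0) (B 5 (R 0) (L 3))))))))))))

def t13_19 : Tr :=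
    B 9 (B 4 (R 1) (B 7 (R 0) (B 4 (R 1) (B 7 (S 0 8 (B 4 (R 1) (B 4 (R 1) (B 4 (R 1) (B 4 (S 2 5
    (R 1)) (B 4 (S 2 5 (R 0)) (B 4 (S 2 5 (R 0)) (B 5 (R 0) (L 3))))))))) (B 8 (B 4 (R 1) (B 7 (S
    0 8 (B 4 (R 1) (B 4 (R 1) (B 4 (R 1) (B 4 (R 1) (B 4 (R 1) (B 5 (B 4 (R 1) (B 4 (R 1) (B 4 (R
    1) (B 4 (R 1) (B 4 (R 1) (B 4 (R 1) (B 4 (R 1) (B 4 (R 1) (B 5 (L 3) (R 1)))))))))) (R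
    1)))))))) (R 1))) (L 1)))))) (B 4 (R 1) (B 7 (B 9 (S 0 8 (B 4 (S 2 5 (R 0)) (R 0))) (B 9 (S 0
    8 (B 4 (S 2 5 (R 1)) (R 0))) (B 4 (S 2 5 (R 1)) (B 8 (B 9 (S 0 8 (R 0)) (B 9 (S 0 8 (B 4 (S 2
    5 (R 0)) (R 0))) (B 4 (S 2 5 (B 9 (S 0 8 (R 0)) (B 9 (S 0 8 (R 0)) (R 1)))) (B 9 (S 0 8 (R
    0)) (B 9 (S 0 8 (R 0)) (B 4 (S 2 5 (B 9 (R 0) (B 8 (L 1) (B 9 (R 0) (B 9 (R 0) (B 9 (R 0) (B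
    9 (R 0) (B 9 (R 0) (B 9 (R 0) (B 9 (S 0 8 (R 0)) (B 9 (S 0 8 (R 0)) (B 9 (S 0 8 (R 0)) (B 8
    (R 1) (B 9 (S 0 8 (R 0)) (B 9 (S 0 8 (R 0)) (B 9 (S 0 8 (R 0)) (B 9 (S 0 8 (R 0)) (B 9 (S 0 8
    (R 0)) (B 9 (S 0 8 (R 0)) (B 9 (S 0 8 (R 1)) (R 1))))))))))))))))))))) (B 9 (R 0) (B 8 (L 1)
    (B 9 (R 0) (B 9 (R 0) (t13_18))))))))))) (L 1))))) (B 9 (B 4 (R 1) (B 7 (S 0 8 (R 1)) (R 1)))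
    (R 1))))

def t13_20 : Tr :=
    B 7 (B 9 (B 4 (S 2 5 (B 7 (R 1) (B 8 (R 1) (B 7 (R 1) (B 7 (R 1) (B 8 (L 0) (R 1))))))) (B 7
    (S 0 8 (B 4 (R 1) (B 4 (S 2 5 (R 0)) (R 0)))) (R 0))) (B 4 (S 2 5 (B 9 (B 7 (R 1) (B 8 (L 0)
    (B 7 (R 1) (R 0)))) (B 7 (B 9 (R 1) (B 9 (R 1) (B 8 (L 0) (B 9 (R 1) (B 9 (R 1) (B 9 (R 1) (B
    9 (R 1) (B 8 (L 0) (B 9 (R 1) (B 9 (R 1) (B 9 (R 1) (B 9 (R 1) (B 9 (R 1) (B 9 (R 1) (B 9 (R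
    1) (B 9 (S 0 8 (R 1)) (B 9 (S 0 8 (R 1)) (B 8 (R 0) (B 9 (R 1) (B 9 (S 0 8 (R 1)) (B 9 (S 0 8
    (R 1)) (B 9 (S 0 8 (R 1)) (B 9 (S 0 8 (R 1)) (B 9 (S 0 8 (R 1)) (B 9 (S 0 8 (R 1)) (B 9 (S 0
    8 (R 1)) (B 9 (S 0 8 (R 1)) (B 8 (R 0) (B 9 (S 0 8 (R 1)) (B 9 (S 0 8 (R 0)) (R
    0))))))))))))))))))))))))))))))) (R 0)))) (R 0))) (B 9 (B 4 (S 2 5 (B 7 (R 0) (B 7 (R 0) (B 8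
    (B 7 (R 0) (B 7 (R 0) (B 8 (L 1) (B 7 (R 0) (B 7 (R 0) (B 7 (R 0) (B 7 (R 0) (B 8 (L 1) (B 7
    (R 0) (B 7 (R 0) (B 7 (R 0) (B 7 (R 0) (B 8 (L 1) (B 7 (R 0) (B 7 (R 0) (B 7 (S 0 8 (R 0)) (B
    7 (S 0 8 (R 0)) (B 8 (R 1) (B 7 (S 0 8 (R 0)) (B 7 (S 0 8 (R 1)) (R 1))))))))))))))))))))) (L
    1))))) (R 0)) (R 0))

def tr13 : Tr :=
    B 6 (R 0) (B 6 (B 9 (t13_12) (B 9 (R 3) (B 4 (t13_17) (B 7 (R 1) (t13_19))))) (B 9 (B 6 (B 4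
    (R 0) (t13_20)) (R 4)) (B 6 (B 9 (R 0) (B 4 (R 0) (B 7 (B 9 (R 0) (B 4 (S 2 5 (B 7 (B 9 (R 0)
    (B 9 (R 0) (B 8 (B 9 (R 0) (B 9 (R 0) (B 9 (R 0) (B 9 (R 0) (B 9 (R 0) (B 8 (L 1) (R 0)))))))
    (R 0)))) (R 0))) (R 0))) (R 0)))) (R 0))))

def ls13 : List T3 :=
    [(0, 1, 0), (0, -1, 0), (1, 0, 0), (-1, 0, 0), (0, 0, 1)]

theorem ok13 : chk ls13 (cfg13.map cf) tr13 (cfg13.map st0) = true := by decide +kernel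

def tr14 : Tr :=
    B 3 (R 0) (B 3 (R 1) (B 7 (R 1) (B 3 (R 1) (R 0))))

def ls14 : List T3 :=
    [(0, 0, 1), (1, 0, 0)]

theorem ok14 : chk ls14 (cfg14.map cf) tr14 (cfg14.map st0) = true := by decide +kernel

def tr15 : Tr :=
    R 0

def ls15 : List T3 :=
    [(0, 1, 0)]

theorem ok15 : chk ls15 (cfg15.map cf) tr15 (cfg15.map st0) = true := by decide +kernel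

def tr16 : Tr :=
    B 3 (R 0) (B 2 (R 1) (B 3 (B 2 (R 2) (R 3)) (R 4)))

def ls16 : List T3 :=
    [(1, 0, 1), (0, 1, 0), (1, 0, 0), (-1, 0, 0), (4, 1, 0)]

theorem ok16 : chk ls16 (cfg16.map cf) tr16 (cfg16.map st0) = true := by decide +kernel

def tr17 : Tr :=
    B 5 (R 0) (B 5 (R 1) (B 5 (B 2 (R 2) (B 3 (R 2) (B 6 (B 7 (B 2 (B 3 (S 0 4 (B 6 (B 7 (R 3) (R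
    2)) (R 2))) (R 2)) (R 2)) (R 2)) (R 2)))) (B 5 (B 2 (R 2) (B 3 (R 2) (B 6 (B 7 (B 2 (B 3 (S 0
    4 (B 6 (B 7 (R 3) (R 2)) (R 2))) (R 2)) (R 2)) (R 2)) (R 2)))) (R 4))))

def ls17 : List T3 :=
    [(1, 0, 0), (-1, 0, 0), (0, 1, 0), (0, -1, 0), (0, 0, 1)]

theorem ok17 : chk ls17 (cfg17.map cf) tr17 (cfg17.map st0) = true := by decide +kernel

def tr18 : Tr :=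
    B 2 (R 0) (B 3 (R 1) (B 3 (B 2 (R 1) (R 2)) (R 1)))

def ls18 : List T3 :=
    [(0, 1, 0), (1, 0, 0), (-1, 0, 0)]

theorem ok18 : chk ls18 (cfg18.map cf) tr18 (cfg18.map st0) = true := by decide +kernel

def tr19 : Tr :=
    B 5 (R 0) (B 5 (R 1) (B 5 (B 2 (R 2) (B 3 (R 2) (B 4 (R 2) (L 1)))) (B 2 (R 2) (B 3 (R 2) (B
    4 (R 2) (L 1))))))

def ls19 : List T3 :=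
    [(1, 0, 0), (-1, 0, 0), (0, 0, 1)]

theorem ok19 : chk ls19 (cfg19.map cf) tr19 (cfg19.map st0) = true := by decide +kernel

theorem not_sat {c : List Ty} (hc : c ∈ table) {Ds : List ℤ} (hS : Sat (c.map cf) Ds)
    (hm : Mem (c.map st0) Ds) : False := by
  simp only [table, List.mem_cons, List.not_mem_nil, or_false] at hc
  rcases hc with rfl | rfl | rfl | rfl | rfl | rfl | rfl | rfl | rfl | rfl | rfl | rfl | rfl | rfl | rfl | rfl | rfl | rfl | rfl | rfl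
  · exact chk_sound hS _ hm ok0
  · exact chk_sound hS _ hm ok1
  · exact chk_sound hS _ hm ok2
  · exact chk_sound hS _ hm ok3
  · exact chk_sound hS _ hm ok4
  · exact chk_sound hS _ hm ok5
  · exact chk_sound hS _ hm ok6
  · exact chk_sound hS _ hm ok7
  · exact chk_sound hS _ hm ok8
  · exact chk_sound hS _ hm ok9
  · exact chk_sound hS _ hm ok10
  · exact chk_sound hS _ hm ok11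
  · exact chk_sound hS _ hm ok12
  · exact chk_sound hS _ hm ok13
  · exact chk_sound hS _ hm ok14
  · exact chk_sound hS _ hm ok15
  · exact chk_sound hS _ hm ok16
  · exact chk_sound hS _ hm ok17
  · exact chk_sound hS _ hm ok18
  · exact chk_sound hS _ hm ok19

theorem sumR_map (l : T3) (N : List (Ty × ℤ)) :
    sumR l ((N.map Prod.fst).map cf) (N.map Prod.snd) =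
      (N.map fun m => (dot l (cf m.1).1 : ℚ) / m.2).sum := by
  induction N with
  | nil => rfl
  | cons m N ih => simp only [List.map_cons, sumR, List.sum_cons, ih]

theorem sumL_map (l : T3) (N : List (Ty × ℤ)) :
    sumL l ((N.map Prod.fst).map cf) (N.map Prod.snd) =
      (N.map fun m => dot l (cf m.1).2 * m.2).sum := by
  induction N with
  | nil => rfl
  | cons m N ih => simp only [List.map_cons, sumL, List.sum_cons, ih]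

theorem slots_false (M : List (Ty × ℤ)) (hM : ∀ m ∈ M, m.1 ∈ types) (hO : ∀ m ∈ M, Ok m.1 m.2)
    (h : tot forms M = tot0) (hS : Sat ((M.map Prod.fst).map cf) (M.map Prod.snd)) : False := by
  obtain ⟨N, hN, hc⟩ := exists_cfg M hM h
  refine not_sat hc (Ds := N.map Prod.snd) ?_ ?_
  · obtain ⟨r1, r2, r3, l1, l2, l3⟩ := hS
    simp only [sumR_map, sumL_map] at r1 r2 r3 l1 l2 l3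
    constructor <;> simp only [sumR_map, sumL_map] <;> rwa [(hN.map _).sum_eq]
  · rw [List.map_map, Mem, List.forall₂_map_left_iff, List.forall₂_map_right_iff,
      List.forall₂_same]
    exact fun m hm => st0_mem (hO m (hN.subset hm))

end Lead.LyN
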