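import Mathlib
import Cfsg.Agent.H1.Fitting

/-! Nilpotent subgroups of `GL_n(q)` containing regular unipotent elements; nonsplit tori of `GL_2(q)`. -/

set_option autoImplicit false
set_option linter.unusedSectionVars false

namespace Lead.NC
open Subgroup Matrix

variable {F : Type*} [Field F] [Fintype F] {n : Type*} [Fintype n] [DecidableEq n]

theorem fix {P : Type*} [Group P] {p : ℕ} [hp : Fact p.Prime] [CharP F p] [Nonempty n] (hP : IsPGroup p P)
    (φ : P →* Matrix n n F) : ∃ v : n → F, v ≠ 0 ∧ ∀ g, φ g *ᵥ v = v := by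
  letI : MulAction P (n → F) :=
    { smul := fun g v => φ g *ᵥ v
      one_smul := fun v => by change φ 1 *ᵥ v = v; simp
      mul_smul := fun a b v => by change φ (a * b) *ᵥ v = φ a *ᵥ φ b *ᵥ v; simp }
  obtain ⟨v, hv, h⟩ := hP.exists_fixed_point_of_prime_dvd_card_of_fixed_point (n → F) (a := 0) (by
    obtain ⟨k, -, hk⟩ := FiniteField.card F p
    rw [Nat.card_fun, Nat.card_eq_fintype_card, hk]
    exact dvd_pow (dvd_pow_self _ k.ne_zero) Nat.card_pos.ne') fun g => mulVec_zero _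
  exact ⟨v, h.symm, hv⟩

/-- stabiliser of a line -/
def St (v : n → F) : Subgroup (GL n F) where
  carrier := {g | ∃ c : F, g.1 *ᵥ v = c • v}
  one_mem' := ⟨1, by simp⟩
  mul_mem' := by
    rintro a b ⟨c, hc⟩ ⟨d, hd⟩
    exact ⟨d * c, by rw [Units.val_mul, ← mulVec_mulVec, hd, mulVec_smul, hc, smul_smul]⟩
  inv_mem' := by
    rintro a ⟨c, hc⟩
    have : v = c • (a⁻¹).1 *ᵥ v := by rw [← mulVec_smul, ← hc, mulVec_mulVec, Units.inv_mul, one_mulVec]
    by_cases h : c = 0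
    · exact ⟨0, by rw [h, zero_smul] at this; simp [this]⟩
    · exact ⟨c⁻¹, by rw [eq_inv_smul_iff₀ h]; exact this.symm⟩

theorem St_smul {c : F} (hc : c ≠ 0) (v : n → F) : St (c • v) = St v := by
  ext g
  refine exists_congr fun d => ?_
  rw [mulVec_smul, smul_comm d c, (smul_right_injective _ hc).eq_iff]

theorem center_le (v : n → F) : center (GL n F) ≤ St v := fun g hg => by
  obtain ⟨c, rfl⟩ := (GeneralLinearGroup.center_eq_range_scalar.le hg)
  exact ⟨c, by simp⟩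

theorem exists_not_mem [Nontrivial n] {v : n → F} (hv : v ≠ 0) : ∃ g : SpecialLinearGroup n F, g.toGL ∉ St v := by
  obtain ⟨i, hi⟩ := Function.ne_iff.1 hv
  obtain ⟨j, hj⟩ := exists_ne i
  refine ⟨⟨transvection j i 1, det_transvection_of_ne _ _ hj _⟩, fun ⟨c, hc⟩ => hi ?_⟩
  have h1 := congrFun hc i
  have h2 := congrFun hc j
  change (transvection j i (1 : F) *ᵥ v) _ = _ at h1 h2
  simp [transvection, add_mulVec, single_mulVec, hj.symm] at h1 h2
  rw [← mul_left_eq_self₀.1 h1.symm |>.resolve_right hi |>.symm] at h2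
  simpa using h2

section
variable {p : ℕ} [hp : Fact p.Prime] [CharP F p] {A : Subgroup (GL n F)} [Group.IsNilpotent A]

theorem mem_syl (P : Sylow p A) {u : GL n F} (hu : u ∈ A) {k : ℕ} (h : u ^ p ^ k = 1) : (⟨u, hu⟩ : A) ∈ P := by
  have : IsPGroup p (zpowers (⟨u, hu⟩ : A)) := by
    rintro ⟨_, j, rfl⟩
    refine ⟨k, Subtype.ext (Subtype.ext ?_)⟩
    change (u ^ j) ^ p ^ k = 1
    rw [← _root_.zpow_natCast, ← _root_.zpow_mul, mul_comm, _root_.zpow_mul, _root_.zpow_natCast, h, _root_.one_zpow]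
  obtain ⟨Q, hQ⟩ := this.exists_le_sylow
  haveI := Sylow.unique_of_normal P inferInstance
  exact Subsingleton.elim Q P ▸ hQ (mem_zpowers _)

theorem le_St [Nonempty n] {u : GL n F} (hu : u ∈ A) {k : ℕ} (h : u ^ p ^ k = 1) {v : n → F}
    (hv : ∀ w, u.1 *ᵥ w = w → ∃ c : F, w = c • v) : A ≤ St v := fun a ha => by
  obtain ⟨P⟩ : Nonempty (Sylow p A) := inferInstance
  obtain ⟨w, hw, H⟩ := fix P.isPGroup' ((Units.coeHom _).comp (A.subtype.comp P.1.subtype))
  have h1 := mem_syl P hu h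
  obtain ⟨c, rfl⟩ := hv w (H ⟨_, h1⟩)
  have hc : c ≠ 0 := fun e => hw (by simp [e])
  have h2 : (a⁻¹ * u * a).1 *ᵥ (c • v) = c • v :=
    H ⟨_, (inferInstance : P.1.Normal).conj_mem' _ h1 ⟨a, ha⟩⟩
  obtain ⟨d, hd⟩ := hv (a.1 *ᵥ (c • v)) (by
    conv_rhs => rw [← h2]
    rw [mulVec_mulVec, mulVec_mulVec, ← Units.val_mul, ← Units.val_mul]; congr 2; group)
  exact ⟨c⁻¹ * d, by rw [← smul_smul, ← hd, mulVec_smul, inv_smul_smul₀ hc]⟩

theorem dual [Nonempty n] {u u' : GL n F} (hu : u ∈ A) (hu' : u' ∈ A) {k k' : ℕ} (h : u ^ p ^ k = 1)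
    (h' : u' ^ p ^ k' = 1) : ∃ w : n → F, w ≠ 0 ∧ w ᵥ* u.1 = w ∧ w ᵥ* u'.1 = w := by
  obtain ⟨P⟩ : Nonempty (Sylow p A) := inferInstance
  obtain ⟨w, hw, H⟩ := fix P.isPGroup'
    { toFun := fun g => (g.1.1⁻¹).1ᵀ, map_one' := by simp, map_mul' := fun a b => by simp }
  refine ⟨w, hw, ?_, ?_⟩
  · simpa [mulVec_transpose] using H (⟨_, mem_syl P hu h⟩)⁻¹
  · simpa [mulVec_transpose] using H (⟨_, mem_syl P hu' h'⟩)⁻¹

end

theorem exists_unip {p : ℕ} [hp : Fact p.Prime] [CharP F p] [Nonempty n] {N : Matrix n n F} (hN : IsNilpotent N) :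
    ∃ u : SpecialLinearGroup n F, u.1 = 1 + N ∧ ∃ k, u.toGL ^ p ^ k = 1 := by
  obtain ⟨k, hk⟩ := hN
  have h : (1 + N) ^ p ^ k = 1 := by
    rw [add_pow_char_pow_of_commute _ _ (Commute.one_left N), one_pow,
      pow_eq_zero_of_le (Nat.lt_pow_self hp.out.one_lt).le hk, add_zero]
  refine ⟨⟨1 + N, ?_⟩, rfl, k, Units.ext ((Units.val_pow_eq_pow_val _ _).trans h)⟩
  have := congrArg det h
  rw [det_pow, det_one, ← sub_eq_zero, ← one_pow (M := F) (p ^ k), ← sub_pow_char_pow] at this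
  exact sub_eq_zero.1 (pow_eq_zero_iff (pow_ne_zero _ hp.out.ne_zero) |>.1 this)

/-- Jordan block -/
def J {m : ℕ} (e : Fin m ≃ Fin m) : Matrix (Fin m) (Fin m) F := of fun i j => if (e j : ℕ) = e i + 1 then 1 else 0

theorem J_col {m : ℕ} (e : Fin m ≃ Fin m) (v : Fin m → F) {i j : Fin m} (h : (e j : ℕ) = e i + 1) :
    (J e *ᵥ v) i = v j := by
  rw [mulVec, dotProduct, Finset.sum_eq_single j (fun l _ hl => ?_) (by simp)]
  · simp [J, h]
  · rw [J, of_apply, if_neg fun h' => hl (e.injective (Fin.ext (h'.trans h.symm))), zero_mul]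

theorem J_row {m : ℕ} (e : Fin m ≃ Fin m) (v : Fin m → F) {i j : Fin m} (h : (e j : ℕ) = e i + 1) :
    (v ᵥ* J e) j = v i := by
  rw [vecMul, dotProduct, Finset.sum_eq_single i (fun l _ hl => ?_) (by simp)]
  · simp [J, h]
  · rw [J, of_apply, if_neg fun h' => hl (e.injective (Fin.ext (by omega))), mul_zero]

theorem J_nil {m : ℕ} (e : Fin m ≃ Fin m) : IsNilpotent (J e : Matrix (Fin m) (Fin m) F) := by
  have : ∀ (k : ℕ) (v : Fin m → F) i, m ≤ e i + k → (J e ^ k *ᵥ v) i = 0 := fun k v => by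
    induction k with
    | zero => exact fun i h => absurd (e i).2 (by omega)
    | succ k ih =>
      intro i hi
      rw [pow_succ', ← mulVec_mulVec]
      by_cases h : (e i : ℕ) + 1 < m
      · rw [J_col e _ (j := e.symm ⟨_, h⟩) (by simp)]
        exact ih _ (by simp; omega)
      · rw [mulVec, dotProduct]
        refine Finset.sum_eq_zero fun j _ => ?_
        rw [J, of_apply, if_neg (by have := (e j).2; omega), zero_mul]
  refine ⟨m, Matrix.ext fun i j => ?_⟩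
  simpa using this m (Pi.single j 1) i (by omega)

theorem par {v w : Fin 2 → F} (hv : v ≠ 0) (h : v 0 * w 1 = v 1 * w 0) : ∃ c : F, w = c • v := by
  by_cases h0 : v 0 = 0
  · have h1 : v 1 ≠ 0 := fun h1 => hv (by funext i; fin_cases i <;> assumption)
    refine ⟨w 1 / v 1, funext fun i => ?_⟩
    fin_cases i
    · rw [h0, zero_mul] at h; simpa [h0, h1] using h
    · simp [h1]
  · refine ⟨w 0 / v 0, funext fun i => ?_⟩
    fin_cases i
    · simp [h0]
    · simp; field_simp; linear_combination h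

theorem transv {p : ℕ} [hp : Fact p.Prime] [CharP F p] {v : Fin 2 → F} (hv : v ≠ 0) :
    ∃ u : SpecialLinearGroup (Fin 2) F, (∃ k, u.toGL ^ p ^ k = 1) ∧ (u.1 0 1 ≠ 0 ∨ u.1 1 0 ≠ 0) ∧
      ∀ (w : Fin 2 → F) (c : F), u.1 *ᵥ w = c • w → ∃ d : F, w = d • v := by
  obtain ⟨u, h1, h2⟩ := exists_unip (p := p) (N := !![-(v 0 * v 1), v 0 * v 0; -(v 1 * v 1), v 0 * v 1])
    ⟨2, by rw [sq]; ext i j; fin_cases i <;> fin_cases j <;> simp <;> ring⟩
  refine ⟨u, h2, ?_, fun w c h => par hv ?_⟩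
  · by_contra! H
    simp only [h1] at H
    exact hv (by
      funext i; fin_cases i
      · simpa using H.1
      · simpa using H.2)
  · rw [h1] at h
    have e0 := congrFun h 0
    have e1 := congrFun h 1
    simp [mulVec, dotProduct, Fin.sum_univ_two] at e0 e1
    have : (v 0 * w 1 - v 1 * w 0) ^ 2 = 0 := by linear_combination w 1 * e0 - w 0 * e1
    exact sub_eq_zero.1 (pow_eq_zero_iff two_ne_zero |>.1 this)

theorem ell {g : GL (Fin 2) F} (hg : ∀ v, v ≠ 0 → g ∉ St v) {m s : ℕ} (hs : Fintype.card F + 1 = m * s) :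
    ∃ y : SpecialLinearGroup (Fin 2) F, orderOf y.toGL = s ∧ (y.1 1 0 = 0 → y.toGL ^ 2 = 1) ∧
      ∃ z ∈ closure {g, y.toGL}, g ∈ zpowers z ∧ y.toGL ∈ zpowers z := by
  set R := Algebra.adjoin F {g.1}
  let g' : R := ⟨g.1, Algebra.self_mem_adjoin_singleton _ _⟩
  have hk : ∀ x : R, ∀ v, v ≠ 0 → x.1 *ᵥ v = 0 → x = 0 := fun x v hv h => by
    have h1 : x.1 *ᵥ g.1 *ᵥ v = 0 := by
      have : x.1 * g.1 = g.1 * x.1 := congrArg Subtype.val (mul_comm x g')
      rw [mulVec_mulVec, this, ← mulVec_mulVec, h, mulVec_zero]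
    have h2 : v 0 * (g.1 *ᵥ v) 1 - v 1 * (g.1 *ᵥ v) 0 ≠ 0 := fun e => hg v hv (par hv (sub_eq_zero.1 e))
    generalize g.1 *ᵥ v = w at h1 h2
    refine Subtype.ext (ext fun i j => mul_left_cancel₀ h2 ?_)
    have e0 := congrFun h i
    have e1 := congrFun h1 i
    simp only [mulVec, dotProduct, Fin.sum_univ_two, Pi.zero_apply] at e0 e1
    fin_cases j
    · simp only [Fin.zero_eta, ZeroMemClass.coe_zero, Matrix.zero_apply, mul_zero]; linear_combination w 1 * e0 - v 1 * e1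
    · simp only [Fin.mk_one, ZeroMemClass.coe_zero, Matrix.zero_apply, mul_zero]; linear_combination v 0 * e1 - w 0 * e0
  have he : (Pi.single 0 1 : Fin 2 → F) ≠ 0 := by simp
  haveI : NoZeroDivisors R := ⟨fun {x y} h => or_iff_not_imp_right.2 fun hy =>
    hk x _ (fun e => hy (hk y _ he e)) (by rw [mulVec_mulVec]; exact (congrArg (·.1 *ᵥ _) h).trans (zero_mulVec _))⟩
  haveI : IsDomain R := NoZeroDivisors.to_isDomain R
  have hc : Nat.card R = Fintype.card F ^ 2 := by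
    rw [← Nat.card_eq_fintype_card, show Nat.card F ^ 2 = Nat.card (Fin 2 → F) by simp]
    refine le_antisymm (Nat.card_le_card_of_injective (fun x => x.1 *ᵥ Pi.single 0 1) fun x y h => ?_)
      (Nat.card_le_card_of_injective (fun a => a 0 • (1 : R) + a 1 • g') fun a b h => ?_)
    · exact sub_eq_zero.1 (hk _ _ he (by rw [AddSubgroupClass.coe_sub, sub_mulVec]; exact sub_eq_zero.2 h))
    · have h1 : (a 1 - b 1) • g.1 *ᵥ Pi.single 0 1 = (b 0 - a 0) • Pi.single 0 1 := by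
        have : (a 1 - b 1) • g' = (b 0 - a 0) • (1 : R) := by
          simp only [sub_smul]; linear_combination h
        have := congrArg (·.1 *ᵥ Pi.single 0 1) this
        simpa only [SetLike.val_smul, OneMemClass.coe_one, smul_mulVec, one_mulVec] using this
      have h2 : a 1 - b 1 = 0 := by_contra fun h2 => hg _ he
        ⟨(a 1 - b 1)⁻¹ * (b 0 - a 0), by rw [← smul_smul, ← h1, inv_smul_smul₀ h2]⟩
      rw [h2, zero_smul, eq_comm, smul_eq_zero, or_iff_left he] at h1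
      funext i; fin_cases i
      exacts [(sub_eq_zero.1 h1).symm, sub_eq_zero.1 h2]
  have hu : Nat.card Rˣ = (Fintype.card F - 1) * m * s := by
    letI := (Finite.isField_of_domain R).toField
    refine (Nat.card_units R).trans ?_
    rw [hc, mul_assoc, ← hs, mul_comm, ← Nat.sq_sub_sq]
  let ι : Rˣ →* GL (Fin 2) F := Units.map R.val.toMonoidHom
  have hι : Function.Injective ι := Units.map_injective Subtype.val_injective
  obtain ⟨ζ, hζ⟩ := IsCyclic.exists_ofOrder_eq_natCard (α := Rˣ)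
  have h0 : (Fintype.card F - 1) * m ≠ 0 := left_ne_zero_of_mul (hu ▸ Nat.card_pos.ne')
  set y := ζ ^ ((Fintype.card F - 1) * m) with hy
  have hd : (ι y).1.det = 1 := by
    rw [hy, map_pow, Units.val_pow_eq_pow_val, det_pow, pow_mul,
      FiniteField.pow_card_sub_one_eq_one _ (GeneralLinearGroup.det_ne_zero _), one_pow]
  have e : SpecialLinearGroup.toGL (⟨(ι y).1, hd⟩ : SpecialLinearGroup (Fin 2) F) = ι y := Units.ext rfl
  obtain ⟨g1, hg1⟩ : ∃ g1 : Rˣ, ι g1 = g := by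
    letI := (Finite.isField_of_domain R).toField
    exact ⟨Units.mk0 g' fun h => hg _ he ⟨0, by rw [show g.1 = 0 from congrArg Subtype.val h, zero_mulVec, zero_smul]⟩, Units.ext rfl⟩
  refine ⟨⟨(ι y).1, hd⟩, ?_, fun h => ?_, ?_⟩ <;> rw [e]
  · rw [orderOf_injective ι hι, hy, orderOf_pow' _ h0, hζ, hu, Nat.gcd_mul_right_left,
      Nat.mul_div_cancel_left _ (Nat.pos_of_ne_zero h0)]
  · have h1 : (ι y).1 = (ι y).1 0 0 • (1 : Matrix _ _ F) := by
      have := hk (y.1 - (ι y).1 0 0 • 1) _ he (by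
        change ((ι y).1 - (ι y).1 0 0 • 1) *ᵥ _ = _
        funext i; fin_cases i
        · simp
        · simpa using h)
      exact congrArg Subtype.val (sub_eq_zero.1 this)
    rw [h1, det_smul, det_one, mul_one, Fintype.card_fin] at hd
    exact Units.ext (by rw [Units.val_pow_eq_pow_val, h1, smul_pow, hd]; simp)
  · obtain ⟨z, hz⟩ := IsCyclic.exists_generator (α := closure {g1, y})
    have k : ∀ x ∈ closure {g1, y}, ι x ∈ zpowers (ι z) := fun x hx => by
      obtain ⟨k, hk⟩ := hz ⟨x, hx⟩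
      exact ⟨k, (map_zpow ι _ k).symm.trans (congrArg (fun t : closure {g1, y} => ι t) hk)⟩
    refine ⟨ι z, ?_, hg1 ▸ k _ (subset_closure (by simp)), k _ (subset_closure (by simp))⟩
    have := mem_map_of_mem ι z.2
    rwa [MonoidHom.map_closure, Set.image_pair, hg1] at this

theorem primes {q : ℕ} (hq : 4 ≤ q) : ∃ r s, 2 < r ∧ 2 < s ∧ r ∣ q - 1 ∧ s ∣ q + 1 ∧ r.Coprime s := by
  obtain ⟨k, rfl⟩ : ∃ k, q = k + 1 := ⟨q - 1, by omega⟩
  rw [Nat.add_sub_cancel]
  have h : ∀ a : ℕ, (2 * a + 1).Coprime (2 * a + 1 + 1) := fun a => by simp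
  obtain ⟨j, rfl | rfl | rfl | rfl⟩ : ∃ j, k = 4 * j ∨ k = 4 * j + 1 ∨ k = 4 * j + 2 ∨ k = 4 * j + 3 :=
    ⟨k / 4, by omega⟩
  · refine ⟨4, 2 * j + 1, by omega, by omega, by omega, ⟨2, by ring⟩, ?_⟩
    exact (Nat.coprime_pow_left_iff two_pos 2 _).2 (by simp)
  · refine ⟨4 * j + 1, 4 * j + 1 + 2, by omega, by omega, dvd_rfl, dvd_rfl, ?_⟩
    rw [Nat.coprime_self_add_right, Nat.coprime_two_right]; exact ⟨2 * j, by ring⟩
  · refine ⟨2 * j + 1, 4, by omega, by omega, ⟨2, by ring⟩, by omega, ?_⟩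
    exact (Nat.coprime_pow_right_iff two_pos _ 2).2 (by simp)
  · refine ⟨4 * j + 3, 4 * j + 3 + 2, by omega, by omega, dvd_rfl, dvd_rfl, ?_⟩
    rw [Nat.coprime_self_add_right, Nat.coprime_two_right]; exact ⟨2 * j + 1, by ring⟩

theorem split {r : ℕ} (hr : 2 < r) (h : r ∣ Fintype.card F - 1) : ∃ d : SpecialLinearGroup (Fin 2) F,
    d.toGL ^ r = 1 ∧ ∀ x : GL (Fin 2) F, Commute d.toGL x → x.1 0 1 = 0 ∧ x.1 1 0 = 0 := by
  obtain ⟨ζ, hζ⟩ := IsCyclic.exists_ofOrder_eq_natCard (α := Fˣ)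
  rw [Nat.card_units, Nat.card_eq_fintype_card] at hζ
  have h0 : orderOf ζ ≠ 0 := (orderOf_pos ζ).ne'
  have h1 := orderOf_pow_orderOf_div h0 (hζ ▸ h)
  generalize ζ ^ (orderOf ζ / r) = a at h1
  have h2 : (a : F) - (a : F)⁻¹ ≠ 0 := fun e => by
    have : a ^ 2 = 1 := Units.ext (by
      rw [sub_eq_zero] at e
      rw [sq, Units.val_mul]; nth_rewrite 2 [e]; simp)
    exact absurd (Nat.le_of_dvd two_pos (h1 ▸ orderOf_dvd_of_pow_eq_one this)) (by omega)
  have h3 : (a : F) ^ r = 1 := by rw [← Units.val_pow_eq_pow_val, ← h1, pow_orderOf_eq_one, Units.val_one]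
  refine ⟨⟨diagonal ![a, a⁻¹], by simp⟩, Units.ext ?_, fun x hx => ?_⟩
  · change diagonal ![(a : F), a⁻¹] ^ r = 1
    rw [diagonal_pow, ← diagonal_one]; congr 1; funext i; fin_cases i <;> simp [h3]
  · have e : diagonal ![(a : F), a⁻¹] * x.1 = x.1 * diagonal ![(a : F), a⁻¹] := congrArg Units.val hx.eq
    have e0 := congrFun (congrFun e 0) 1
    have e1 := congrFun (congrFun e 1) 0
    simp only [diagonal_mul, mul_diagonal, cons_val_zero, cons_val_one] at e0 e1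
    exact ⟨mul_left_cancel₀ h2 (by linear_combination e0), mul_left_cancel₀ h2 (by linear_combination -e1)⟩

section
variable {G : Subgroup (GL n F ⧸ center (GL n F))}

/-- preimage in `GL` -/
def up (A : Subgroup G) : Subgroup (GL n F) := (A.map G.subtype).comap (QuotientGroup.mk' _)
/-- stabiliser of a point in `G` -/
def B (G : Subgroup (GL n F ⧸ center (GL n F))) (v : n → F) : Subgroup G :=
  ((St v).map (QuotientGroup.mk' _)).comap G.subtype

theorem up_nil {A : Subgroup G} (h : Group.IsNilpotent A) : Group.IsNilpotent (up A) := by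
  haveI := Group.nilpotent_of_mulEquiv (A.equivMapOfInjective _ G.subtype_injective)
  refine Subgroup.isNilpotent_of_ker_le_center ((QuotientGroup.mk' _).subgroupComap (A.map G.subtype)) fun x hx => ?_
  have : x.1 ∈ center (GL n F) := (QuotientGroup.eq_one_iff _).1 (congrArg Subtype.val hx)
  exact mem_center_iff.2 fun y => Subtype.ext (mem_center_iff.1 this y)

theorem mem_up {A : Subgroup G} {x : GL n F} {h : (x : GL n F ⧸ center (GL n F)) ∈ G} :
    (⟨_, h⟩ : G) ∈ A ↔ x ∈ up A :=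
  ⟨fun H => ⟨_, H, rfl⟩, fun ⟨y, H, e⟩ => (Subtype.ext e : y = ⟨_, h⟩) ▸ H⟩

theorem mem_B {v : n → F} {x : GL n F} {h : (x : GL n F ⧸ center (GL n F)) ∈ G} :
    (⟨_, h⟩ : G) ∈ B G v ↔ x ∈ St v := by
  change x ∈ ((St v).map (QuotientGroup.mk' _)).comap (QuotientGroup.mk' _) ↔ _
  rw [comap_map_eq_self (by rw [QuotientGroup.ker_mk']; exact center_le v)]

theorem le_B {A : Subgroup G} {v : n → F} : A ≤ B G v ↔ up A ≤ St v := by
  refine ⟨fun H x ⟨y, hy, e⟩ => ?_, fun H ⟨x, hx⟩ h => ?_⟩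
  · have h : (x : GL n F ⧸ center (GL n F)) ∈ G := (show (y : GL n F ⧸ center (GL n F)) = x from e) ▸ y.2
    exact (mem_B (h := h)).1 (H (mem_up.2 ⟨y, hy, e⟩))
  · obtain ⟨x, rfl⟩ := QuotientGroup.mk_surjective x
    exact mem_B.2 (H (mem_up.1 h))

end

theorem shrink {G : Type*} [Group G] {𝓐 : Finset (Subgroup G)}
    (hm : ∀ 𝓑 : Finset (Subgroup G), (∀ A ∈ 𝓑, A ≠ ⊤) ∧ (∀ g, ∃ A ∈ 𝓑, g ∈ A) → 𝓐.card ≤ 𝓑.card)
    (f : Subgroup G → Subgroup G) (h1 : ∀ A ∈ 𝓐, f A ≠ ⊤) {S : Subgroup G} (hS : S ∈ 𝓐)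
    (h2 : ∀ g, ∃ A ∈ 𝓐, A ≠ S ∧ g ∈ f A) : False := by
  classical
  have := hm ((𝓐.erase S).image f) ⟨fun A hA => by
    obtain ⟨A, hA', rfl⟩ := Finset.mem_image.1 hA
    exact h1 A (Finset.mem_of_mem_erase hA'), fun g => by
    obtain ⟨A, h, h', hg⟩ := h2 g
    exact ⟨_, Finset.mem_image_of_mem f (Finset.mem_erase.2 ⟨h', h⟩), hg⟩⟩
  exact absurd (this.trans Finset.card_image_le) (Finset.card_erase_lt_of_mem hS).not_ge

end Lead.NC
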