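import Cfsg.Agent.H6.SI1
import Cfsg.Agent.H8.Sdp
import Cfsg.Agent.H20.ST4
import Cfsg.Agent.S0119
import Cfsg.Agent.S0095

/-! Noncyclic odd groups of automorphisms of `2`-groups whose elements fix at most one involution. -/

set_option autoImplicit false
set_option maxHeartbeats 400000

namespace Lead.NQ
open Subgroup Cfsg
open GW.Q8 (UI)

variable {W : Type*} [Group W] [Finite W] (hW : IsPGroup 2 W)
include hW

theorem fix_of {f : MulAut W} (hf : Odd (orderOf f)) {y c : W} (h : f y = y * c) (hc : f c = c) : c = 1 := by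
  have k : ∀ n : ℕ, (f ^ n) y = y * c ^ n := fun n => by
    induction n with
    | zero => simp
    | succ n ih => rw [pow_succ', MulAut.mul_apply, ih, map_mul, map_pow, h, hc, mul_assoc, pow_succ']
  have h1 := k (orderOf f)
  rw [pow_orderOf_eq_one, MulAut.one_apply, left_eq_mul, ← orderOf_dvd_iff_pow_eq_one] at h1
  obtain ⟨n, hn⟩ := IsPGroup.iff_orderOf.1 hW c
  exact orderOf_eq_one_iff.1 (Nat.eq_one_of_dvd_coprimes ((Nat.coprime_two_left.2 hf).pow_left n) (hn ▸ dvd_rfl) h1)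

theorem fix_zp {f : MulAut W} (hf : Odd (orderOf f)) {a : W} (h : f a ∈ zpowers a) : f a = a := by
  obtain ⟨n, hn⟩ := hW a
  induction n generalizing a with
  | zero => simp [show a = 1 by simpa using hn]
  | succ n ih =>
    obtain ⟨k, hk⟩ := h
    dsimp only at hk
    have h2 : f (a ^ 2) = a ^ 2 := ih ⟨k, by
      simp only [map_pow]; rw [← hk, ← zpow_natCast, ← zpow_natCast, ← zpow_mul, ← zpow_mul, mul_comm]⟩
      (by rw [← pow_mul, ← pow_succ', hn])
    obtain ⟨j, rfl | rfl⟩ := Int.even_or_odd' k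
    · rw [zpow_mul, zpow_ofNat] at hk
      exact f.injective (by rw [← hk, map_zpow, h2])
    · rw [add_comm, zpow_add, zpow_one, zpow_mul, zpow_ofNat] at hk
      rw [← hk, fix_of hW hf hk.symm (by rw [map_zpow, h2]), mul_one]

theorem q8 {Q : Subgroup W} (hU : UI Q) {f : MulAut W} (hf : Odd (orderOf f)) (hQ : ∀ x ∈ Q, f x ∈ Q)
    (hn : ¬ Q ≤ fixedSubgroup f) : Nat.card Q = 8 ∧ (∃ a ∈ Q, a * a ≠ 1) ∧ ∀ x ∈ Q, x * x ≠ 1 →
      (∀ y ∈ Q, y ∉ zpowers x → ¬ Commute x y ∧ ∀ w ∈ Q, w ∈ zpowers x ∨ w * y ∈ zpowers x) := by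
  have h2 := hW.to_subgroup Q
  have hc : ¬ IsCyclic Q := fun hc => by
    obtain ⟨a, rfl⟩ := H8.exists_zpowers_eq_of_isCyclic hc
    exact hn (zpowers_le.2 (fix_zp hW hf (hQ a (mem_zpowers a))))
  obtain ⟨n, ⟨e⟩⟩ := (hU.cases h2).resolve_left hc
  obtain ⟨a, b, ha, hb, h1, h3, h4, hab, h6⟩ := H6.exists_gens_of_quaternion_subgroup e
  have hb' : ∀ k : ℤ, b * a ^ k * b⁻¹ = a ^ (-k) := fun k => by rw [← conj_zpow, h4]; simp
  have sq : ∀ k : ℤ, (a ^ k * b) ^ 4 = 1 := fun k => by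
    rw [show (a ^ k * b) ^ 4 = (a ^ k * (b * a ^ k * b⁻¹) * (b * b)) ^ 2 by simp only [pow_succ]; group, hb', h3,
      ← zpow_add, add_neg_cancel, zpow_zero, one_mul, ← pow_mul, mul_comm, ← h1, pow_orderOf_eq_one]
  have ha4 : a ^ 4 = 1 := by
    obtain ⟨k, hk | hk⟩ := h6 _ (hQ a ha)
    · have h7 := fix_zp hW hf ⟨k, hk.symm⟩
      obtain ⟨j, hj | hj⟩ := h6 _ (hQ b hb)
      · exact absurd ⟨j, f.injective (by rw [hj, map_zpow, h7])⟩ hab
      have h8 : f b = b := by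
        have e : f b = b * (b⁻¹ * a ^ j * b) := by rw [hj]; group
        have e2 : b⁻¹ * a ^ j * b = a ^ (-j) := by
          rw [← neg_neg j, ← hb' (-j)]; group
        rw [e, fix_of hW hf e (by rw [e2, map_zpow, h7]), mul_one]
      refine absurd (fun g hg => ?_) hn
      obtain ⟨i, rfl | rfl⟩ := h6 g hg
      exacts [zpow_mem (show a ∈ fixedSubgroup f from h7) i,
        mul_mem (zpow_mem (show a ∈ fixedSubgroup f from h7) i) h8]
    · exact f.injective (by rw [map_pow, hk, sq, map_one])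
  obtain rfl : n = 0 := by
    have := Nat.le_of_dvd (by norm_num) (h1 ▸ orderOf_dvd_of_pow_eq_one ha4)
    by_contra h
    have := Nat.pow_le_pow_right two_pos (show 2 ≤ n + 1 by omega)
    omega
  have h8 : Nat.card Q = 8 := by rw [Nat.card_congr e.toEquiv, Nat.card_eq_fintype_card, QuaternionGroup.card]; rfl
  refine ⟨h8, ⟨a, ha, fun h => absurd (h1 ▸ orderOf_dvd_of_pow_eq_one ((pow_two a).trans h)) (by norm_num)⟩,
    fun x hx h y hy hxy => ⟨fun hc' => hc (H6.SI.ui_cyc hU h2 hx (fun w hw => ?_) h), ?_⟩⟩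
  swap
  all_goals
    have h9 : orderOf x = 2 ^ (1 + 1) := orderOf_eq_prime_pow (by simpa [pow_two] using h) (by
      obtain ⟨k, rfl | rfl⟩ := h6 x hx
      · rw [← zpow_natCast, ← zpow_mul, mul_comm, zpow_mul, zpow_natCast]; simp [ha4]
      · exact sq k)
    have h10 : ((zpowers x).subgroupOf Q).index = 2 := by
      have := ((zpowers x).subgroupOf Q).card_mul_index
      rw [Nat.card_congr (subgroupOfEquivOfLe (zpowers_le.2 hx)).toEquiv, Nat.card_zpowers, h9, h8] at this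
      omega
    have h11 : ∀ w ∈ Q, w ∈ zpowers x ∨ w * y ∈ zpowers x := fun w hw => or_iff_not_imp_left.2 fun h =>
      (mul_mem_iff_of_index_two h10 (a := ⟨w, hw⟩) (b := ⟨y, hy⟩)).2 (iff_of_false h hxy)
  · exact h11
  have k : zpowers x ≤ centralizer {x} := zpowers_le.2 (mem_centralizer_singleton_iff.2 rfl)
  exact (h11 w hw).elim (fun h => k h) fun h =>
    (mul_mem_cancel_right (mem_centralizer_singleton_iff.2 hc'.symm)).1 (k h)

omit hW in
theorem gen {E : Subgroup (MulAut W)} (hab : IsMulCommutative E) (hnc : ¬ IsCyclic E)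
    (hcop : (Nat.card E).Coprime (Nat.card W)) {V H : Subgroup W} (hV : ∀ e ∈ E, ∀ x ∈ V, e x ∈ V)
    (h : ∀ e ∈ E, e ≠ 1 → V ⊓ fixedSubgroup e ≤ H) : V ≤ H := by
  have e := (⊤ : Subgroup E).equivMapOfInjective _ (SemidirectProduct.inr_injective (φ := E.subtype))
  have : IsMulCommutative (H8.sdR E.subtype ⊤) := ⟨⟨by
    rintro ⟨_, a, -, rfl⟩ ⟨_, b, -, rfl⟩
    exact Subtype.ext (by simp only [coe_mul, ← map_mul, hab.1.1 a b])⟩⟩
  refine (H8.sdL_le_iff E.subtype).1 (H1.le_of_forall_centralizer_le (A := H8.sdR E.subtype ⊤)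
    (fun hc => hnc (isCyclic_of_surjective _ (e.symm.trans topEquiv).surjective))
    (H8.sdR_le_normalizer _ fun a _ => hV a a.2) (by
      rw [H8.card_sdR, H8.card_sdL, card_top]; exact hcop.coprime_dvd_right (card_subgroup_dvd_card V)) ?_)
  rintro _ ⟨a, -, rfl⟩ ha _ ⟨⟨x, hx, rfl⟩, hc⟩
  refine ⟨x, h a a.2 (fun e => ha (by rw [show a = 1 from Subtype.ext e, map_one])) ⟨hx, ?_⟩, rfl⟩
  apply SemidirectProduct.inl_injective (φ := E.subtype)
  exact (H8.inr_conj_inl E.subtype a x).symm.trans (by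
    rw [← mem_centralizer_singleton_iff.1 hc, mul_inv_cancel_right])

omit hW in
theorem card_sup {Z : Subgroup W} (hZ : Nat.card Z = 2) (hc : commutator W ≤ Z) (s : Finset (Subgroup W))
    (h : ∀ A ∈ s, Z ≤ A ∧ Nat.card A ≤ 8) : Nat.card (Z ⊔ s.sup id : Subgroup W) ≤ 2 * 4 ^ s.card := by
  classical
  induction s using Finset.induction with
  | empty => simp [hZ]
  | insert A s hA ih =>
    have h1 := ih fun B hB => h B (Finset.mem_insert_of_mem hB)
    obtain ⟨h2, h3⟩ := h A (Finset.mem_insert_self _ _)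
    have : A.Normal := Normal.of_commutator_le _ (hc.trans h2)
    have h4 := H5.card_sup_mul_card_inf (H := Z ⊔ s.sup id) (N := A) (by rw [normalizer_eq_top]; exact le_top)
    have h5 := hZ ▸ card_le_of_le (le_inf le_sup_left h2 : Z ≤ (Z ⊔ s.sup id) ⊓ A)
    rw [Finset.sup_insert, Finset.card_insert_of_notMem hA, id, sup_comm A, ← sup_assoc, pow_succ]
    nlinarith

theorem main {p : ℕ} [Fact p.Prime] (hp : p ≠ 2) (E : Subgroup (MulAut W)) (hE : IsPGroup p E)
    (hab : IsMulCommutative E) (hnc : ¬ IsCyclic E)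
    (hfix : ∀ e ∈ E, e ≠ 1 → ∀ x y : W, orderOf x = 2 → orderOf y = 2 → e x = x → e y = y → x = y) :
    Nat.card E = 9 ∧ IsExtraspecial 2 W ∧ (Nat.card W = 2 ^ 5 ∨ Nat.card W = 2 ^ 7 ∨ Nat.card W = 2 ^ 9) ∧
      {x : W | ∀ e ∈ E, e x = x} = (center W : Set W) := by
  classical
  have hE2 : (Nat.card E).Coprime 2 := by
    obtain ⟨n, hn⟩ := IsPGroup.iff_card.1 hE
    rw [hn]; exact ((Nat.coprime_primes Fact.out Nat.prime_two).2 hp).pow_left n
  have hcop : (Nat.card E).Coprime (Nat.card W) := by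
    obtain ⟨n, hn⟩ := IsPGroup.iff_card.1 hW
    rw [hn]; exact hE2.pow_right n
  have odd : ∀ e ∈ E, Odd (orderOf e) := fun e he =>
    (Nat.coprime_two_right.1 hE2).of_dvd_nat (orderOf_dvd_natCard E he)
  have hU : ∀ e ∈ E, e ≠ 1 → UI (fixedSubgroup e) := fun e he h1 a ha b hb h2 h3 => hfix e he h1 a b h2 h3 ha hb
  have inv : ∀ e ∈ E, ∀ f ∈ E, ∀ x ∈ fixedSubgroup e, f x ∈ fixedSubgroup e := fun e he f hf x hx => by
    have : e * f = f * e := congrArg Subtype.val (hab.1.1 ⟨e, he⟩ ⟨f, hf⟩)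
    change (e * f) x = f x
    rw [this, MulAut.mul_apply, show e x = x from hx]
  let C : Subgroup W := ⨅ e ∈ E, fixedSubgroup e
  have hC : ∀ x, x ∈ C ↔ ∀ e ∈ E, e x = x := fun x => by simp only [C, mem_iInf]; rfl
  have i2 : ∀ e ∈ E, e ≠ 1 → ∀ x ∈ fixedSubgroup e, x * x = 1 → x ∈ C := fun e he h1 x hx h => (hC x).2 fun f hf => by
    by_cases h0 : x = 1
    · rw [h0, map_one]
    have h2 : orderOf x = 2 := orderOf_eq_prime (by rwa [sq]) h0
    exact hU e he h1 _ (inv e he f hf x hx) _ hx (by rw [f.orderOf_eq, h2]) h2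
  have good : ∀ e ∈ E, e ≠ 1 → ¬ fixedSubgroup e ≤ C → Nat.card (fixedSubgroup e) = 8 ∧
      (∃ a ∈ fixedSubgroup e, a * a ≠ 1) ∧ ∀ x ∈ fixedSubgroup e, x * x ≠ 1 →
        (∀ y ∈ fixedSubgroup e, y ∉ zpowers x → ¬ Commute x y ∧
          ∀ w ∈ fixedSubgroup e, w ∈ zpowers x ∨ w * y ∈ zpowers x) ∧
        (∀ g ∈ E, g x = x → fixedSubgroup e ≤ fixedSubgroup g) ∧ ∃ f ∈ E, f x ∉ zpowers x := fun e he h1 h => by
    obtain ⟨f, hf, h2⟩ : ∃ f ∈ E, ¬ fixedSubgroup e ≤ fixedSubgroup f := by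
      by_contra! k; exact h (le_iInf₂ k)
    obtain ⟨k1, k2, k3⟩ := q8 hW (hU e he h1) (odd f hf) (inv e he f hf) h2
    have k4 : ∀ x ∈ fixedSubgroup e, x * x ≠ 1 → ∀ g ∈ E, g x = x → fixedSubgroup e ≤ fixedSubgroup g :=
      fun x hx hx2 g hg hgx y hy => by
        have k : zpowers x ≤ fixedSubgroup g := zpowers_le.2 hgx
        refine by_contra fun hn => hn ?_
        rcases (k3 x hx hx2 _ (inv e he g hg y hy) fun h => hn (g.injective (k h))).2 y⁻¹ (inv_mem hy) with h | h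
        · exact k (inv_mem_iff.1 h)
        · have e : g y = y * (y⁻¹ * g y) := by group
          change g y = y
          rw [e, fix_of hW (odd g hg) e (k h), mul_one]
    exact ⟨k1, k2, fun x hx hx2 => ⟨k3 x hx hx2, k4 x hx hx2, f, hf, fun h =>
      h2 (k4 x hx hx2 f hf (fix_zp hW (odd f hf) h))⟩⟩
  have ex : ∀ e ∈ E, e ≠ 1 → C ≤ fixedSubgroup e → ∃ f ∈ E, f ≠ 1 ∧ ¬ fixedSubgroup f ≤ fixedSubgroup e :=
    fun e he h1 _ => by
      by_contra! k
      exact h1 (MulEquiv.ext fun x => gen hab hnc hcop (V := ⊤) (fun _ _ _ _ => trivial)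
        (fun f hf h => inf_le_right.trans (k f hf h)) (mem_top x))
  have le : ∀ e ∈ E, C ≤ fixedSubgroup e := fun e he => iInf₂_le e he
  obtain ⟨e, he, h1⟩ : ∃ e ∈ E, e ≠ 1 := (E.bot_or_exists_ne_one).resolve_left fun h => hnc (h ▸ inferInstance)
  obtain ⟨e0, he0, h0, n0⟩ := ex e he h1 (le e he)
  obtain ⟨e1, he1, h1, n1⟩ := ex e0 he0 h0 (le e0 he0)
  have n0' : ¬ fixedSubgroup e0 ≤ C := fun h => n0 (h.trans (le e he))
  have n1' : ¬ fixedSubgroup e1 ≤ C := fun h => n1 (h.trans (le e0 he0))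
  obtain ⟨c0, ⟨a0, ha0, s0⟩, g0⟩ := good e0 he0 h0 n0'
  obtain ⟨c1, ⟨a1, ha1, s1⟩, g1⟩ := good e1 he1 h1 n1'
  have hC2 : ∀ x ∈ C, x * x = 1 := fun x hx => by_contra fun h => by
    obtain ⟨-, -, f, hf, h2⟩ := g0 x (le e0 he0 hx) h
    exact h2 (by rw [(hC x).1 hx f hf]; exact mem_zpowers x)
  obtain ⟨hS, hZ⟩ := Cfsg.Agent.S0119.result hW E hE2 (eq_top_iff.2 (gen hab hnc hcop (fun _ _ _ _ => trivial) (by
    set H := closure {x : W | ∃ g : W, ∃ a ∈ E, x = g⁻¹ * a g}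
    have k : ∀ e ∈ E, e ≠ 1 → ¬ fixedSubgroup e ≤ C → fixedSubgroup e ≤ H := fun e he h1 h w hw => by
      obtain ⟨-, ⟨a, ha, s⟩, g⟩ := good e he h1 h
      obtain ⟨-, -, f, hf, h2⟩ := g a ha s
      have h3 := mul_mem (inv_mem ha) (inv e he f hf a ha)
      have e' : f a = a * (a⁻¹ * f a) := by group
      obtain ⟨h4, -, f', hf', h5⟩ := g _ h3 fun h => h2 (by
        rw [e', fix_of hW (odd f hf) e' ((hC _).1 (i2 e he h1 _ h3 h) f hf), mul_one]; exact mem_zpowers a)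
      have h6 : zpowers (a⁻¹ * f a) ≤ H := zpowers_le.2 (subset_closure ⟨a, f, hf, rfl⟩)
      refine ((h4 _ (inv e he f' hf' _ h3) h5).2 w hw).elim (fun h => h6 h) fun h =>
        (mul_mem_cancel_right ?_).1 (h6 h)
      have := mul_mem (h6 (mem_zpowers _)) (subset_closure ⟨a⁻¹ * f a, f', hf', rfl⟩)
      rwa [mul_inv_cancel_left] at this
    exact fun e he h1 => inf_le_right.trans ((em _).elim (fun h => (h.trans (le e0 he0)).trans (k e0 he0 h0 n0'))
      (k e he h1))))) fun H hH hc a ha x hx => (hC x).1 (gen hab hnc hcop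
        (fun e _ y hy => characteristic_iff_le_comap.1 hH e hy) (fun e he h1 y hy => by_contra fun hn => by
          obtain ⟨h4, -, f, hf, h5⟩ := (good e he h1 fun h => hn (h hy.2)).2.2 y hy.2 fun h => hn (i2 e he h1 y hy.2 h)
          exact (h4 _ (inv e he f hf y hy.2) h5).1 (congrArg Subtype.val
            (hc.1.1 ⟨y, hy.1⟩ ⟨f y, characteristic_iff_le_comap.1 hH f hy.1⟩))) hx) a ha
  have hZC : center W = C := Subgroup.ext fun x => (hZ x).trans (hC x).symm
  have hZ2 : Nat.card (center W) = 2 := by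
    have : Nontrivial W := nontrivial_of_ne (a0 * a0) 1 s0
    obtain ⟨z, -, hz, ho⟩ := H9.exists_mem_center_orderOf_eq hW (M := ⊤) top_ne_bot
    rw [← ho, ← Nat.card_zpowers, le_antisymm (zpowers_le.2 hz) fun x hx => ?_]
    rw [hZC] at hx hz
    by_cases h : x = 1
    · exact h ▸ one_mem _
    · rw [hU e0 he0 h0 x (le e0 he0 hx) z (le e0 he0 hz) (orderOf_eq_prime (by rw [sq, hC2 x hx]) h) ho]
      exact mem_zpowers z
  have idx : ∀ e ∈ E, e ≠ 1 → ¬ fixedSubgroup e ≤ C → ∀ a ∈ fixedSubgroup e, a * a ≠ 1 →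
      (MulAction.stabilizer E a).index ≤ 3 := fun e he h1 h a ha s => by
    rw [MulAction.index_stabilizer]
    set O := MulAction.orbit E a
    have k1 : ∀ x ∈ O, x ∈ fixedSubgroup e ∧ x ∉ C := by
      rintro _ ⟨f, rfl⟩
      exact ⟨inv e he f f.2 a ha, fun h => s (f.1.injective (by rw [map_mul, map_one]; exact hC2 _ h))⟩
    have k2 : Disjoint O O⁻¹ := Set.disjoint_left.2 (by
      rintro _ ⟨f, rfl⟩ ⟨g, hg⟩
      have : (f⁻¹ * g).1 a = a⁻¹ := by
        change f.1⁻¹ (g.1 a) = a⁻¹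
        rw [show g.1 a = (f.1 a)⁻¹ from hg, map_inv, MulAut.inv_apply_self]
      exact s (eq_inv_iff_mul_eq_one.1 ((fix_zp hW (odd _ (f⁻¹ * g).2)
        (this ▸ inv_mem (mem_zpowers a))).symm.trans this)))
    have k3 := Set.ncard_le_ncard (show O ∪ O⁻¹ ⊆ (fixedSubgroup e : Set W) \ C from fun x hx =>
      hx.elim (k1 x) fun hx => ⟨inv_mem_iff.1 (k1 _ hx).1, fun h => (k1 _ hx).2 (inv_mem h)⟩)
    have c8 : (fixedSubgroup e : Set W).ncard = 8 := (good e he h1 h).1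
    have c2 : (C : Set W).ncard = 2 := hZC ▸ hZ2
    rw [Set.ncard_union_eq k2, Set.ncard_inv, Set.ncard_diff (le e he), c8, c2] at k3
    omega
  have h9 : Nat.card E = 9 := by
    refine le_antisymm ?_ (H20.ST.nine_le hp hE hnc)
    have : MulAction.stabilizer E a0 ⊓ MulAction.stabilizer E a1 = ⊥ := eq_bot_iff.2 fun g hg => by_contra fun h => by
      have k0 := (g0 a0 ha0 s0).2.1 g g.2 hg.1
      have k1 := (g1 a1 ha1 s1).2.1 g g.2 hg.2
      have := (good g g.2 (fun e => h (Subtype.ext e)) fun h => n0' (k0.trans h)).1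
      exact n1 (k1.trans (eq_of_le_of_card_ge k0 (by rw [c0, this])).ge)
    rw [← index_bot, ← this]
    exact index_inf_le.trans (Nat.mul_le_mul (idx e0 he0 h0 n0' a0 ha0 s0) (idx e1 he1 h1 n1' a1 ha1 s1))
  refine ⟨h9, ⟨hS, hZ2⟩, ?_, Set.ext fun x => (hZ x).symm⟩
  obtain ⟨n, -, hn⟩ := Cfsg.Agent.S0095.result ⟨hS, hZ2⟩
  have lo : 8 < Nat.card W := c0 ▸ lt_of_le_of_ne (card_le_card_group _) fun h =>
    n1 (eq_top_of_card_eq _ h ▸ le_top)
  have := Fintype.ofFinite E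
  let s := (Finset.univ.erase (1 : E)).image fun e : E => fixedSubgroup e.1
  have hs : 2 * s.card ≤ 8 := by
    refine (Finset.mul_card_image_le_card _ 2 fun A hA => ?_).trans (by
      rw [Finset.card_erase_of_mem (Finset.mem_univ _), Finset.card_univ, ← Nat.card_eq_fintype_card, h9])
    obtain ⟨e, he, rfl⟩ := Finset.mem_image.1 hA
    have h1 := Finset.ne_of_mem_erase he
    refine Finset.one_lt_card.2 ⟨e, by simp [h1], e⁻¹, by
      simp only [Finset.mem_filter, Finset.mem_erase, ne_eq, inv_eq_one, h1, not_false_eq_true, Finset.mem_univ,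
        and_self, true_and]
      exact Subgroup.ext fun x => (MulEquiv.symm_apply_eq _).trans eq_comm, fun h => h1 (orderOf_eq_one_iff.1 ?_)⟩
    exact Nat.eq_one_of_dvd_coprimes hE2 (orderOf_dvd_natCard e)
      (orderOf_dvd_of_pow_eq_one (by rw [sq]; exact eq_inv_iff_mul_eq_one.1 h))
  have up := card_sup hZ2 hS.2.2.le s fun A hA => by
    obtain ⟨e, he, rfl⟩ := Finset.mem_image.1 hA
    refine ⟨hZC ▸ le e e.2, (em _).elim (fun h => (card_le_of_le (h.trans (le e0 he0))).trans c0.le) fun h =>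
      (good e e.2 (fun h => Finset.ne_of_mem_erase he (Subtype.ext h)) h).1.le⟩
  rw [eq_top_iff.2 (gen hab hnc hcop (V := ⊤) (H := center W ⊔ s.sup id) (fun _ _ _ _ => trivial) fun e he h1 =>
    inf_le_right.trans (le_sup_of_le_right (Finset.le_sup (f := id) (Finset.mem_image_of_mem _
      (Finset.mem_erase.2 ⟨fun h => h1 (congrArg Subtype.val h), Finset.mem_univ (⟨e, he⟩ : E)⟩))))), card_top] at up
  replace up : Nat.card W ≤ 2 ^ 9 := up.trans (Nat.mul_le_mul_left 2 (Nat.pow_le_pow_right (by norm_num)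
    (show s.card ≤ 4 by omega)))
  rw [hn] at lo up ⊢
  have u1 := (Nat.pow_le_pow_iff_right one_lt_two).1 up
  have u2 := (Nat.pow_lt_pow_iff_right (n := 3) one_lt_two).1 lo
  obtain rfl | rfl | rfl : n = 2 ∨ n = 3 ∨ n = 4 := by omega
  all_goals simp

end Lead.NQ
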