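import Cfsg.Agent.H10.S11
import Cfsg.Agent.H10.C11t
import Cfsg.Agent.H9.Cent0
import Cfsg.Agent.H24.Sy4d
import Cfsg.Agent.H25.TriJ
import Cfsg.Agent.H28.Pg23t
import Cfsg.Agent.S5569
import Cfsg.Agent.S5570
import Cfsg.Agent.S5572
import Cfsg.Agent.S5573

set_option autoImplicit false
set_option linter.style.longLine false
open Cfsg

namespace LeadPay

theorem p77 {G : Type*} [Group G] [Finite G] [IsSimpleGroup G] (hG : ¬ IsMulCommutative G) (hJ : Cfsg.IsOfJankoFourType G) (e : G ≃* Spor.J4) :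
    (∀ U : Sylow 23 G, Subgroup.centralizer ((U : Subgroup G) : Set G) = (U : Subgroup G) ∧ Nat.card ↥(Subgroup.normalizer ((U : Subgroup G) : Set G)) = 23 * 22) ∧
    (∀ U : Sylow 29 G, Subgroup.centralizer ((U : Subgroup G) : Set G) = (U : Subgroup G) ∧ Nat.card ↥(Subgroup.normalizer ((U : Subgroup G) : Set G)) = 29 * 28) ∧
    (∀ U : Sylow 31 G, Subgroup.centralizer ((U : Subgroup G) : Set G) = (U : Subgroup G) ∧ Nat.card ↥(Subgroup.normalizer ((U : Subgroup G) : Set G)) = 31 * 10) ∧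
    (∀ U : Sylow 37 G, Subgroup.centralizer ((U : Subgroup G) : Set G) = (U : Subgroup G) ∧ Nat.card ↥(Subgroup.normalizer ((U : Subgroup G) : Set G)) = 37 * 12) ∧
    (∀ U : Sylow 43 G, Subgroup.centralizer ((U : Subgroup G) : Set G) = (U : Subgroup G) ∧ Nat.card ↥(Subgroup.normalizer ((U : Subgroup G) : Set G)) = 43 * 14) := by
  obtain ⟨z, hz⟩ := id hJ
  obtain ⟨⟨A, a1, a2, a3⟩, -, h⟩ := Cfsg.Agent.S5570.result hG hJ
  obtain ⟨⟨B, -, -, -, hB⟩, -⟩ := h A a1 a2 a3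
  exact H24.Sy4.full e hz (H25.TriJ.tri hG hJ) (Cfsg.Agent.S5569.result hG z hz) ⟨B, hB⟩
    (fun Q a b => ⟨(Cfsg.Agent.S5572.result hG z hz Q a b).1, (Cfsg.Agent.S5572.result hG z hz Q a b).2.2.2⟩)
    (fun Q a b => ⟨(Cfsg.Agent.S5573.result hG z hz Q a b).1, (Cfsg.Agent.S5573.result hG z hz Q a b).2.2.2⟩)

theorem p75 {G : Type*} [Group G] [Finite G] [IsSimpleGroup G] (hG : ¬ IsMulCommutative G) (hJ : Cfsg.IsOfJankoFourType G) (e : G ≃* Spor.J4) (U : Sylow 11 G) :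
    Cfsg.IsExtraspecial 11 ↥(U : Subgroup G) ∧ Nat.card ↥(U : Subgroup G) = 11 ^ 3 ∧ Monoid.exponent ↥(U : Subgroup G) = 11 ∧
    Nat.card ↥(Subgroup.normalizer ((U : Subgroup G) : Set G)) = 2 ^ 4 * 3 * 5 * 11 ^ 3 ∧
    ∃ K : Subgroup G, K ≤ Subgroup.normalizer ((U : Subgroup G) : Set G) ∧ Nonempty (↥K ≃* GL (Fin 2) (ZMod 3)) :=
  H10.C11.s11 e (H9.Cent.cent0 hJ (H25.TriJ.tri hG hJ) (fun z hz t ht hn => Cfsg.Agent.S5569.result hG z hz t ht hn) (fun z hz Q h1 h2 => (Cfsg.Agent.S5572.result hG z hz Q h1 h2).2.2.2) (fun z hz Q h1 h2 => (Cfsg.Agent.S5573.result hG z hz Q h1 h2).2.2.2) (H10.C11.cardG e) (H24.Sy4.h77 (H10.C11.cardG e) (p77 hG hJ e))) U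

theorem p76 {G : Type*} [Group G] [Finite G] (e : G ≃* Spor.J4) :
    ∃ x y : G, orderOf x = 11 ∧ orderOf y = 11 ∧ ¬ IsConj x y ∧ ∀ w : G, orderOf w = 11 → IsConj w x ∨ IsConj w y :=
  H10.C11.c11' e

theorem p78 {G : Type*} [Group G] [Finite G] (e : G ≃* Spor.J4) :
    ∃ K : Subgroup G, Nonempty (↥K ≃* GL (Fin 2) (ZMod 23) ⧸ Subgroup.center (GL (Fin 2) (ZMod 23))) :=
  H28.Pg23.tr e

end LeadPay
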