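import Cfsg.Agent.Lead.Phb1

/-! Phan's theorem for `q = 3`, part 2: the induction step over rank three residues. -/

set_option autoImplicit false
set_option linter.unusedSectionVars false
set_option maxHeartbeats 400000

namespace Lead.Pha
open H23 (conj conj_conj)
open Matrix Cfsg Function

variable {N q : ℕ} {F : Type*} [Field F] [Fintype F] {hF : Fintype.card F = q ^ 2}
  {K : Type*} [Group K] {π : K →* ((Fin N → F) ≃ₗ[F] (Fin N → F))}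

local notation "⟪" u ", " v "⟫" => hm hF u v
local notation "V" => Fin N → F

theorem witt' {J : Set (Fin N)} {k : Fin N} (hk : k ∈ J) {x y : V} (hx : x ∈ HJ F J)
    (hy : y ∈ HJ F J) (x0 : x ≠ 0) (y0 : y ≠ 0) (h : ⟪x, x⟫ = ⟪y, y⟫) (xk : x k = 0) :
    ∃ g, SI hF g ∧ Fx J g ∧ g x = y := by
  have n : ∀ x ∈ HJ F J, x ≠ 0 → x ∉ HJ F Jᶜ := fun x hx x0 m => x0 (funext fun i => by
    by_cases c : i ∈ J
    exacts [m i (not_not.2 c), hx i c])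
  obtain ⟨g, hg, e1, e2⟩ := (H23.huForm_nondeg hF N).exists_step (H := HJ F Jᶜ)
    (n x hx x0) (n y hy y0) (fun v hv => by
      rw [hm_B, hm_B, hm_HJ hF disjoint_compl_right hx hv, hm_HJ hF disjoint_compl_right hy hv])
    h rfl
  have hi : Iso hF g := hg.1
  have d := hi.det
  obtain ⟨g', g1, g2, g3⟩ := exists_dg (hF := hF) k (c := conj hF (LinearMap.det g.toLinearMap))
    (by rw [conj_conj, mul_comm, d])
  refine ⟨g * g', ⟨hi.mul g1, by rw [Lead.Pha.det_mul, g3, mul_comm, d]⟩,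
    Fx.mul e2 (g2.mono (by simpa using hk)), ?_⟩
  rw [LinearEquiv.mul_apply, g2 _ fun i hi => (not_not.1 hi : i = k) ▸ xk, e1]

theorem dec3 {J : Set (Fin N)} {p r r' k : Fin N} (hp : p ∈ J) (hr : r ∈ J) (hr' : r' ∈ J)
    (hk : k ∈ J) (pr : p ≠ r) (pr' : p ≠ r') (pk : p ≠ k) (rr : r ≠ r') (rk : r ≠ k) (rk' : r' ≠ k)
    {a : V ≃ₗ[F] V} (hi : SI hF a) (ha : Fx J a) : ∃ u d u', SI hF u ∧ Fx (J \ {p}) u ∧ SI hF d ∧
      Fx {r', r, p} d ∧ SI hF u' ∧ Fx (J \ {p}) u' ∧ a = u * d * u' := by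
  have m1 : a (bb p) - a (bb p) p • bb p ∈ HJ F (J \ {p}) :=
    sub_mem_HJ (by simpa [hp] using ha.map hi.1 (bb_mem hp))
  obtain ⟨u, u1, u2, v, hv, e⟩ : ∃ u, SI hF u ∧ Fx (J \ {p}) u ∧ ∃ v ∈ HJ F {r', r, p},
      u v = a (bb p) := by
    by_cases c : a (bb p) - a (bb p) p • bb p = 0
    · exact ⟨1, ⟨fun _ _ => rfl, LinearMap.det_id⟩, fun _ _ => rfl, _,
        Submodule.smul_mem _ _ (bb_mem (by simp)), (sub_eq_zero.1 c).symm⟩
    · set w := a (bb p) - a (bb p) p • bb p with hw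
      obtain ⟨c, hc⟩ := exists_nm hF (μ := ⟪w, w⟫ - 1) (by rw [map_sub, hm_conj, map_one])
      obtain ⟨u, u1, u2, u3⟩ := witt' (hF := hF) (J := J \ {p}) (x := bb r + c • bb r') (k := k) ⟨hk, pk.symm⟩
        (add_mem (bb_mem ⟨hr, pr.symm⟩) (Submodule.smul_mem _ _ (bb_mem ⟨hr', pr'.symm⟩))) m1
        (fun e => by simpa [bb, rr] using congrFun e r) ‹_› (by
          simp only [map_add, LinearMap.add_apply, map_smulₛₗ, LinearMap.smul_apply, smul_eq_mul,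
            RingHom.id_apply, hm_bb, hm_ne hF rr, hm_ne hF rr.symm]
          linear_combination hc) (by simp [bb, rk.symm, rk'.symm])
      refine ⟨u, u1, u2, a (bb p) p • bb p + (bb r + c • bb r'), add_mem (Submodule.smul_mem _ _
        (bb_mem (by simp))) (add_mem (bb_mem (by simp)) (Submodule.smul_mem _ _
        (bb_mem (by simp)))), ?_⟩
      rw [map_add, u3, map_smul, u2 _ (bb_mem (by simp)), hw, add_sub_cancel]
  obtain ⟨d, d1, d2, d3⟩ := witt (hF := hF) (J := {r', r, p}) (p := p) (r := r) (by simp) (by simp) pr hv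
    (by rw [← u1.1, e, hi.1, hm_bb])
  refine ⟨u, d, (u * d)⁻¹ * a, u1, u2, d1, d2, (u1.mul d1).inv.mul hi, Fx.erase (m := p) (J' := J)
    (fun k hk c => Set.mem_diff_singleton.2 ⟨hk, c⟩) (((u2.mono Set.diff_subset).mul
      (d2.mono (by simp [Set.insert_subset_iff, hp, hr, hr']))).inv.mul ha) ?_, by group⟩
  rw [LinearEquiv.mul_apply]
  exact inv_app (by rw [LinearEquiv.mul_apply, d3, e])

theorem cross (v w : Fin 3 → F) : ∃ a : Fin 3 → F, ⟪v, a⟫ = 0 ∧ ⟪w, a⟫ = 0 ∧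
    ⟪a, a⟫ = ⟪v, v⟫ * ⟪w, w⟫ - ⟪v, w⟫ * ⟪w, v⟫ :=
  ⟨![conj hF (v 1 * w 2 - v 2 * w 1), conj hF (v 2 * w 0 - v 0 * w 2),
    conj hF (v 0 * w 1 - v 1 * w 0)], by simp [hm_eq, Fin.sum_univ_three, -H23.conj_apply]; ring,
    by simp [hm_eq, Fin.sum_univ_three, -H23.conj_apply]; ring,
    by simp [hm_eq, Fin.sum_univ_three, -H23.conj_apply, conj_conj]; ring⟩

theorem dim3 (hq : 3 ≤ q) (u v : Fin 3 → F) : ∃ z, ⟪z, z⟫ = 1 ∧ Ad hF z u ∧ Ad hF z v := by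
  have k : ∀ (y v : Fin 3 → F) (κ : F), ⟪y, y⟫ = 1 → ∃ z, ⟪z, z⟫ = 1 ∧ Ad hF z (κ • y) ∧
      Ad hF z v := fun y v κ hy => by
    obtain ⟨g, g1, -, rfl⟩ := witt (J := Set.univ) (p := 0) (r := 1) trivial trivial (by decide)
      (fun _ h => (h trivial).elim) hy
    obtain ⟨s, t, -, z1, z2⟩ := exists_z1 (a := g (bb 1)) (b := g (bb 2)) (by rw [g1.1, hm_bb])
      (by rw [g1.1, hm_bb]) (by rw [g1.1, hm_ne hF (by decide)]) v hq
    refine ⟨_, z1, ?_, z2⟩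
    simp [Ad, g1.1 _ _, hm_ne hF (show (1 : Fin 3) ≠ 0 by decide),
      hm_ne hF (show (2 : Fin 3) ≠ 0 by decide)]
  have k' : ∀ u v : Fin 3 → F, ⟪u, u⟫ ≠ 0 → ∃ z, ⟪z, z⟫ = 1 ∧ Ad hF z u ∧ Ad hF z v := fun u v h => by
    obtain ⟨c, c0, -, hc⟩ := scale (hF := hF) h
    simpa [c0] using k _ v c hc
  have k2 : ∀ y : Fin 3 → F, ⟪u, u⟫ = 0 → ⟪u, y⟫ ≠ 0 → ∃ z, ⟪z, z⟫ = 1 ∧ ⟪u, z⟫ = 0 ∧ ⟪y, z⟫ = 0 :=
    fun y h1 h2 => by
      obtain ⟨a, a1, a2, a3⟩ := cross (hF := hF) u y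
      obtain ⟨c, -, -, hc⟩ := scale (hF := hF) (v := a) (by
        rw [a3, h1, zero_mul, zero_sub, neg_ne_zero]
        exact mul_ne_zero h2 fun e => h2 (hm_zero hF e))
      exact ⟨_, hc, by simp [a1], by simp [a2]⟩
  by_cases c1 : ⟪u, u⟫ = 0
  swap
  · exact k' u v c1
  by_cases c2 : ⟪v, v⟫ = 0
  swap
  · obtain ⟨z, h1, h2, h3⟩ := k' v u c2
    exact ⟨z, h1, h3, h2⟩
  by_cases c3 : ⟪u, v⟫ = 0
  swap
  · obtain ⟨z, h1, h2, h3⟩ := k2 v c1 c3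
    exact ⟨z, h1, by simp [Ad, h2], by simp [Ad, h3]⟩
  by_cases c4 : u = 0
  · simpa [c4] using k (bb 0) v 0 (hm_bb hF _)
  obtain ⟨c, rfl⟩ := W1 c4 c1 c3 c2
  obtain ⟨i, hi⟩ := Function.ne_iff.1 c4
  obtain ⟨z, h1, h2, -⟩ := k2 (bb i) c1 fun e => hi ((hm_l hF i u).symm.trans (hm_zero hF e))
  exact ⟨z, h1, by simp [Ad, h2], by simp [Ad, h2]⟩

theorem frame3 (hq : 3 ≤ q) {J : Set (Fin N)} {p r r' k m : Fin N} (hp : p ∈ J) (hr : r ∈ J)
    (hr' : r' ∈ J) (hk : k ∈ J) (pr : p ≠ r) (pr' : p ≠ r') (pk : p ≠ k) (rr : r ≠ r') (rk : r ≠ k)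
    (rk' : r' ≠ k) (hm' : m ∉ J) {u v : V} (hu : u ∈ HJ F (insert m J)) (hv : v ∈ HJ F (insert m J))
    (u1 : ⟪u, u⟫ = 1) (v1 : ⟪v, v⟫ = 1) (h : Ad hF u v) (x y : V) :
    ∃ z ∈ HJ F (insert m J), ⟪z, z⟫ = 1 ∧ ⟪z, u⟫ = 0 ∧ ⟪z, v⟫ = 0 ∧ Ad hF z x ∧ Ad hF z y := by
  obtain ⟨g, g1, g2, rfl⟩ := witt (Set.mem_insert _ _) (Set.mem_insert_of_mem _ hp)
    (fun e : m = p => hm' (e ▸ hp)) hu u1
  obtain ⟨v, rfl⟩ := g.surjective v
  have hv' : v ∈ HJ F (insert m J) := by simpa using g2.inv.map g1.1.inv hv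
  obtain ⟨a, a1, a2, c, e, -⟩ := split hp hr pr hm' hv' (g1.1 v v ▸ v1) (g1.1.ad.1 h)
  have i := g1.1.mul a1.1
  have f := g2.mul (a2.mono (Set.subset_insert _ _))
  have ad : ∀ (w : Fin 3 → F) (x : V), ⟪(g * a) (w 0 • bb r + w 1 • bb r' + w 2 • bb k), x⟫ =
      ⟪w, ![⟪(g * a) (bb r), x⟫, ⟪(g * a) (bb r'), x⟫, ⟪(g * a) (bb k), x⟫]⟫ := fun w x => by
    rw [hm_eq hF w]
    simp [Fin.sum_univ_three, -H23.conj_apply]
  obtain ⟨w, w1, w2, w3⟩ := dim3 (hF := hF) hq ![⟪(g * a) (bb r), x⟫, ⟪(g * a) (bb r'), x⟫,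
    ⟪(g * a) (bb k), x⟫] ![⟪(g * a) (bb r), y⟫, ⟪(g * a) (bb r'), y⟫, ⟪(g * a) (bb k), y⟫]
  have n1 : r ≠ m := fun e => hm' (e ▸ hr)
  have n2 : r' ≠ m := fun e => hm' (e ▸ hr')
  have n3 : k ≠ m := fun e => hm' (e ▸ hk)
  refine ⟨(g * a) (w 0 • bb r + w 1 • bb r' + w 2 • bb k), f.map i (add_mem (add_mem
    (Submodule.smul_mem _ _ (bb_mem (Set.mem_insert_of_mem _ hr)))
    (Submodule.smul_mem _ _ (bb_mem (Set.mem_insert_of_mem _ hr'))))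
    (Submodule.smul_mem _ _ (bb_mem (Set.mem_insert_of_mem _ hk)))), ?_, ?_, ?_, ?_, ?_⟩
  · rw [i, ← w1, hm_eq hF w]
    simp [Fin.sum_univ_three, -H23.conj_apply, hm_ne hF rr, hm_ne hF rr.symm, hm_ne hF rk,
      hm_ne hF rk.symm, hm_ne hF rk', hm_ne hF rk'.symm, mul_comm]
  · rw [← a2 _ (bb_mem hm'), ← LinearEquiv.mul_apply g a (bb m), i]
    simp [hm_ne hF n1, hm_ne hF n2, hm_ne hF n3]
  · rw [← e, ← LinearEquiv.mul_apply g a (_ + _), i]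
    simp [hm_ne hF n1, hm_ne hF n2, hm_ne hF n3, hm_ne hF pr.symm, hm_ne hF pr'.symm,
      hm_ne hF pk.symm]
  · rwa [Ad, ← hm_conj hF _ x, ad, hm_conj]
  · rwa [Ad, ← hm_conj hF _ y, ad, hm_conj]

variable (hF π) in
/-- the data of the induction step -/
structure Stq (J : Set (Fin N)) (p r r' k m : Fin N) (A S S' : Subgroup K) : Prop where
  hq : 3 ≤ q
  si : ∀ k, SI hF (π k)
  pJ : p ∈ J
  rJ : r ∈ J
  rJ' : r' ∈ J
  kJ : k ∈ J
  pr : p ≠ r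
  pr' : p ≠ r'
  pk : p ≠ k
  rr : r ≠ r'
  rk : r ≠ k
  rk' : r' ≠ k
  mJ : m ∉ J
  rA : Rep hF π A J
  iA : Inj π A
  rS : Rep hF π S {p, m}
  rS' : Rep hF π S' {r', r, p}
  le : S' ≤ A
  iS : Inj π (S' ⊔ S)
  c : ∀ a ∈ A, π a (bb p) = bb p → ∀ s ∈ S, Commute a s

namespace Stq
variable {J : Set (Fin N)} {p r r' k m : Fin N} {A S S' : Subgroup K}
  (h : Stq hF π J p r r' k m A S S')
include h

local notation "e" => (bb m : V)
local notation "e'" => (bb p : V)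

theorem pm : p ≠ m := fun c => h.mJ (c ▸ h.pJ)
theorem rm : r ≠ m := fun c => h.mJ (c ▸ h.rJ)
theorem iso (k : K) : Iso hF (π k) := (h.si k).1
theorem ae {a : K} (ha : a ∈ A) : π a e = e := h.rA.sat a ha _ (bb_mem h.mJ)
theorem un (x : K) (i : Fin N) : ⟪π x (bb i), π x (bb i)⟫ = 1 := by rw [h.iso, hm_bb]

theorem coef {s : K} (hs : s ∈ S) : ∃ α β : F, π s e = α • e + β • e' ∧
    conj hF α * α + conj hF β * β = 1 ∧ (Ad hF e (π s e) → β ≠ 0) := by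
  have k := eq_pair h.pm ((h.rS.sat s hs).map (h.iso s) (bb_mem (i := m) (by simp)))
  have u := h.un s m
  generalize π s e m = α, π s e p = β at k
  rw [k] at u ⊢
  simp only [map_add, LinearMap.add_apply, map_smulₛₗ, LinearMap.smul_apply, smul_eq_mul,
    RingHom.id_apply, hm_bb, hm_ne hF h.pm, hm_ne hF h.pm.symm] at u
  refine ⟨_, _, rfl, by linear_combination u, fun c d => c ?_⟩
  simp only [map_add, LinearMap.add_apply, map_smulₛₗ, LinearMap.smul_apply, smul_eq_mul,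
    RingHom.id_apply, hm_bb, hm_ne hF h.pm, hm_ne hF h.pm.symm, d, map_zero] at u ⊢
  linear_combination u

/-- the big cell -/
def K0 (_ : Stq hF π J p r r' k m A S S') (x : K) : Prop :=
  ∃ a ∈ A, ∃ s ∈ S, ∃ b ∈ A, Ad hF e (π s e) ∧ x = a * s * b

theorem ad_bi {a b : K} (ha : a ∈ A) (hb : b ∈ A) (x : K) :
    Ad hF e (π (a * x * b) e) ↔ Ad hF e (π x e) := by
  rw [act_mul, act_mul, h.ae hb]
  nth_rewrite 1 [← h.ae ha]
  exact (h.iso a).ad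

theorem K0_ad {x : K} (hx : h.K0 x) : Ad hF e (π x e) := by
  obtain ⟨a, ha, s, -, b, hb, c, rfl⟩ := hx
  exact (h.ad_bi ha hb s).2 c

theorem K0_all {x : K} (hx : h.K0 x) : x ∈ A ⊔ S := by
  obtain ⟨a, ha, s, hs, b, hb, -, rfl⟩ := hx
  exact mul_mem (mul_mem (Subgroup.mem_sup_left ha) (Subgroup.mem_sup_right hs))
    (Subgroup.mem_sup_left hb)

theorem K0_inv {x : K} (hx : h.K0 x) : h.K0 x⁻¹ := by
  obtain ⟨a, ha, s, hs, b, hb, c, rfl⟩ := hx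
  exact ⟨_, inv_mem hb, _, inv_mem hs, _, inv_mem ha, (ad_inv (h.iso s) _ _).2 c.symm, by group⟩

theorem K0_bi {a b x : K} (ha : a ∈ A) (hb : b ∈ A) (hx : h.K0 x) : h.K0 (a * x * b) := by
  obtain ⟨a', ha', s, hs, b', hb', c, rfl⟩ := hx
  exact ⟨_, mul_mem ha ha', s, hs, _, mul_mem hb' hb, c, by group⟩

theorem K0_S {s : K} (hs : s ∈ S) (c : Ad hF e (π s e)) : h.K0 s :=
  ⟨1, one_mem _, s, hs, 1, one_mem _, c, by group⟩

theorem K0_sur {g : V ≃ₗ[F] V} (hi : SI hF g) (hg : Fx (insert m J) g) (c : Ad hF e (g e)) :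
    ∃ x, h.K0 x ∧ π x = g := by
  obtain ⟨a, ha, s, hs, b, hb, -, -, rfl⟩ := cellK h.pJ h.rJ h.pr h.mJ h.rA.sur h.rS hi hg c
  exact ⟨_, ⟨a, ha, s, hs, b, hb, (h.ad_bi ha hb s).1 c, rfl⟩, rfl⟩

theorem fxB {b : K} (hb : b ∈ S' ⊔ S) : Fx (insert m {r', r, p}) (π b) :=
  fx_sup (by simp) h.rS' h.rS hb

theorem K0_inj {x y : K} (hx : h.K0 x) (hy : h.K0 y) (c : π x = π y) : x = y := by
  obtain ⟨a1, ha1, s1, hs1, b1, hb1, c1, rfl⟩ := hx
  obtain ⟨a2, ha2, s2, hs2, b2, hb2, -, rfl⟩ := hy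
  have ha := mul_mem (inv_mem ha2) ha1
  have k : π (a2⁻¹ * a1 * s1) e = π s2 e := by
    have := LinearEquiv.congr_fun c e
    simp only [act_mul, h.ae hb1, h.ae hb2] at this
    rw [act_mul, act_mul, this]; exact act_inv rfl
  set a := a2⁻¹ * a1 with ea
  obtain ⟨α1, β1, e1, -, n1⟩ := h.coef hs1
  obtain ⟨α2, β2, e2, -, -⟩ := h.coef hs2
  have m1 : π a e' ∈ HJ F {r', r, p} := fun i hi => by
    by_cases d : i = m
    · exact d ▸ (h.rA.sat a ha).map (h.iso a) (bb_mem h.pJ) m h.mJ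
    · have := congrFun k i
      rw [act_mul, e1, e2, map_add, map_smul, map_smul, h.ae ha] at this
      have d' : i ≠ p := fun c => hi (by simp [c])
      simpa [bb, d, d', n1 c1] using this
  obtain ⟨g, g1, g2, g3⟩ := witt (J := {r', r, p}) (p := p) (r := r) (by simp) (by simp) h.pr m1
    (h.un a p)
  obtain ⟨d, hd, rfl⟩ := h.rS'.sur g g1 g2
  have m2 := mul_mem (inv_mem (h.le hd)) ha
  have cm := (h.c _ m2 (by rw [act_mul]; exact act_inv g3) s1 hs1).eq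
  have m3 : s2⁻¹ * d * s1 ∈ S' ⊔ S := mul_mem (mul_mem (inv_mem (Subgroup.mem_sup_right hs2))
    (Subgroup.mem_sup_left hd)) (Subgroup.mem_sup_right hs1)
  have e3 : s2⁻¹ * d * s1 = s2⁻¹ * (a * s1) * (d⁻¹ * a)⁻¹ := by
    calc _ = s2⁻¹ * d * (s1 * (d⁻¹ * a)) * (d⁻¹ * a)⁻¹ := by group
      _ = _ := by rw [← cm]; group
  obtain ⟨t, ht, et⟩ := h.rS'.sur _ (h.si _) ((h.fxB m3).erase (m := m)
    (fun k hk c => hk.resolve_left c) (by
      rw [e3, act_mul, act_mul, h.ae (inv_mem m2), k]; exact act_inv rfl))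
  have e4 := h.iS.eq (Subgroup.mem_sup_left ht) m3 et
  have e5 : (a2 * s2 * b2)⁻¹ * (a1 * s1 * b1) = b2⁻¹ * t * (d⁻¹ * a) * b1 := by
    rw [e4, e3, ea]; group
  have := h.iA _ (mul_mem (mul_mem (mul_mem (inv_mem hb2) (h.le ht)) m2) hb1)
    (by rw [← e5, map_mul, map_inv, c, inv_mul_cancel])
  exact (inv_mul_eq_one.1 (e5.trans this)).symm

theorem K0_B {b : K} (hb : b ∈ S' ⊔ S) (c : Ad hF e (π b e)) : h.K0 b := by
  obtain ⟨a, ha, s, hs, a', ha', -, -, k⟩ := cellK (J := {r', r, p}) (r := r) (by simp) (by simp) h.pr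
    (by simp [h.pm.symm, h.rm.symm, show m ≠ r' from fun c => h.mJ (c ▸ h.rJ')]) h.rS'.sur h.rS (h.si b) (h.fxB hb) c
  obtain rfl := h.iS.eq (mul_mem (mul_mem (Subgroup.mem_sup_left ha) (Subgroup.mem_sup_right hs))
    (Subgroup.mem_sup_left ha')) hb k
  exact ⟨a, h.le ha, s, hs, a', h.le ha', (h.ad_bi (h.le ha) (h.le ha') s).1 c, rfl⟩

theorem K0_mul {x y : K} (hx : h.K0 x) (hy : h.K0 y) (c : Ad hF e (π (x * y) e)) :
    h.K0 (x * y) := by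
  obtain ⟨a1, ha1, s1, hs1, b1, hb1, -, rfl⟩ := hx
  obtain ⟨a2, ha2, s2, hs2, b2, hb2, -, rfl⟩ := hy
  have ha := mul_mem hb1 ha2
  set a := b1 * a2 with ea
  obtain ⟨u, t, u', u1, f1, t1, t2, u2, f2, k⟩ := dec3 h.pJ h.rJ h.rJ' h.kJ h.pr h.pr' h.pk h.rr
    h.rk h.rk' (h.si a) (h.rA.sat a ha)
  obtain ⟨u, hu, rfl⟩ := h.rA.sur u u1 (f1.mono Set.diff_subset)
  obtain ⟨u', hu', rfl⟩ := h.rA.sur u' u2 (f2.mono Set.diff_subset)
  obtain ⟨t, ht, rfl⟩ := h.rS'.sur t t1 t2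
  rw [← map_mul, ← map_mul, eq_comm] at k
  have k := h.iA.eq (mul_mem (mul_mem hu (h.le ht)) hu') ha k
  have c1 := (h.c u hu (f1 _ (bb_mem (by simp))) s1 hs1).eq
  have c2 := (h.c u' hu' (f2 _ (bb_mem (by simp))) s2 hs2).eq
  have e1 : a1 * s1 * b1 * (a2 * s2 * b2) = a1 * u * (s1 * t * s2) * (u' * b2) := by
    calc _ = a1 * s1 * a * s2 * b2 := by rw [ea]; group
      _ = a1 * (s1 * u) * t * (u' * s2) * b2 := by rw [← k]; group
      _ = _ := by rw [← c1, c2]; group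
  rw [e1] at c ⊢
  rw [h.ad_bi (mul_mem ha1 hu) (mul_mem hu' hb2)] at c
  exact h.K0_bi (mul_mem ha1 hu) (mul_mem hu' hb2) (h.K0_B (mul_mem (mul_mem
    (Subgroup.mem_sup_right hs1) (Subgroup.mem_sup_left ht)) (Subgroup.mem_sup_right hs2)) c)

theorem K0_to {z : V} (hz : z ∈ HJ F (insert m J)) (z1 : ⟪z, z⟫ = 1) (c : Ad hF z e) :
    ∃ x, h.K0 x ∧ π x e = z := by
  obtain ⟨g, h1, h2, h3⟩ := witt (Set.mem_insert _ _) (Set.mem_insert_of_mem _ h.pJ) h.pm.symm hz z1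
  obtain ⟨x, hx, rfl⟩ := h.K0_sur h1 h2 (h3 ▸ c.symm)
  exact ⟨x, hx, h3⟩

theorem all_mem {x : K} (hx : x ∈ A ⊔ S) : π x e ∈ HJ F (insert m J) :=
  Fx.map (fx_sup h.pJ h.rA h.rS hx) (h.iso x) (bb_mem (Set.mem_insert _ _))

theorem ad_mul (x y : K) : Ad hF e (π (x⁻¹ * y) e) ↔ Ad hF (π x e) (π y e) := by
  rw [act_mul, ad_inv (h.iso x)]

theorem triple {a b c : K} (ha : h.K0 a) (hb : h.K0 b) (hc : h.K0 c) :
    ∃ x y, h.K0 x ∧ h.K0 y ∧ a * b * c = x * y := by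
  obtain ⟨z, hz, z1, o1, o2, d2, d3⟩ := frame3 h.hq h.pJ h.rJ h.rJ' h.kJ h.pr h.pr' h.pk h.rr h.rk
    h.rk' h.mJ (bb_mem (Set.mem_insert _ _)) (h.all_mem (h.K0_all ha)) (hm_bb hF m) (h.un _ _)
    (h.K0_ad ha) (π (a * b) e) (π (a * b * c) e)
  obtain ⟨x, hx, rfl⟩ := h.K0_to hz z1 (by simp [Ad, o1])
  have k1 := h.K0_mul (h.K0_inv hx) ha ((h.ad_mul _ _).2 (by simp [Ad, o2]))
  have k2 := h.K0_mul k1 hb (by rw [mul_assoc]; exact (h.ad_mul _ _).2 d2)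
  have k3 := h.K0_mul k2 hc (by rw [mul_assoc, mul_assoc, ← mul_assoc a]; exact (h.ad_mul _ _).2 d3)
  exact ⟨x, _, hx, k3, by group⟩

theorem S_dec {s : K} (hs : s ∈ S) : ∃ a b, h.K0 a ∧ h.K0 b ∧ s = a * b := by
  obtain ⟨w, w1, w2, d1, d2⟩ := exists_pair3 (hF := hF) h.hq h.pm (π s e)
  obtain ⟨w, hw, rfl⟩ := h.rS.sur w w1 w2
  exact ⟨w, _, h.K0_S hw d1.symm, h.K0_S (mul_mem (inv_mem hw) hs) ((h.ad_mul _ _).2 d2), by group⟩

/-- products of two elements of the big cell -/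
def K2 : Subgroup K where
  carrier := {x | ∃ a b, h.K0 a ∧ h.K0 b ∧ x = a * b}
  one_mem' := h.S_dec (one_mem _)
  inv_mem' := by
    rintro _ ⟨a, b, ha, hb, rfl⟩
    exact ⟨_, _, h.K0_inv hb, h.K0_inv ha, by group⟩
  mul_mem' := by
    rintro _ _ ⟨a, b, ha, hb, rfl⟩ ⟨c, d, hc, hd, rfl⟩
    obtain ⟨x, y, hx, hy, e1⟩ := h.triple ha hb hc
    obtain ⟨x', y', hx', hy', e2⟩ := h.triple hx hy hd
    exact ⟨x', y', hx', hy', by rw [← e2, ← e1]; group⟩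

theorem all_inj : Inj π (A ⊔ S) := fun x hx c => by
  have l : A ≤ h.K2 := fun x hx => by
    obtain ⟨a, b, ha, hb, e1⟩ := h.K2.one_mem
    exact ⟨_, b, h.K0_bi hx (one_mem _) ha, hb, by rw [mul_one, mul_assoc, ← e1, mul_one]⟩
  obtain ⟨a, b, ha, hb, rfl⟩ := sup_le l (fun _ hs => h.S_dec hs : S ≤ h.K2) hx
  rw [h.K0_inj hb (h.K0_inv ha) (by rw [map_mul] at c; rw [map_inv, eq_inv_of_mul_eq_one_right c]),
    mul_inv_cancel]

end Stq

end Lead.Pha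

namespace Lead.Pha
open Matrix Cfsg Function
variable {n q : ℕ} {F : Type*} [Field F] [Fintype F] {hF : Fintype.card F = q ^ 2}
  {K : Type*} [Group K] {π : K →* ((Fin (n + 1) → F) ≃ₗ[F] (Fin (n + 1) → F))}

theorem main3 (hq : 3 ≤ q) (si : ∀ k, SI hF (π k)) (U : Fin n → Subgroup K)
    (rU : ∀ i, Rep hF π (U i) {i.castSucc, i.succ})
    (iU : ∀ i j k : Fin n, (i : ℕ) + 1 = j → (j : ℕ) + 1 = k → Inj π (U i ⊔ U j ⊔ U k))
    (cU : ∀ i j : Fin n, (i : ℕ) + 2 ≤ j → ∀ x ∈ U i, ∀ y ∈ U j, Commute x y) (hn : 3 ≤ n) :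
    Inj π (Gam U n) ∧ Rep hF π (Gam U n) Set.univ := by
  have n0 : 0 < n := by omega
  have g1 : Gam U 1 = U ⟨0, n0⟩ := le_antisymm (iSup₂_le fun j hj => by
    obtain rfl : j = ⟨0, n0⟩ := Fin.ext (by simpa using hj)
    exact le_rfl) (U_le U (by simp))
  have rp : ∀ k, k < n → Rep hF π (Gam U (k + 1)) {j | (j : ℕ) ≤ k + 1} := fun k hk => by
    induction k with
    | zero =>
      rw [g1, show {j : Fin (n + 1) | (j : ℕ) ≤ 0 + 1} = {(⟨0, hk⟩ : Fin n).castSucc,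
        (⟨0, hk⟩ : Fin n).succ} by
          ext j
          simp only [Set.mem_setOf_eq, Set.mem_insert_iff, Set.mem_singleton_iff, Fin.ext_iff,
            Fin.val_castSucc, Fin.val_succ]
          omega]
      exact rU _
    | succ k ih =>
      rw [show Gam U (k + 1 + 1) = _ from Gam_succ U ⟨k + 1, hk⟩, show {j : Fin (n + 1) |
        (j : ℕ) ≤ k + 1 + 1} = insert (⟨k + 1, hk⟩ : Fin n).succ {j : Fin (n + 1) | (j : ℕ) ≤ k + 1} by
          ext j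
          simp only [Set.mem_setOf_eq, Set.mem_insert_iff, Fin.ext_iff, Fin.val_succ]
          omega]
      exact sur3 (r := 0) hq (by simp) (by simp) (by simp [Fin.ext_iff]) (by simp)
        (ih (by omega)) (rU _)
  have ij : ∀ k, k + 2 < n → Inj π (Gam U (k + 3)) := fun k hk => by
    induction k with
    | zero =>
      rw [show Gam U (0 + 3) = _ from Gam_succ U ⟨2, hk⟩,
        show Gam U 2 = _ from Gam_succ U ⟨1, by omega⟩, g1]
      exact iU _ _ _ rfl rfl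
    | succ k ih =>
      rw [show Gam U (k + 1 + 3) = _ from Gam_succ U ⟨k + 3, hk⟩]
      have i1 := ih (by omega)
      have l1 : k + 1 < n := by omega
      have l2 : k + 2 < n := by omega
      have r2 := sur3 (r := (⟨k + 1, l1⟩ : Fin n).castSucc) (p := (⟨k + 2, l2⟩ : Fin n).castSucc)
        hq (by simp) (by simp) (by simp [Fin.ext_iff]) (by simp [Fin.ext_iff]) (rU ⟨k + 1, l1⟩)
        (rU ⟨k + 2, l2⟩)
      rw [Set.insert_comm, Set.pair_comm (⟨k + 2, l2⟩ : Fin n).succ] at r2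
      refine Stq.all_inj (hF := hF) (J := {j | (j : ℕ) ≤ k + 3}) (p := (⟨k + 3, hk⟩ : Fin n).castSucc)
        (m := (⟨k + 3, hk⟩ : Fin n).succ) (r := (⟨k + 2, l2⟩ : Fin n).castSucc)
        (r' := (⟨k + 1, l1⟩ : Fin n).castSucc) (k := 0)
        (S' := U ⟨k + 1, l1⟩ ⊔ U ⟨k + 2, l2⟩) ⟨hq, si, by simp, by simp, by simp, by simp,
        by simp [Fin.ext_iff], by simp [Fin.ext_iff], by simp [Fin.ext_iff], by simp [Fin.ext_iff],
        by simp [Fin.ext_iff], by simp [Fin.ext_iff], by simp, rp (k + 2) (by omega), i1, rU _,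
        r2, sup_le (U_le U (by simp)) (U_le U (by simp)), iU _ _ _ rfl rfl, fun a ha c s hs => ?_⟩
      obtain ⟨b, hb, e⟩ := (rp (k + 1) (by omega)).sur _ (si a) (((rp (k + 2) (by omega)).sat a ha).erase
        (fun j hj d => by simp [Fin.ext_iff] at hj d ⊢; omega) c)
      have l : Gam U (k + 2) ≤ Gam U (k + 3) := iSup₂_le fun j hj => U_le U (by omega)
      obtain rfl := i1.eq (l hb) ha e
      have l' : Gam U (k + 2) ≤ Subgroup.centralizer {s} := iSup₂_le fun j hj x hx =>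
        Subgroup.mem_centralizer_singleton_iff.2 (cU j ⟨k + 3, hk⟩ (by simp; omega) x hx s hs)
      exact Subgroup.mem_centralizer_singleton_iff.1 (l' hb)
  obtain ⟨k, rfl⟩ : ∃ k, n = k + 3 := ⟨n - 3, by omega⟩
  refine ⟨ij k (by omega), ?_⟩
  have := rp (k + 2) (by omega)
  rwa [show {j : Fin (k + 3 + 1) | (j : ℕ) ≤ k + 2 + 1} = Set.univ by
    ext j; simp; omega] at this

theorem j01 : Injective (![0, 1] : Fin 2 → Fin 4) := by decide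
theorem j12 : Injective (![1, 2] : Fin 2 → Fin 4) := by decide
theorem j23 : Injective (![2, 3] : Fin 2 → Fin 4) := by decide

variable (hF)

theorem final3 {G : Type*} [Group G] (hq : 3 ≤ q) (hn : 3 ≤ n) (φ : Fin n → SU 2 F q →* G)
    (h1 : ∀ i j k : Fin n, (i : ℕ) + 1 = j → (j : ℕ) + 1 = k → ∃ Ψ : SU 4 F q →* G,
      Ψ.comp (em hF j01) = φ i ∧ Ψ.comp (em hF j12) = φ j ∧ Ψ.comp (em hF j23) = φ k)
    (h2 : ∀ i j : Fin n, (i : ℕ) + 2 ≤ j → ∀ x y, Commute (φ i x) (φ j y)) :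
    ∃ Φ : SU (n + 1) F q →* G, ∀ i, (φ i).range ≤ Φ.range := by
  let π := (p0 (n + 1) q F).comp (MonoidHom.fst _ G)
  have fi : ∀ i : Fin n, Injective ![i.castSucc, i.succ] := fun i a b => by
    fin_cases a <;> fin_cases b <;> simp [Fin.ext_iff]
  let U : Fin n → Subgroup (SU (n + 1) F q × G) := fun i => ((em hF (fi i)).prod (φ i)).range
  obtain ⟨i1, i2⟩ := main3 (hF := hF) (π := π) hq (fun k => p0_si hF k.1) U (fun i => by
    rw [show ({i.castSucc, i.succ} : Set _) = Set.range ![i.castSucc, i.succ] by simp [Set.pair_comm]]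
    refine ⟨?_, fun g g1 g2 => ?_⟩
    · rintro _ ⟨A, rfl⟩
      exact (mem_em hF (fi i) _).1 ⟨A, rfl⟩
    · obtain ⟨X, rfl⟩ := p0_sur hF g1
      obtain ⟨A, rfl⟩ := (mem_em hF (fi i) _).2 g2
      exact ⟨_, ⟨A, rfl⟩, rfl⟩) (fun i j k h h' x hx c => by
    obtain ⟨Ψ, e1, e2, e3⟩ := h1 i j k h h'
    have gi : Injective ![i.castSucc, i.succ, j.succ, k.succ] := fun a b => by
      fin_cases a <;> fin_cases b <;> simp [Fin.ext_iff] <;> omega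
    have l : U i ⊔ U j ⊔ U k ≤ ((em hF gi).prod Ψ).range := sup_le (sup_le (by
      rintro _ ⟨A, rfl⟩
      refine ⟨em hF j01 A, Prod.ext (su_ext ((emM_comp _ _ _).trans ?_)) (DFunLike.congr_fun e1 A)⟩
      congr 1; ext a; fin_cases a <;> rfl) (by
      rintro _ ⟨A, rfl⟩
      refine ⟨em hF j12 A, Prod.ext (su_ext ((emM_comp _ _ _).trans ?_)) (DFunLike.congr_fun e2 A)⟩
      congr 1; ext a; fin_cases a <;> simp [h])) (by
      rintro _ ⟨A, rfl⟩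
      refine ⟨em hF j23 A, Prod.ext (su_ext ((emM_comp _ _ _).trans ?_)) (DFunLike.congr_fun e3 A)⟩
      congr 1; ext a; fin_cases a <;> simp [h'])
    obtain ⟨A, rfl⟩ := l hx
    rw [show A = 1 from em_inj hF gi ((p0_inj (c.trans (map_one _).symm)).trans (map_one _).symm),
      map_one]) (by
    rintro i j h _ ⟨A, rfl⟩ _ ⟨B, rfl⟩
    refine Prod.ext (su_ext (emM_comm (fun a b => ?_) A.1.1 B.1.1)) (h2 i j h A B)
    fin_cases a <;> fin_cases b <;> simp [Fin.ext_iff] <;> omega) hn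
  set Γ := Gam U n
  let ε : Γ ≃* SU (n + 1) F q := MulEquiv.ofBijective ((MonoidHom.fst _ _).comp Γ.subtype)
    ⟨fun a b e => Subtype.ext (i1.eq a.2 b.2 (congrArg (p0 (n + 1) q F) e)), fun g => by
      obtain ⟨x, hx, e⟩ := i2.sur _ (p0_si hF g) (Fx_iff.2 fun i hi => (hi trivial).elim)
      exact ⟨⟨x, hx⟩, p0_inj e⟩⟩
  refine ⟨((MonoidHom.snd _ _).comp Γ.subtype).comp ε.symm.toMonoidHom, fun i => ?_⟩
  rintro _ ⟨A, rfl⟩
  exact ⟨_, congrArg (fun y : Γ => y.1.2) (ε.symm_apply_apply ⟨_, U_le U i.2 ⟨A, rfl⟩⟩)⟩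

end Lead.Pha
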