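import Cfsg.Agent.Lead.Phb2

/-! Phan's theorem for `q = 3`, part 3: lemmas for recognising standard triples. -/

set_option autoImplicit false
set_option linter.unusedSectionVars false
set_option maxHeartbeats 400000

namespace Lead.Pha
open H23 (conj conj_conj)
open Matrix Cfsg Function
open scoped MatrixGroups

theorem braid_sq {H : Type*} [Group H] {a b : H} (ha : a ^ 3 = 1) (hb : b ^ 3 = 1)
    (h : a * b * a = b * a * b) : (a * b) ^ 3 * (a * b) ^ 3 = 1 := by
  have a2 : a * a = a⁻¹ := eq_inv_of_mul_eq_one_left (by rw [← ha, pow_three'])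
  have b2 : b * b = b⁻¹ := eq_inv_of_mul_eq_one_left (by rw [← hb, pow_three'])
  have e0 : (a * b) ^ 3 = a * b * a * (b * a * b) := by rw [pow_three']; group
  have d1 : a * b * a * b = a * (a * b * a) := by nth_rewrite 2 [h]; group
  have d2 : a * b * a * a = b * (a * b * a) := by nth_rewrite 1 [h]; group
  have c1 : (a * b) ^ 3 * a = a * (a * b) ^ 3 := by
    rw [e0, ← h, mul_assoc, d2, ← mul_assoc, d1]; group
  have c2 : (a * b) ^ 3 * b = b * (a * b) ^ 3 := by
    rw [e0, ← h, mul_assoc, d1, ← mul_assoc, d2]; group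
  have e1 : (a * b) ^ 3 = b * a⁻¹ * (b * a⁻¹) := by
    calc _ = a⁻¹ * ((a * b) ^ 3 * a) := by rw [c1]; group
      _ = b * (a * a) * b * (a * a) := by rw [e0, ← h]; group
      _ = _ := by rw [a2]; group
  have e2 : (a * b) ^ 3 = a * b⁻¹ * (a * b⁻¹) := by
    calc _ = b⁻¹ * ((a * b) ^ 3 * b) := by rw [c2]; group
      _ = a * (b * b) * a * (b * b) := by rw [e0, h]; group
      _ = _ := by rw [b2]; group
  nth_rewrite 1 [e2]
  rw [e1]; group

variable {N q : ℕ} {F : Type*} [Field F] [Fintype F] {hF : Fintype.card F = q ^ 2}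

local notation "⟪" u ", " v "⟫" => hm hF u v
local notation "V" => Fin N → F

theorem fixJ (hq : 3 ≤ q) (h2 : (2 : F) ≠ 0) {J : Set (Fin N)} {z : V ≃ₗ[F] V} (iz : Iso hF z)
    (zz : z * z = 1) (hJ : ∀ v ∈ HJ F J, z v ∈ HJ F J) (hn : ¬ ∀ v ∈ HJ F J, z v = -v) :
    ∃ a ∈ HJ F J, ⟪a, a⟫ = 1 ∧ z a = a := by
  obtain ⟨w, hw', hw⟩ : ∃ w ∈ HJ F J, ⟪w, z w + w⟫ ≠ 0 := by_contra fun n => hn fun w hw => by
    have n : ∀ w ∈ HJ F J, ⟪w, z w + w⟫ = 0 := fun w hw => not_not.1 fun m => n ⟨w, hw, m⟩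
    have s : ∀ u ∈ HJ F J, ∀ w ∈ HJ F J, ⟪u, z w + w⟫ + ⟪w, z u + u⟫ = 0 := fun u hu w hw => by
      have := n (u + w) (add_mem hu hw)
      have h1 := n u hu
      have h2 := n w hw
      simp only [map_add, LinearMap.add_apply] at this h1 h2 ⊢
      linear_combination this - h1 - h2
    obtain ⟨c, -, hc⟩ := exists_lam3 hF hq
    refine eq_neg_of_add_eq_zero_left (funext fun i => ?_)
    by_cases d : i ∈ J
    · rw [← hm_l hF i (z w + w)]
      refine mul_left_cancel₀ (sub_ne_zero.2 hc) ?_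
      have h1 := s _ (bb_mem d) w hw
      have h2 := s _ (bb_mem d) (c • w) (Submodule.smul_mem _ _ hw)
      rw [map_smul, ← smul_add, map_smul, map_smulₛₗ, LinearMap.smul_apply] at h2
      simp only [smul_eq_mul, Pi.zero_apply] at h2 ⊢
      linear_combination conj hF c * h1 - h2
    · exact add_mem (hJ w hw) hw i d
  have fz : z (z w + w) = z w + w := by rw [map_add, ← LinearEquiv.mul_apply, zz, add_comm]; rfl
  obtain ⟨c, -, -, hc⟩ := scale (hF := hF) (v := z w + w) (by
    have := iz w (z w + w)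
    rw [fz] at this
    rw [(hm hF).map_add, LinearMap.add_apply, this, ← two_mul]
    exact mul_ne_zero h2 hw)
  exact ⟨_, Submodule.smul_mem _ _ (add_mem (hJ w hw') hw'), hc, by rw [map_smul, fz]⟩

omit hF in
theorem lemL (h2 : (2 : F) ≠ 0) (h3 : (3 : F) = 0) {i j : Fin N} {a b c : V ≃ₗ[F] V}
    (ha : ∀ v ∈ HJ F {i, j}, a v ∈ HJ F {i, j}) (hb : ∀ v ∈ HJ F {i, j}, b v ∈ HJ F {i, j})
    (hc : ∀ v ∈ HJ F {i, j}, c v ∈ HJ F {i, j}) (a3 : a ^ 3 = 1) (b3 : b ^ 3 = 1) (c3 : c ^ 3 = 1)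
    (ca : Commute c a) (cb : Commute c b) (hr : ∀ v ∈ HJ F {i, j}, ((a * b) ^ 3) v = -v) :
    ∀ w ∈ HJ F {i, j}, c w = w := fun w hw => by_contra fun n => by
  obtain ⟨x, hx, x0, cx⟩ : ∃ x ∈ HJ F {i, j}, x ≠ 0 ∧ c x = x := by
    have m1 := sub_mem (hc w hw) hw
    by_cases d : c (c w - w) = c w - w
    · exact ⟨_, m1, sub_ne_zero.2 n, d⟩
    · refine ⟨_, sub_mem (hc _ m1) m1, sub_ne_zero.2 d, ?_⟩
      have : c (c (c w)) = w := by simpa [pow_three] using LinearEquiv.congr_fun c3 w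
      simp only [map_sub, this]
      rw [← sub_eq_zero]
      calc _ = (3 : F) • (c w - c (c w)) := by module
        _ = 0 := by rw [h3, zero_smul]
  have k : ∀ y ∈ HJ F {i, j}, c y = y → ∃ α : F, y = α • x := fun y hy cy => by
    have z : ∀ v ∈ HJ F {i, j}, v i = 0 → v j = 0 → v = 0 := fun v hv h1 h2 => funext fun l => by
      by_cases d : l = i
      · rw [d, h1]; rfl
      by_cases d' : l = j
      · rw [d', h2]; rfl
      exact hv l (by simp [d, d'])
    by_cases d : x i * y j - x j * y i = 0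
    · by_cases d' : x i = 0
      · have : x j ≠ 0 := fun e => x0 (z x hx d' e)
        refine ⟨y j / x j, sub_eq_zero.1 (z _ (sub_mem hy (Submodule.smul_mem _ _ hx)) ?_ ?_)⟩ <;>
          simp only [Pi.sub_apply, Pi.smul_apply, smul_eq_mul] <;> field_simp
        · linear_combination -d
        · ring
      · refine ⟨y i / x i, sub_eq_zero.1 (z _ (sub_mem hy (Submodule.smul_mem _ _ hx)) ?_ ?_)⟩ <;>
          simp only [Pi.sub_apply, Pi.smul_apply, smul_eq_mul] <;> field_simp
        · ring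
        · linear_combination d
    · have d' := mul_inv_cancel₀ d
      generalize (x i * y j - x j * y i)⁻¹ = D at d'
      have e : w = ((w i * y j - w j * y i) * D) • x + ((x i * w j - x j * w i) * D) • y := by
        refine sub_eq_zero.1 (z _ (sub_mem hw (add_mem (Submodule.smul_mem _ _ hx)
          (Submodule.smul_mem _ _ hy))) ?_ ?_) <;>
          simp only [Pi.sub_apply, Pi.add_apply, Pi.smul_apply, smul_eq_mul]
        · linear_combination (-w i) * d'
        · linear_combination (-w j) * d'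
      exact (n (by rw [e, map_add, map_smul, map_smul, cx, cy])).elim
  have f : ∀ a : V ≃ₗ[F] V, (∀ v ∈ HJ F {i, j}, a v ∈ HJ F {i, j}) → a ^ 3 = 1 → Commute c a →
      a x = x := fun a ha a3 ca => by
    obtain ⟨α, e⟩ := k _ (ha x hx) (by rw [← LinearEquiv.mul_apply, ca.eq, LinearEquiv.mul_apply, cx])
    have : a (a (a x)) = x := by simpa [pow_three] using LinearEquiv.congr_fun a3 x
    simp only [e, map_smul, smul_smul] at this
    have h1 : α * α * α = 1 := smul_left_injective F x0 (by simpa using this)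
    have h4 : (α - 1) ^ 3 = 0 := by linear_combination h1 + (α - α ^ 2) * h3
    rw [e, sub_eq_zero.1 (pow_eq_zero_iff three_ne_zero |>.1 h4), one_smul]
  have := hr x hx
  simp only [pow_three, LinearEquiv.mul_apply, f a ha a3 ca, f b hb b3 cb] at this
  exact x0 ((smul_eq_zero_iff_right h2).1 (by rw [two_smul]; nth_rewrite 1 [this]; simp))

variable (hF) in
/-- the central involution -/
def m1 : SU 2 F q := mk2 hF (-1) 0 (by simp [-H23.conj_apply])

theorem su2_inv (h2 : (2 : F) ≠ 0) {x : SU 2 F q} (h : x * x = 1) (h1 : x ≠ 1) : x = m1 hF := by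
  have e0 := congrArg (·.1.1 0 0) h
  have e1 := congrArg (·.1.1 0 1) h
  have d := x.1.2
  simp only [su_mul, mul_apply, Fin.sum_univ_two, det_fin_two, su2_ent hF] at e0 e1 d
  change _ = (1 : F) at e0
  change _ = (0 : F) at e1
  have b0 : x.1.1 0 1 = 0 := mul_left_cancel₀ h2 (by
    linear_combination x.1.1 0 0 * e1 - x.1.1 0 1 * e0 - x.1.1 0 1 * d)
  rw [b0, zero_mul, add_zero, mul_self_eq_one_iff] at e0
  exact su2_ext hF (e0.resolve_left fun e => h1 (su2_ext hF e b0)) b0

theorem mem_stab' {k : ℕ} {f : Fin k → Fin N} (hf : Injective f) {Y X : SU N F q}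
    (h : ∀ i, i ∉ Set.range f → p0 N q F X (p0 N q F Y (bb i)) = p0 N q F Y (bb i)) :
    ∃ x, Y * em hF hf x * Y⁻¹ = X := by
  obtain ⟨x, hx⟩ := (mem_em hF hf (Y⁻¹ * X * Y)).2 (Fx_iff.2 fun j hj => by
    rw [act_mul, act_mul, h j hj]; exact act_inv rfl)
  exact ⟨x, by rw [hx]; group⟩

theorem diag4 (hq : 3 ≤ q) (h2 : (2 : F) ≠ 0) {r : SU 4 F q} (hr : r * r = 1) (h1 : r ≠ 1)
    (hn : ¬ ∀ v, p0 4 q F r v = -v) : ∃ Y, Y * em hF j01 (m1 hF) * Y⁻¹ = r := by
  have rr : p0 4 q F r * p0 4 q F r = 1 := by rw [← map_mul, hr, map_one]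
  obtain ⟨a, -, a1, a2⟩ := fixJ (J := Set.univ) hq h2 (p0_si hF r).1 rr
    (fun _ _ _ h => (h trivial).elim) fun h => hn fun v => h v fun _ h => (h trivial).elim
  obtain ⟨g, g1, -, rfl⟩ := witt (J := Set.univ) (p := 3) (r := 0) trivial trivial (by decide)
    (fun _ h => (h trivial).elim) a1
  set z := g⁻¹ * p0 4 q F r * g with hz
  have sz : SI hF z := (g1.inv.mul (p0_si hF r)).mul g1
  have fz : Fx {0, 1, 2} z := Fx_iff.2 fun i hi => by
    obtain rfl : i = 3 := by revert i; decide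
    exact inv_app a2.symm
  obtain ⟨b, b0, b1, b2⟩ := fixJ (J := {0, 1, 2}) hq h2 sz.1 (by
    calc _ = g⁻¹ * (p0 4 q F r * p0 4 q F r) * g := by rw [hz]; group
      _ = 1 := by rw [rr]; group) (fun v => fz.map sz.1) fun h => h2 (by
      have e : z.toLinearMap = Matrix.toLin' (diagonal ![-1, -1, -1, 1]) :=
        (Pi.basisFun F (Fin 4)).ext fun i => by
          rw [Pi.basisFun_apply]
          by_cases c : i = 3
          · refine (fz (bb i) (bb_mem (by simp [c]))).trans ?_
            ext j; fin_cases j <;> simp [c, bb]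
          · refine (h (bb i) (bb_mem (by revert i; decide))).trans ?_
            ext j; fin_cases i <;> fin_cases j <;> simp_all [bb]
      have := sz.2
      rw [e, LinearMap.det_toLin', det_diagonal] at this
      simp [Fin.prod_univ_four] at this
      linear_combination -this)
  obtain ⟨g', g2, g3, rfl⟩ := witt (J := {0, 1, 2}) (p := 2) (r := 0) (by simp) (by simp) (by decide)
    b0 b1
  obtain ⟨Y, hY⟩ := p0_sur hF (g1.mul g2)
  obtain ⟨x, rfl⟩ := mem_stab' (hF := hF) j01 (Y := Y) (X := r) fun i hi => by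
    obtain rfl | rfl : i = 2 ∨ i = 3 := by revert i; decide
    · rw [hY]; exact (inv_app (g := g⁻¹) b2).symm
    · rw [hY, LinearEquiv.mul_apply, g3 _ (bb_mem (by simp)), a2]
  suffices x * x = 1 from ⟨Y, by rw [su2_inv (hF := hF) h2 this fun e => h1 (by simp [e])]⟩
  apply em_inj hF j01
  rw [map_mul, map_one]
  calc _ = Y⁻¹ * (Y * em hF j01 x * Y⁻¹ * (Y * em hF j01 x * Y⁻¹)) * Y := by group
    _ = 1 := by rw [hr]; group

theorem m1_sq : m1 hF * m1 hF = 1 := su_ext (by
  rw [su_mul]; ext i j; fin_cases i <;> fin_cases j <;> simp [m1, mk2, -H23.conj_apply])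

theorem m1_ne (h2 : (2 : F) ≠ 0) : m1 hF ≠ 1 := fun e => h2 (by
  have : (-1 : F) = 1 := congrArg (·.1.1 0 0) e
  linear_combination -this)

theorem braid3 (h2 : (2 : F) ≠ 0) (h3 : (3 : F) = 0) :
    (∃ s t : SU 2 F q, s ^ 3 = 1 ∧ t ^ 3 = 1 ∧ s * t * s = t * s * t ∧ (s * t) ^ 3 = m1 hF) ∧
    ∀ P : SU 2 F q → Prop, (∀ x, x ^ 3 = 1 → P x) → (∀ x y, P x → P y → P (x * y)) → ∀ x, P x := by
  obtain ⟨K, -, ε, -, -⟩ := exists_eps hF
  have k3 : (3 : K) = 0 := Subtype.ext h3
  refine ⟨⟨ε (SpecialLinearGroup.transvection zero_ne_one 1),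
    ε (SpecialLinearGroup.transvection one_ne_zero (-1)), by rw [← map_pow, tv_cube k3, map_one],
    by rw [← map_pow, tv_cube k3, map_one], ?_, ?_⟩, fun P h1 h2 x => ?_⟩
  · simp only [← map_mul]
    congr 1
    ext i j
    fin_cases i <;> fin_cases j <;>
      simp [SpecialLinearGroup.transvection_coe, mul_apply, Fin.sum_univ_two, one_apply, single]
  · have e : (SpecialLinearGroup.transvection (zero_ne_one (α := Fin 2)) (1 : K) *
        SpecialLinearGroup.transvection one_ne_zero (-1)) ^ 3 = -1 := by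
      ext i j
      fin_cases i <;> fin_cases j <;> simp [pow_three, SpecialLinearGroup.transvection_coe,
        mul_apply, Fin.sum_univ_two, one_apply, single]
    rw [← map_mul, ← map_pow, e]
    refine su2_inv h2 (by rw [← map_mul]; simp) fun c => h2 ?_
    have := congrArg (fun x => (x.1 0 0 : F)) (ε.injective (c.trans (map_one _).symm))
    simp at this
    linear_combination -this
  · obtain ⟨x, rfl⟩ := ε.surjective x
    exact Matrix.SL2.transvection_induction (fun x => P (ε x))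
      (fun i j h c => h1 _ (by rw [← map_pow, tv_cube k3, map_one]))
      (fun A B hA hB => map_mul ε A B ▸ h2 _ _ hA hB) x

theorem eq_range {H G : Type*} [Group H] [Finite H] [Group G] {α f : H →* G} (hα : Injective α)
    (h : α.range ≤ f.range) : f.range = α.range ∧ Injective f := by
  have : Finite f.range := Finite.of_surjective _ f.rangeRestrict_surjective
  have e : α.range = f.range := Subgroup.eq_of_le_of_card_ge h (by
    rw [← Nat.card_congr (MonoidHom.ofInjective hα).toEquiv]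
    exact Nat.card_le_card_of_surjective _ f.rangeRestrict_surjective)
  exact ⟨e.symm, fun a b c => ((Nat.bijective_iff_surjective_and_card f.rangeRestrict).2
    ⟨f.rangeRestrict_surjective, e ▸ Nat.card_congr (MonoidHom.ofInjective hα).toEquiv⟩).1
    (Subtype.ext c)⟩

variable {G : Type*} [Group G]

theorem nc1 (h2 : (2 : F) ≠ 0) {ψ : SU 3 F q →* G} (h : Injective (ψ.comp (e12 hF))) :
    ¬ ∀ z, Commute (ψ (e01 hF (m1 hF))) (ψ (e12 hF z)) := fun c => h2 (by
  have e : e01 hF (m1 hF) * e12 hF (mk2 hF 0 1 (by simp)) =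
      e12 hF (mk2 hF 0 (-1) (by simp [-H23.conj_apply])) * e01 hF (m1 hF) := su_ext (by
    simp only [su_mul, em_val, emM_01, emM_12]
    simp [m1, mk2, -H23.conj_apply])
  have := (c (mk2 hF 0 1 (by simp))).eq
  rw [← map_mul, e, map_mul, mul_left_inj] at this
  have : (-1 : F) = 1 := congrArg (·.1.1 0 1) (h this)
  linear_combination -this)

theorem nc2 (h2 : (2 : F) ≠ 0) {ψ : SU 3 F q →* G} (h : Injective (ψ.comp (e01 hF))) :
    ¬ ∀ z, Commute (ψ (e12 hF (m1 hF))) (ψ (e01 hF z)) := fun c => h2 (by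
  have e : e12 hF (m1 hF) * e01 hF (mk2 hF 0 1 (by simp)) =
      e01 hF (mk2 hF 0 (-1) (by simp [-H23.conj_apply])) * e12 hF (m1 hF) := su_ext (by
    simp only [su_mul, em_val, emM_01, emM_12]
    simp [m1, mk2, -H23.conj_apply])
  have := (c (mk2 hF 0 1 (by simp))).eq
  rw [← map_mul, e, map_mul, mul_left_inj] at this
  have : (-1 : F) = 1 := congrArg (·.1.1 0 1) (h this)
  linear_combination -this)

theorem exists_cyc : ∃ w : SU 3 F q, ∀ x, w * e01 hF x = e12 hF x * w :=
  ⟨⟨⟨!![0, 0, 1; 1, 0, 0; 0, 1, 0], by simp [det_fin_three]⟩, (H14.Wall.mem_SU_ct hF).2 (by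
    ext i j
    fin_cases i <;> fin_cases j <;>
      simp [mul_apply, Fin.sum_univ_three, H14.Wall.ct_apply, -H23.conj_apply])⟩,
    fun x => su_ext (by simp only [su_mul, em_val, emM_01, emM_12]; simp)⟩

end Lead.Pha
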