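import Cfsg.Agent.Lead.Phb3

/-! Phan's theorem for `q = 3`, part 4: standard triples. -/

set_option autoImplicit false
set_option linter.unusedSectionVars false
set_option maxHeartbeats 800000

namespace Lead.Pha
open H23 (conj conj_conj)
open Matrix Cfsg Function

variable {q : ℕ} {F : Type*} [Field F] [Fintype F] {hF : Fintype.card F = q ^ 2}
  {G : Type*} [Group G]

local notation "ρ" => p0 4 q F
local notation "D" => em hF j01 (m1 hF)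

theorem lift3 {H : Type*} [Group H] {Θ : H →* G} (hk : ∀ k, Θ k = 1 → k ∈ Subgroup.center H ∧ k ^ 4 = 1)
    {g : G} (hg : g ∈ Θ.range) (h3 : g ^ 3 = 1) : ∃ x, x ^ 3 = 1 ∧ Θ x = g := by
  obtain ⟨y, rfl⟩ := hg
  exact ⟨y ^ 4, by rw [← pow_mul, mul_comm, pow_mul, (hk _ (by rw [map_pow, h3])).2],
    by rw [map_pow, pow_succ, h3, one_mul]⟩

theorem uniq3 {H : Type*} [Group H] {Θ : H →* G} (hk : ∀ k, Θ k = 1 → k ∈ Subgroup.center H ∧ k ^ 4 = 1)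
    {x y : H} (hx : x ^ 3 = 1) (hy : y ^ 3 = 1) (h : Θ x = Θ y) : x = y := by
  obtain ⟨k, rfl⟩ : ∃ k, x = y * k := ⟨y⁻¹ * x, by group⟩
  obtain ⟨h1, h2⟩ := hk k (by simpa using h)
  rw [(show Commute y k from Subgroup.mem_center_iff.1 h1 y).mul_pow, hy, one_mul] at hx
  rw [pow_succ, hx, one_mul] at h2
  rw [h2, mul_one]

theorem comm3 {H : Type*} [Group H] {Θ : H →* G} (hk : ∀ k, Θ k = 1 → k ∈ Subgroup.center H ∧ k ^ 4 = 1)
    {x r : H} (hx : x ^ 3 = 1) (h : Commute (Θ r) (Θ x)) : Commute r x :=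
  mul_inv_eq_iff_eq_mul.1 (uniq3 hk (by rw [conj_pow, hx]; group) hx
    (by rw [map_mul, map_mul, h.eq, map_inv]; group))

theorem braid_lift {H : Type*} [Group H] {Θ : H →* G}
    (hk : ∀ k, Θ k = 1 → k ∈ Subgroup.center H ∧ k ^ 4 = 1) (h2 : (2 : F) ≠ 0) (h3 : (3 : F) = 0)
    {α : SU 2 F q →* G} (hα : α.range ≤ Θ.range) : ∃ a b, a ^ 3 = 1 ∧ b ^ 3 = 1 ∧ Θ a ∈ α.range ∧
      Θ b ∈ α.range ∧ Θ ((a * b) ^ 3) = α (m1 hF) ∧ (a * b) ^ 3 * (a * b) ^ 3 = 1 := by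
  obtain ⟨s, t, s3, t3, br, e⟩ := (braid3 (hF := hF) h2 h3).1
  obtain ⟨a, a3, ha⟩ := lift3 hk (hα ⟨s, rfl⟩) (by rw [← map_pow, s3, map_one])
  obtain ⟨b, b3, hb⟩ := lift3 hk (hα ⟨t, rfl⟩) (by rw [← map_pow, t3, map_one])
  refine ⟨a, b, a3, b3, ⟨s, ha.symm⟩, ⟨t, hb.symm⟩,
    by rw [map_pow, map_mul, ha, hb, ← map_mul, ← map_pow, e], braid_sq a3 b3 ?_⟩
  have := uniq3 hk (x := a * b * a * (a * b)⁻¹) (by rw [conj_pow, a3]; group) b3 (by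
    simp only [map_mul, map_inv, ha, hb]
    simp only [← map_mul, ← map_inv, br]
    congr 1; group)
  rw [mul_inv_eq_iff_eq_mul.1 this, mul_assoc]

theorem D_app (v : Fin 4 → F) : ρ D v = ![-v 0, -v 1, v 2, v 3] := by
  change emM _ (m1 hF).1.1 *ᵥ v = _
  ext i
  fin_cases i <;> simp [emM, PM, m1, mk2, mulVec, dotProduct, mul_apply, Fin.sum_univ_four,
    Fin.sum_univ_two, one_apply, -H23.conj_apply] <;> ring

theorem D'_app (v : Fin 4 → F) : ρ (em hF j23 (m1 hF)) v = ![v 0, v 1, -v 2, -v 3] := by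
  change emM _ (m1 hF).1.1 *ᵥ v = _
  ext i
  fin_cases i <;> simp [emM, PM, m1, mk2, mulVec, dotProduct, mul_apply, Fin.sum_univ_four,
    Fin.sum_univ_two, one_apply, -H23.conj_apply] <;> ring

theorem mem01 {v : Fin 4 → F} : v ∈ HJ F {0, 1} ↔ v 2 = 0 ∧ v 3 = 0 :=
  ⟨fun h => ⟨h 2 (by decide), h 3 (by decide)⟩, fun h i hi => by
    obtain rfl | rfl : i = 2 ∨ i = 3 := by revert i; decide
    exacts [h.1, h.2]⟩

theorem mem23 {v : Fin 4 → F} : v ∈ HJ F {2, 3} ↔ v 0 = 0 ∧ v 1 = 0 :=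
  ⟨fun h => ⟨h 0 (by decide), h 1 (by decide)⟩, fun h i hi => by
    obtain rfl | rfl : i = 0 ∨ i = 1 := by revert i; decide
    exacts [h.1, h.2]⟩

theorem D_neg (h2 : (2 : F) ≠ 0) {v : Fin 4 → F} : ρ D v = -v ↔ v ∈ HJ F {0, 1} := by
  rw [D_app, mem01]
  refine ⟨fun h => ⟨mul_left_cancel₀ h2 ?_, mul_left_cancel₀ h2 ?_⟩, fun h => ?_⟩
  · have : v 2 = -v 2 := congrFun h 2
    linear_combination this
  · have : v 3 = -v 3 := congrFun h 3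
    linear_combination this
  · ext i; fin_cases i <;> simp [h.1, h.2]

theorem D_pos (h2 : (2 : F) ≠ 0) {v : Fin 4 → F} : ρ D v = v ↔ v ∈ HJ F {2, 3} := by
  rw [D_app, mem23]
  refine ⟨fun h => ⟨mul_left_cancel₀ h2 ?_, mul_left_cancel₀ h2 ?_⟩, fun h => ?_⟩
  · have : -v 0 = v 0 := congrFun h 0
    linear_combination -this
  · have : -v 1 = v 1 := congrFun h 1
    linear_combination -this
  · ext i; fin_cases i <;> simp [h.1, h.2]

theorem pres01 (h2 : (2 : F) ≠ 0) {x : SU 4 F q} (h : Commute D x) :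
    ∀ v ∈ HJ F {0, 1}, ρ x v ∈ HJ F {0, 1} := fun v hv => by
  rw [← D_neg (hF := hF) h2] at hv ⊢
  rw [← act_mul, h.eq, act_mul, hv, map_neg]

theorem pres23 (h2 : (2 : F) ≠ 0) {x : SU 4 F q} (h : Commute D x) :
    ∀ v ∈ HJ F {2, 3}, ρ x v ∈ HJ F {2, 3} := fun v hv => by
  rw [← D_pos (hF := hF) h2] at hv ⊢
  rw [← act_mul, h.eq, act_mul, hv]

theorem fx01 {x : SU 4 F q} : x ∈ (em hF j01).range ↔ ∀ v ∈ HJ F {2, 3}, ρ x v = v := by
  rw [mem_em, Fx, show (Set.range (![0, 1] : Fin 2 → Fin 4))ᶜ = {2, 3} by ext i; revert i; decide]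

theorem fx23 {x : SU 4 F q} : x ∈ (em hF j23).range ↔ ∀ v ∈ HJ F {0, 1}, ρ x v = v := by
  rw [mem_em, Fx, show (Set.range (![2, 3] : Fin 2 → Fin 4))ᶜ = {0, 1} by ext i; revert i; decide]

theorem comm_of {J J' : Set (Fin 4)} (hJ : ∀ i, i ∈ J ∨ i ∈ J') {r x : SU 4 F q}
    (h1 : ∀ v ∈ HJ F J, ρ r v = -v) (h2 : ∀ v ∈ HJ F J', ρ r v ∈ HJ F J')
    (h3 : ∀ v ∈ HJ F J, ρ x v ∈ HJ F J) (h4 : ∀ v ∈ HJ F J', ρ x v = v) : Commute r x :=
  su_ext (by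
    ext i j
    rw [← p0_bb, ← p0_bb, act_mul, act_mul]
    rcases hJ j with h | h
    · rw [h1 _ (h3 _ (bb_mem h)), h1 _ (bb_mem h), map_neg]
    · rw [h4 _ (bb_mem h), h4 _ (h2 _ (bb_mem h))])

theorem rec4' (hq : 3 ≤ q) (h2 : (2 : F) ≠ 0) (h3 : (3 : F) = 0) (Θ : SU 4 F q →* G)
    (hk : ∀ k, Θ k = 1 → k ∈ Subgroup.center (SU 4 F q) ∧ k ^ 4 = 1) (ψ ψ' : SU 3 F q →* G)
    (iα : Injective (ψ.comp (e01 hF))) (iβ : Injective (ψ.comp (e12 hF)))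
    (iα' : Injective (ψ'.comp (e01 hF))) (iγ : Injective (ψ'.comp (e12 hF)))
    (hr : (ψ.comp (e12 hF)).range = (ψ'.comp (e01 hF)).range) (l : ψ.range ≤ Θ.range)
    (l' : ψ'.range ≤ Θ.range) (hc : ∀ x y, Commute (ψ (e01 hF x)) (ψ' (e12 hF y))) {a b : SU 4 F q}
    (a3 : a ^ 3 = 1) (b3 : b ^ 3 = 1) (ha : Θ a ∈ (ψ.comp (e01 hF)).range)
    (hb : Θ b ∈ (ψ.comp (e01 hF)).range) (hD : Θ D = ψ (e01 hF (m1 hF))) (ab : (a * b) ^ 3 = D) :
    ∃ Θ' : SU 4 F q →* G, (Θ'.comp (em hF j01)).range = (ψ.comp (e01 hF)).range ∧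
      (Θ'.comp (em hF j12)).range = (ψ.comp (e12 hF)).range ∧
      (Θ'.comp (em hF j23)).range = (ψ'.comp (e12 hF)).range := by
  have gen := (braid3 (hF := hF) h2 h3).2
  have cAC : ∀ x ∈ (ψ.comp (e01 hF)).range, ∀ y ∈ (ψ'.comp (e12 hF)).range, Commute x y := by
    rintro _ ⟨x, rfl⟩ _ ⟨y, rfl⟩
    exact hc x y
  have mm : ∀ z, Commute (m1 hF) z := fun z => su_ext (by
    rw [su_mul, su_mul]
    ext i j; fin_cases i <;> fin_cases j <;>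
      simp [m1, mk2, mul_apply, Fin.sum_univ_two, -H23.conj_apply])
  have dA : ∀ y, y ^ 3 = 1 → Θ y ∈ (ψ.comp (e01 hF)).range → Commute D y := by
    rintro y y3 ⟨x, hx⟩
    exact comm3 hk y3 (by rw [hD, ← hx]; exact ((mm x).map _).map _)
  have dC : ∀ y, y ^ 3 = 1 → Θ y ∈ (ψ'.comp (e12 hF)).range → Commute D y := fun y y3 hy =>
    comm3 hk y3 (by rw [hD]; exact cAC _ ⟨_, rfl⟩ _ hy)
  have p3 : ∀ y : SU 4 F q, y ^ 3 = 1 → ρ y ^ 3 = 1 := fun y h => by rw [← map_pow, h, map_one]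
  have kC : ∀ y, y ^ 3 = 1 → Θ y ∈ (ψ'.comp (e12 hF)).range → y ∈ (em hF j23).range :=
    fun y y3 hy => fx23.2 (lemL h2 h3 (pres01 h2 (dA a a3 ha)) (pres01 h2 (dA b b3 hb))
      (pres01 h2 (dC y y3 hy)) (p3 a a3) (p3 b b3) (p3 y y3)
      ((comm3 hk a3 (cAC _ ha _ hy).symm).map _) ((comm3 hk b3 (cAC _ hb _ hy).symm).map _)
      fun v hv => by rw [← map_mul, ← map_pow, ab, (D_neg h2).2 hv])
  obtain ⟨c, d, c3, d3, hc', hd', e1, e2⟩ := braid_lift (hF := hF) hk h2 h3 (α := ψ'.comp (e12 hF))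
    (by rintro _ ⟨x, rfl⟩; exact l' ⟨_, rfl⟩)
  obtain ⟨x, hx⟩ := pow_mem (mul_mem (kC c c3 hc') (kC d d3 hd')) 3
  obtain rfl : x = m1 hF := su2_inv h2 (em_inj hF j23 (by rw [map_mul, hx, e2, map_one])) fun e =>
    m1_ne h2 (iγ (by rw [← e1, ← hx, e, map_one, map_one, map_one]))
  have kA : ∀ y, y ^ 3 = 1 → Θ y ∈ (ψ.comp (e01 hF)).range → y ∈ (em hF j01).range :=
    fun y y3 hy => fx01.2 (lemL h2 h3 (pres23 h2 (dC c c3 hc')) (pres23 h2 (dC d d3 hd'))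
      (pres23 h2 (dA y y3 hy)) (p3 c c3) (p3 d d3) (p3 y y3)
      ((comm3 hk c3 (cAC _ hy _ hc')).map _) ((comm3 hk d3 (cAC _ hy _ hd')).map _)
      fun v hv => by
        rw [← map_mul, ← map_pow, ← hx, D'_app]
        ext i; fin_cases i <;> simp [(mem23.1 hv).1, (mem23.1 hv).2])
  have up : ∀ (α : SU 2 F q →* G) (X : Subgroup (SU 4 F q)), α.range ≤ Θ.range →
      (∀ y, y ^ 3 = 1 → Θ y ∈ α.range → y ∈ X) → ∀ x, ∃ y ∈ X, Θ y = α x := fun α X h1 h4 =>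
    gen _ (fun x x3 => by
      obtain ⟨y, y3, e⟩ := lift3 hk (h1 ⟨x, rfl⟩) (by rw [← map_pow, x3, map_one])
      exact ⟨y, h4 y y3 ⟨x, e.symm⟩, e⟩) fun x y ⟨u, hu, e⟩ ⟨v, hv, e'⟩ =>
        ⟨u * v, mul_mem hu hv, by rw [map_mul, map_mul, e, e']⟩
  have uA := up (ψ.comp (e01 hF)) _ (by rintro _ ⟨x, rfl⟩; exact l ⟨_, rfl⟩) kA
  have uC := up (ψ'.comp (e12 hF)) _ (by rintro _ ⟨x, rfl⟩; exact l' ⟨_, rfl⟩) kC
  obtain ⟨w, hw⟩ := exists_cyc (hF := hF)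
  obtain ⟨u, hu⟩ := l ⟨w, rfl⟩
  let f : SU 2 F q →* SU 4 F q := (MulAut.conj u).toMonoidHom.comp (em hF j01)
  have fe : ∀ x y, Θ (em hF j01 y) = ψ (e01 hF x) → Θ (f y) = ψ (e12 hF x) := fun x y e => by
    change Θ (u * _ * u⁻¹) = _
    rw [map_mul, map_mul, map_inv, e, hu, ← map_mul, hw, map_mul, mul_inv_cancel_right]
  have uB : ∀ x, ∃ y, Θ (f y) = ψ (e12 hF x) := fun x => by
    obtain ⟨_, ⟨y, rfl⟩, e⟩ := uA x
    exact ⟨y, fe x y e⟩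
  obtain ⟨rB, iB⟩ := eq_range (f := Θ.comp f) iβ (by rintro _ ⟨x, rfl⟩; exact uB x)
  have kB : ∀ y, y ^ 3 = 1 → Θ y ∈ (ψ.comp (e12 hF)).range → y ∈ f.range := fun y y3 hy => by
    obtain ⟨x, hx⟩ := rB.ge hy
    have : x ^ 3 = 1 := iB (by rw [map_pow, hx, ← map_pow, y3, map_one, map_one])
    exact ⟨x, uniq3 hk (by rw [← map_pow, this, map_one]) y3 hx⟩
  have cB : Commute D (f (m1 hF)) := by
    obtain ⟨x, hx⟩ := gen (fun x => D * f x * (D)⁻¹ ∈ f.range) (fun x x3 => kB _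
      (by rw [conj_pow, ← map_pow, x3, map_one]; group) (by
        obtain ⟨z, hz⟩ := rB.le ⟨x, rfl⟩
        refine ⟨_, eq_mul_inv_of_mul_eq ((map_mul ψ _ _).symm.trans ((congrArg ψ
          (dg_e12 hF (c := -1) (by simp [-H23.conj_apply]) z).symm).trans (map_mul ψ _ _)))
          |>.trans ?_⟩
        rw [map_mul, map_mul, map_inv, hD]
        exact congrArg (fun y => _ * y * _) hz)) (fun x y hx hy => by
          have := mul_mem hx hy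
          rwa [show D * f x * (D)⁻¹ * (D * f y * (D)⁻¹) = D * f (x * y) * (D)⁻¹ by
            rw [map_mul f]; group] at this) (m1 hF)
    obtain rfl : x = m1 hF := su2_inv h2 (iB (by
      rw [MonoidHom.comp_apply, map_mul f, hx, map_one, show ∀ a b : SU 4 F q,
        a * b * a⁻¹ * (a * b * a⁻¹) = a * (b * b) * a⁻¹ by intros; group, ← map_mul f, m1_sq]
      simp)) fun e => m1_ne h2 (iB (by
        rw [e, map_one, eq_comm, conj_eq_one_iff] at hx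
        rw [MonoidHom.comp_apply, hx, map_one, map_one]))
    exact (mul_inv_eq_iff_eq_mul.1 hx.symm)
  have rr : ρ (f (m1 hF)) * ρ (f (m1 hF)) = 1 := by rw [← map_mul, ← map_mul, m1_sq, map_one, map_one]
  have eB := fe _ _ hD
  obtain ⟨f0, m0, n0, e0⟩ := fixJ hq h2 (p0_si hF _).1 rr (pres01 h2 cB) fun h => nc2 h2 iα fun z => by
    obtain ⟨y, hy, e⟩ := uA z
    rw [← eB, ← show Θ y = ψ (e01 hF z) from e]
    refine (comm_of (J' := {2, 3}) (by decide) h (pres23 h2 cB) ?_ (fx01.1 hy)).map Θ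
    obtain ⟨y, rfl⟩ := hy
    exact pres01 h2 ((mm y).map _)
  obtain ⟨f3, m3, n3, e3⟩ := fixJ hq h2 (p0_si hF _).1 rr (pres23 h2 cB) fun h => nc1 h2 iγ fun z => by
    obtain ⟨y, hy, e⟩ := uC z
    obtain ⟨x, hx⟩ := hr.le ⟨m1 hF, rfl⟩
    obtain rfl : x = m1 hF := su2_inv h2 (iα' (by rw [map_mul, hx, ← map_mul, m1_sq, map_one, map_one]))
      fun e => m1_ne h2 (iβ (by rw [← hx, e, map_one, map_one]))
    rw [show ψ' (e01 hF (m1 hF)) = _ from hx.trans eB.symm, ← show Θ y = ψ' (e12 hF z) from e]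
    refine (comm_of (J' := {0, 1}) (by decide) h (pres01 h2 cB) ?_ (fx23.1 hy)).map Θ
    obtain ⟨y, rfl⟩ := hy
    exact pres23 (hF := hF) h2 (su_ext (emM_comm (by decide) _ _))
  obtain ⟨g1, g2, g3, g4⟩ := witt (J := {0, 1}) (p := 0) (r := 1) (by simp) (by simp) (by decide) m0 n0
  obtain ⟨g5, g6, g7, g8⟩ := witt (J := {2, 3}) (p := 3) (r := 2) (by simp) (by simp) (by decide) m3 n3
  obtain ⟨Y, hY⟩ := p0_sur hF (g2.mul g6)
  have y1 : ∀ v ∈ HJ F {0, 1}, ρ Y v = g1 v := fun v hv => by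
    rw [hY, LinearEquiv.mul_apply, g7 v (HJ_mono (by intro i; revert i; decide) hv)]
  have y2 : ∀ v ∈ HJ F {2, 3}, ρ Y v = g5 v := fun v hv => by
    rw [hY, LinearEquiv.mul_apply, g3 _ (HJ_mono (by intro i; revert i; decide) (g7.map g6.1 hv))]
  have fin : ∀ {j : Fin 2 → Fin 4} (hj : Injective j) (α : SU 2 F q →* G), Injective α →
      (∀ x, ∃ y, Θ y = α x ∧ ∀ i, i ∉ Set.range j → ρ y (ρ Y (bb i)) = ρ Y (bb i)) →
      ((Θ.comp (MulAut.conj Y).toMonoidHom).comp (em hF hj)).range = α.range := fun hj α hα h =>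
    (eq_range hα (by
      rintro _ ⟨x, rfl⟩
      obtain ⟨y, e, hy⟩ := h x
      obtain ⟨z, rfl⟩ := mem_stab' (hF := hF) hj hy
      exact ⟨z, e⟩)).1
  refine ⟨_, fin j01 _ iα fun x => ?_, fin j12 _ iβ fun x => ?_, fin j23 _ iγ fun x => ?_⟩
  · obtain ⟨y, hy, e⟩ := uA x
    refine ⟨y, e, fun i hi => fx01.1 hy _ ?_⟩
    have : bb i ∈ HJ F ({2, 3} : Set (Fin 4)) := bb_mem (by revert i; decide)
    rw [y2 _ this]; exact g7.map g6.1 this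
  · obtain ⟨y, e⟩ := uB x
    have k : ∀ v, ρ (f (m1 hF)) v = v → ρ (f y) v = v := fun v hv => by
      obtain ⟨v, rfl⟩ := (ρ u).surjective v
      change ρ (u * _ * u⁻¹) _ = _ at hv ⊢
      rw [act_mul, act_mul, act_inv rfl, (ρ u).injective.eq_iff] at hv ⊢
      exact fx01.1 ⟨y, rfl⟩ v ((D_pos h2).1 hv)
    refine ⟨f y, e, fun i hi => k _ ?_⟩
    obtain rfl | rfl : i = 0 ∨ i = 3 := by revert i; decide
    · rw [y1 _ (bb_mem (by simp)), g4, e0]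
    · rw [y2 _ (bb_mem (by simp)), g8, e3]
  · obtain ⟨y, hy, e⟩ := uC x
    refine ⟨y, e, fun i hi => fx23.1 hy _ ?_⟩
    have : bb i ∈ HJ F ({0, 1} : Set (Fin 4)) := bb_mem (by revert i; decide)
    rw [y1 _ this]; exact g3.map g2.1 this

theorem rec4 (hq : 3 ≤ q) (h2 : (2 : F) ≠ 0) (h3 : (3 : F) = 0) (Θ : SU 4 F q →* G)
    (hk : ∀ k, Θ k = 1 → k ∈ Subgroup.center (SU 4 F q) ∧ k ^ 4 = 1) (ψ ψ' : SU 3 F q →* G)
    (iα : Injective (ψ.comp (e01 hF))) (iβ : Injective (ψ.comp (e12 hF)))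
    (iα' : Injective (ψ'.comp (e01 hF))) (iγ : Injective (ψ'.comp (e12 hF)))
    (hr : (ψ.comp (e12 hF)).range = (ψ'.comp (e01 hF)).range) (l : ψ.range ≤ Θ.range)
    (l' : ψ'.range ≤ Θ.range) (hc : ∀ x y, Commute (ψ (e01 hF x)) (ψ' (e12 hF y))) :
    ∃ Θ' : SU 4 F q →* G, (Θ'.comp (em hF j01)).range = (ψ.comp (e01 hF)).range ∧
      (Θ'.comp (em hF j12)).range = (ψ.comp (e12 hF)).range ∧
      (Θ'.comp (em hF j23)).range = (ψ'.comp (e12 hF)).range := by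
  obtain ⟨a, b, a3, b3, ha, hb, e1, e2⟩ := braid_lift (hF := hF) hk h2 h3 (α := ψ.comp (e01 hF))
    (by rintro _ ⟨x, rfl⟩; exact l ⟨_, rfl⟩)
  obtain ⟨Y, hY⟩ := diag4 (hF := hF) hq h2 e2
    (fun e => m1_ne h2 (iα (by rw [← e1, e, map_one, map_one]))) fun h => nc1 h2 iβ fun z => by
      obtain ⟨y, hy⟩ := l ⟨e12 hF z, rfl⟩
      rw [← hy, ← show Θ _ = ψ (e01 hF (m1 hF)) from e1]
      exact (comm_of (J := Set.univ) (J' := ∅) (by simp) (fun v _ => h v) (fun v hv => by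
        rw [h]; exact neg_mem hv) (fun _ _ _ h => (h trivial).elim) fun v hv => by
          rw [show v = 0 from funext fun i => hv i id, map_zero]).map Θ
  have s : Θ.range ≤ (Θ.comp (MulAut.conj Y).toMonoidHom).range := by
    rintro _ ⟨x, rfl⟩
    exact ⟨Y⁻¹ * x * Y, congrArg Θ (by simp [mul_assoc])⟩
  have k : ∀ x, (Θ.comp (MulAut.conj Y).toMonoidHom) (Y⁻¹ * x * Y⁻¹⁻¹) = Θ x := fun x =>
    congrArg Θ (by simp [mul_assoc])
  refine rec4' hq h2 h3 (Θ.comp (MulAut.conj Y).toMonoidHom) (fun x hx => ?_) ψ ψ' iα iβ iα' iγ hr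
    (l.trans s) (l'.trans s) hc (a := Y⁻¹ * a * Y⁻¹⁻¹) (b := Y⁻¹ * b * Y⁻¹⁻¹)
    (by rw [conj_pow, a3]; group) (by rw [conj_pow, b3]; group) (by rwa [k]) (by rwa [k])
    ((congrArg Θ hY).trans e1) (by
      rw [show Y⁻¹ * a * Y⁻¹⁻¹ * (Y⁻¹ * b * Y⁻¹⁻¹) = Y⁻¹ * (a * b) * Y⁻¹⁻¹ by group, conj_pow, ← hY]
      group)
  obtain ⟨h4, h5⟩ := hk _ hx
  have : Y * x * Y⁻¹ = x := by
    have := Subgroup.mem_center_iff.1 h4 Y
    simp only [MulEquiv.toMonoidHom_eq_coe, MonoidHom.coe_coe, MulAut.conj_apply,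
      inv_mul_cancel_right] at this
    exact mul_left_cancel this
  simp only [MulEquiv.toMonoidHom_eq_coe, MonoidHom.coe_coe, MulAut.conj_apply, this] at h4 h5
  exact ⟨h4, h5⟩

end Lead.Pha
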