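import Cfsg.Agent.Lead.Phb4

/-! Phan's theorem for `q = 3`, part 5: matching. -/

set_option autoImplicit false
set_option linter.unusedSectionVars false
set_option maxHeartbeats 800000

namespace Lead.Pha
open H23 (conj conj_conj)
open Matrix Cfsg Function

variable {F : Type*} [Field F] [Fintype F] {G : Type*} [Group G]

theorem k012 : Injective (![0, 1, 2] : Fin 3 → Fin 4) := by decide
theorem k123 : Injective (![1, 2, 3] : Fin 3 → Fin 4) := by decide

section
variable {q : ℕ} (hF : Fintype.card F = q ^ 2)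

theorem ec1 (x : SU 2 F q) : em hF k012 (e01 hF x) = em hF j01 x :=
  su_ext ((emM_comp _ _ _).trans (by congr 1; decide))
theorem ec2 (x : SU 2 F q) : em hF k012 (e12 hF x) = em hF j12 x :=
  su_ext ((emM_comp _ _ _).trans (by congr 1; decide))
theorem ec3 (x : SU 2 F q) : em hF k123 (e01 hF x) = em hF j12 x :=
  su_ext ((emM_comp _ _ _).trans (by congr 1; decide))
theorem ec4 (x : SU 2 F q) : em hF k123 (e12 hF x) = em hF j23 x :=
  su_ext ((emM_comp _ _ _).trans (by congr 1; decide))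

theorem tw_em {k N : ℕ} {f : Fin k → Fin N} (hf : Injective f) (δ : Fin N → F)
    (hδ : ∀ i, conj hF (δ i) * δ i = 1) (σ : F →+* F) {ε : Fin k → F}
    (hε : ∀ i, conj hF (ε i) * ε i = 1) {c : F} (hc : conj hF c * c = 1) (h : ∀ i, δ (f i) = c * ε i)
    (x : SU k F q) : tw hF δ hδ σ (em hF hf x) = em hF hf (tw hF ε hε σ x) := by
  obtain ⟨y, hy⟩ := (mem_em hF hf (tw hF δ hδ σ (em hF hf x))).2 (Fx_iff.2 fun i hi => funext fun j => by
    rw [p0_bb, tw_val, ← p0_bb, Fx_iff.1 ((mem_em hF hf _).1 ⟨x, rfl⟩) i hi]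
    by_cases e : j = i
    · simp [e, bb, mul_comm (δ i), hδ, -H23.conj_apply]
    · simp [e, bb])
  have k : ∀ (A : Matrix (Fin k) (Fin k) F) i j, emM f A (f i) (f j) = A i j := fun A i j => by
    simp [emM, PM, mul_apply, hf.eq_iff, one_apply]
  rw [← hy]
  congr 1
  refine su_ext ?_
  ext i j
  rw [← k y.1.1, ← em_val hF hf, hy, tw_val, tw_val, em_val, k, h, h, map_mul]
  linear_combination (ε i * σ (x.1.1 i j) * conj hF (ε j)) * hc

end

variable (hF : Fintype.card F = 3 ^ 2)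

theorem sig_eq {σ τ : F →+* F} (h : ∀ c, conj hF c * c = 1 → σ c = τ c) : σ = τ := by
  have k : ∀ a, conj hF a = a → σ a = τ a := fun a ha => by
    have : a * ((a - 1) * (a + 1)) = 0 := by
      rw [H23.conj_apply] at ha
      linear_combination ha
    rcases mul_eq_zero.1 this with h | h
    · simp [h]
    rcases mul_eq_zero.1 h with h | h
    · simp [sub_eq_zero.1 h]
    · simp [eq_neg_of_add_eq_zero_left h]
  obtain ⟨c, c1, c2⟩ := exists_lam3 hF le_rfl
  have c3 := sub_ne_zero.2 c2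
  have c4 := sub_ne_zero.2 c2.symm
  ext a
  have e1 := k ((conj hF a - a) / (conj hF c - c)) (by
    rw [map_div₀, map_sub, map_sub, conj_conj, conj_conj]; field_simp; ring)
  have e2 := k (a - (conj hF a - a) / (conj hF c - c) * c) (by
    rw [map_sub, map_mul, map_div₀, map_sub, map_sub, conj_conj, conj_conj]; field_simp; ring)
  rw [map_sub, map_sub, map_mul, map_mul, e1, h c c1] at e2
  exact sub_left_injective e2

theorem matching4 (Θ Θ' : SU 4 F 3 →* G) (i1 : Injective (Θ.comp (em hF j12)))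
    (i2 : Injective (Θ.comp (em hF j23))) (i3 : Injective (Θ'.comp (em hF j01)))
    (i4 : Injective (Θ'.comp (em hF j12)))
    (r1 : (Θ.comp (em hF j12)).range = (Θ'.comp (em hF j01)).range)
    (r2 : (Θ.comp (em hF j23)).range = (Θ'.comp (em hF j12)).range) : ∃ Θ'' : SU 4 F 3 →* G,
      Θ''.comp (em hF j01) = Θ.comp (em hF j12) ∧ Θ''.comp (em hF j12) = Θ.comp (em hF j23) ∧
      (Θ''.comp (em hF j23)).range = (Θ'.comp (em hF j23)).range := by
  have a1 : ∀ Θ : SU 4 F 3 →* G, (Θ.comp (em hF k012)).comp (e01 hF) = Θ.comp (em hF j01) :=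
    fun Θ => MonoidHom.ext fun x => congrArg Θ (ec1 hF x)
  have a2 : ∀ Θ : SU 4 F 3 →* G, (Θ.comp (em hF k012)).comp (e12 hF) = Θ.comp (em hF j12) :=
    fun Θ => MonoidHom.ext fun x => congrArg Θ (ec2 hF x)
  have a3 : ∀ Θ : SU 4 F 3 →* G, (Θ.comp (em hF k123)).comp (e01 hF) = Θ.comp (em hF j12) :=
    fun Θ => MonoidHom.ext fun x => congrArg Θ (ec3 hF x)
  have a4 : ∀ Θ : SU 4 F 3 →* G, (Θ.comp (em hF k123)).comp (e12 hF) = Θ.comp (em hF j23) :=
    fun Θ => MonoidHom.ext fun x => congrArg Θ (ec4 hF x)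
  have cm : ∀ x y, Commute (em hF j01 x) (em hF j23 y) := fun x y =>
    su_ext (emM_comm (by decide) _ _)
  obtain ⟨s, σ, hs, e1⟩ := matching0 hF le_rfl (Θ.comp (em hF k012)) (Θ'.comp (em hF k012))
    (by rwa [a2]) (by rwa [a1]) (by rwa [a2, a1]) fun x y => by
      obtain ⟨z, hz⟩ := r2.ge ⟨y, rfl⟩
      simp only [MonoidHom.comp_apply, ec1, ec2] at hz ⊢
      exact hz ▸ (cm x z).map Θ
  obtain ⟨t, τ, ht, e2⟩ := matching0 hF le_rfl (Θ.comp (em hF k123)) (Θ'.comp (em hF k123))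
    (by rwa [a4]) (by rwa [a3]) (by rwa [a4, a3]) fun x y => by
      obtain ⟨z, hz⟩ := r1.le ⟨x, rfl⟩
      simp only [MonoidHom.comp_apply, ec3, ec4] at hz ⊢
      exact hz ▸ (cm z y).map Θ'
  simp only [MonoidHom.comp_apply, ec1, ec2, ec3, ec4] at e1 e2
  obtain rfl : σ = τ := sig_eq hF fun c c1 => by
    have c2 : conj hF (σ c) * σ c = 1 := by rw [← map_conj, ← map_mul, c1, map_one]
    have k1 := congrArg (fun x => Θ (em hF k123 x)) (dg_e12 hF c1 (mk2 hF 0 1 (by simp)))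
    have k2 := congrArg (fun x => Θ' (em hF k012 x)) (dg_e12 hF c2
      (tw hF _ (t_one hF ht) τ (mk2 hF 0 1 (by simp))))
    have k3 : tw hF _ (t_one hF hs) σ (mk2 hF c 0 (by simpa using c1)) =
        mk2 hF (σ c) 0 (by simpa using c2) := su2_ext hF (by
      rw [tw_val]
      simp only [mk2, of_apply, cons_val', cons_val_zero, cons_val_fin_one]
      linear_combination σ c * hs) (by rw [tw_val]; simp [mk2])
    simp only [map_mul, ec1, ec2, ec3, ec4] at k1 k2
    rw [← e1, ← e2, ← e2, k3, k2, mul_left_inj] at k1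
    have := congrArg (·.1.1 0 1) (i4 k1)
    simp only [tw_val, mk2, of_apply, cons_val', cons_val_zero, cons_val_one, cons_val_fin_one,
      map_one, mul_one, RingHom.id_apply, map_conj] at this
    exact (conj hF).injective (mul_left_cancel₀ (right_ne_zero_of_mul_eq_one ht)
      (by linear_combination this))
  have t3 : ∀ i, conj hF (![s * t, t, 1, 1] i) * ![s * t, t, 1, 1] i = 1 := fun i => by
    fin_cases i <;> simp [ht, -H23.conj_apply]
    linear_combination (conj hF s * s) * ht + hs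
  have o : conj hF 1 * 1 = 1 := by simp
  refine ⟨Θ'.comp (tw hF _ t3 σ), MonoidHom.ext fun x => ?_, MonoidHom.ext fun x => ?_, ?_⟩
  · exact (congrArg Θ' (tw_em hF j01 _ t3 σ (t_one hF hs) ht
      (fun i => by fin_cases i <;> simp [mul_comm]) x)).trans (e1 x)
  · exact (congrArg Θ' (tw_em hF j12 _ t3 σ (t_one hF ht) o
      (fun i => by fin_cases i <;> simp) x)).trans (e2 x)
  · rw [show (Θ'.comp (tw hF _ t3 σ)).comp (em hF j23) = (Θ'.comp (em hF j23)).comp
      (tw hF _ (t_one hF o) σ) from MonoidHom.ext fun x => congrArg Θ' (tw_em hF j23 _ t3 σ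
        (t_one hF o) o (fun i => by fin_cases i <;> simp) x), MonoidHom.range_comp,
      MonoidHom.range_eq_top.2 (tw_sur hF _ _ σ), ← MonoidHom.range_eq_map]

include hF in
theorem phan3 {n : ℕ} (hn : 3 ≤ n) (U : Fin n → Subgroup G) (e : ∀ i, SU 2 F 3 ≃* U i)
    (h1 : ∀ i j : Fin n, (i : ℕ) + 2 ≤ j → ∀ x ∈ U i, ∀ y ∈ U j, x * y = y * x)
    (h2 : ∀ i j : Fin n, (i : ℕ) + 1 = j → ∃ ψ : SU 3 F 3 →* G, (ψ.comp (e01 hF)).range = U i ∧
      (ψ.comp (e12 hF)).range = U j)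
    (h4 : ∀ i j k : Fin n, (i : ℕ) + 1 = j → (j : ℕ) + 1 = k → ∃ Θ : SU 4 F 3 →* G,
      U i ⊔ U j ⊔ U k ≤ Θ.range) :
    ∃ Φ : SU (n + 1) F 3 →* G, ∀ i, U i ≤ Φ.range := by
  classical
  have h3 : (3 : F) = 0 := by
    have := FiniteField.cast_card_eq_zero F
    rw [hF, Nat.cast_pow] at this
    exact pow_eq_zero_iff two_ne_zero |>.1 this
  have h2' : (2 : F) ≠ 0 := fun e => one_ne_zero (α := F) (by linear_combination h3 - e)
  have inj : ∀ (f : SU 2 F 3 →* G) i, f.range = U i → Injective f := fun f i h =>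
    fun a b c => ((Nat.bijective_iff_surjective_and_card f.rangeRestrict).2
      ⟨f.rangeRestrict_surjective, h ▸ Nat.card_congr (e i).toEquiv⟩).1 (Subtype.ext c)
  have std : ∀ i j k : Fin n, (i : ℕ) + 1 = j → (j : ℕ) + 1 = k → ∃ Θ : SU 4 F 3 →* G,
      (Θ.comp (em hF j01)).range = U i ∧ (Θ.comp (em hF j12)).range = U j ∧
      (Θ.comp (em hF j23)).range = U k := fun i j k h h' => by
    obtain ⟨Θ, l⟩ := h4 i j k h h'
    obtain ⟨ψ, a, b⟩ := h2 i j h
    obtain ⟨ψ', a', b'⟩ := h2 j k h'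
    have r : ∀ ψ : SU 3 F 3 →* G, ψ.range = (ψ.comp (e01 hF)).range ⊔ (ψ.comp (e12 hF)).range :=
      fun ψ => by rw [MonoidHom.range_comp, MonoidHom.range_comp, ← Subgroup.map_sup,
        sup_range3 hF le_rfl, ← MonoidHom.range_eq_map]
    rw [← b', ← b, ← a]
    refine rec4 le_rfl h2' h3 Θ (fun x hx => ?_) ψ ψ' (inj _ _ a) (inj _ _ b) (inj _ _ a')
      (inj _ _ b') (by rw [b, a']) (by rw [r, a, b]; exact le_sup_left.trans l)
      (by rw [r, a', b']; exact (sup_le_sup_right le_sup_right _).trans l)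
      fun x y => h1 i k (by omega) _ (a ▸ ⟨x, rfl⟩) _ (b' ▸ ⟨y, rfl⟩)
    rcases H22.SU_normal_le_center_or_eq_top hF 4 (by omega) (by omega) Θ.ker inferInstance with c | c
    · refine ⟨c hx, congrArg Subtype.val (pow_card_eq_one' (x := (⟨x, c hx⟩ : Subgroup.center _)))
        |>.symm.symm |> fun h => ?_⟩
      rwa [H22.card_center_SU hF 4 (by omega)] at h
    · obtain ⟨y, hy⟩ := l (Subgroup.mem_sup_left (Subgroup.mem_sup_left (a.le ⟨m1 hF, rfl⟩)))
      exact (m1_ne h2' (inj _ _ a (hy.symm.trans ((c.ge trivial).trans (map_one _).symm)))).elim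
  have key : ∀ k, k + 2 < n → ∃ φ : Fin n → SU 2 F 3 →* G,
      (∀ i : Fin n, (i : ℕ) ≤ k + 2 → (φ i).range = U i) ∧ ∀ i j l : Fin n, (i : ℕ) + 1 = j →
        (j : ℕ) + 1 = l → (l : ℕ) ≤ k + 2 → ∃ Ψ : SU 4 F 3 →* G, Ψ.comp (em hF j01) = φ i ∧
          Ψ.comp (em hF j12) = φ j ∧ Ψ.comp (em hF j23) = φ l := by
    intro k hk
    induction k with
    | zero =>
      have n0 : 0 < n := by omega
      have n1 : 1 < n := by omega
      obtain ⟨ψ, a, b, c⟩ := std ⟨0, n0⟩ ⟨1, n1⟩ ⟨2, hk⟩ rfl rfl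
      refine ⟨fun i => if (i : ℕ) = 0 then ψ.comp (em hF j01) else if (i : ℕ) = 1 then
        ψ.comp (em hF j12) else ψ.comp (em hF j23), fun i hi => ?_, fun i j l h h' hj =>
        ⟨ψ, (if_pos (by omega)).symm, ((if_neg (by omega)).trans (if_pos (by omega))).symm,
          ((if_neg (by omega)).trans (if_neg (by omega))).symm⟩⟩
      dsimp only
      split_ifs with d d'
      · rw [a, show i = ⟨0, n0⟩ from Fin.ext d]
      · rw [b, show i = ⟨1, n1⟩ from Fin.ext d']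
      · rw [c, show i = ⟨2, hk⟩ from Fin.ext (show (i : ℕ) = 2 by omega)]
    | succ k ih =>
      obtain ⟨φ, r, s⟩ := ih (by omega)
      have l0 : k < n := by omega
      have l1 : k + 1 < n := by omega
      have l2 : k + 2 < n := by omega
      obtain ⟨ψ, -, a, b⟩ := s ⟨k, l0⟩ ⟨k + 1, l1⟩ ⟨k + 2, l2⟩ rfl rfl le_rfl
      obtain ⟨ψ', a', b', c'⟩ := std ⟨k + 1, l1⟩ ⟨k + 2, l2⟩ ⟨k + 3, hk⟩ rfl rfl
      have r1 := r ⟨k + 1, l1⟩ (Nat.le_succ _)
      have r2 := r ⟨k + 2, l2⟩ le_rfl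
      obtain ⟨ψ'', c1, c2, d⟩ := matching4 hF ψ ψ' (a ▸ inj _ _ r1) (b ▸ inj _ _ r2) (inj _ _ a')
        (inj _ _ b') (by rw [a, r1, a']) (by rw [b, r2, b'])
      refine ⟨update φ ⟨k + 3, hk⟩ (ψ''.comp (em hF j23)), fun i hi => ?_, fun i j l h h' hj => ?_⟩
      · by_cases c : i = ⟨k + 3, hk⟩
        · rw [c, update_self, d, c']
        · rw [update_of_ne c]
          exact r i (by simp [Fin.ext_iff] at c; omega)
      · rw [update_of_ne (show i ≠ ⟨k + 3, hk⟩ by simp [Fin.ext_iff]; omega),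
          update_of_ne (show j ≠ ⟨k + 3, hk⟩ by simp [Fin.ext_iff]; omega)]
        by_cases c' : l = ⟨k + 3, hk⟩
        · obtain rfl : i = ⟨k + 1, l1⟩ := by simp [Fin.ext_iff] at c' ⊢; omega
          obtain rfl : j = ⟨k + 2, l2⟩ := by simp [Fin.ext_iff] at c' ⊢; omega
          exact ⟨ψ'', c1.trans a, c2.trans b, by rw [c', update_self]⟩
        · rw [update_of_ne c']
          exact s i j l h h' (by simp [Fin.ext_iff] at c'; omega)
  obtain ⟨φ, r, s⟩ := key (n - 3) (by omega)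
  have r' : ∀ i, (φ i).range = U i := fun i => r i (by omega)
  obtain ⟨Φ, hΦ⟩ := final3 hF le_rfl hn φ (fun i j l h h' => s i j l h h' (by omega))
    fun i j h x y => h1 i j h _ (r' i ▸ ⟨x, rfl⟩) _ (r' j ▸ ⟨y, rfl⟩)
  exact ⟨Φ, fun i => r' i ▸ hΦ i⟩

end Lead.Pha
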