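import Cfsg.Agent.Lead.Phb5

/-! Phan's theorem for `q = 2`, part 1: the induction step. -/

set_option autoImplicit false
set_option linter.unusedSectionVars false
set_option maxHeartbeats 400000

namespace Lead.Pha
open H23 (conj conj_conj)
open Matrix Cfsg Function

variable {N q : ℕ} {F : Type*} [Field F] [Fintype F] {hF : Fintype.card F = q ^ 2}
  {K : Type*} [Group K] {π : K →* ((Fin N → F) ≃ₗ[F] (Fin N → F))}

local notation "⟪" u ", " v "⟫" => hm hF u v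
local notation "V" => Fin N → F

theorem perp3 (u : Fin 3 → F) : ∃ z, ⟪z, z⟫ = 1 ∧ ⟪z, u⟫ = 0 := by
  by_cases c1 : ⟪u, u⟫ = 0
  · by_cases c4 : u = 0
    · exact ⟨bb 0, hm_bb hF _, by simp [c4]⟩
    obtain ⟨i, hi⟩ := Function.ne_iff.1 c4
    obtain ⟨a, a1, -, a3⟩ := cross (hF := hF) u (bb i)
    have n : ⟪u, bb i⟫ ≠ 0 := fun e => hi ((hm_l hF i u).symm.trans (hm_zero hF e))
    obtain ⟨c, -, -, hc⟩ := scale (hF := hF) (v := a) (by
      rw [a3, c1, zero_mul, zero_sub, neg_ne_zero]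
      exact mul_ne_zero n fun e => n (hm_zero hF e))
    exact ⟨_, hc, by simp [hm_zero hF a1]⟩
  · obtain ⟨c, c0, -, hc⟩ := scale (hF := hF) c1
    obtain ⟨g, g1, -, e⟩ := witt (J := Set.univ) (p := 0) (r := 1) trivial trivial (by decide)
      (fun _ h => (h trivial).elim) hc
    refine ⟨g (bb 1), by rw [g1.1, hm_bb], ?_⟩
    rw [← smul_inv_smul₀ c0 u, ← e, map_smul, g1.1, hm_ne hF (by decide), smul_zero]

theorem nbr {a b c : Fin N} (ab : a ≠ b) (ac : a ≠ c) (bc : b ≠ c) (x : V) :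
    ∃ z ∈ HJ F {a, b, c}, ⟪z, z⟫ = 1 ∧ ⟪z, x⟫ = 0 := by
  obtain ⟨w, w1, w2⟩ := perp3 (hF := hF) ![x a, x b, x c]
  refine ⟨w 0 • bb a + w 1 • bb b + w 2 • bb c, add_mem (add_mem (Submodule.smul_mem _ _
    (bb_mem (by simp))) (Submodule.smul_mem _ _ (bb_mem (by simp))))
    (Submodule.smul_mem _ _ (bb_mem (by simp))), ?_, ?_⟩
  · rw [← w1, hm_eq hF w]
    simp [Fin.sum_univ_three, -H23.conj_apply, hm_ne hF ab, hm_ne hF ab.symm, hm_ne hF ac,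
      hm_ne hF ac.symm, hm_ne hF bc, hm_ne hF bc.symm, mul_comm]
  · rw [← w2, hm_eq hF w]
    simp [Fin.sum_univ_three, -H23.conj_apply, hm_l]

theorem frame2 {J : Set (Fin N)} {p r r' k m : Fin N} (hp : p ∈ J) (hr : r ∈ J)
    (hr' : r' ∈ J) (hk : k ∈ J) (pr : p ≠ r) (pr' : p ≠ r') (pk : p ≠ k) (rr : r ≠ r') (rk : r ≠ k)
    (rk' : r' ≠ k) (hm' : m ∉ J) {u v : V} (hu : u ∈ HJ F (insert m J)) (hv : v ∈ HJ F (insert m J))
    (u1 : ⟪u, u⟫ = 1) (v1 : ⟪v, v⟫ = 1) (h : Ad hF u v) (x : V) :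
    ∃ z ∈ HJ F (insert m J), ⟪z, z⟫ = 1 ∧ ⟪z, u⟫ = 0 ∧ ⟪z, v⟫ = 0 ∧ ⟪z, x⟫ = 0 := by
  obtain ⟨g, g1, g2, rfl⟩ := witt (Set.mem_insert _ _) (Set.mem_insert_of_mem _ hp)
    (fun e : m = p => hm' (e ▸ hp)) hu u1
  obtain ⟨v, rfl⟩ := g.surjective v
  have hv' : v ∈ HJ F (insert m J) := by simpa using g2.inv.map g1.1.inv hv
  obtain ⟨a, a1, a2, c, e, -⟩ := split hp hr pr hm' hv' (g1.1 v v ▸ v1) (g1.1.ad.1 h)
  have i := g1.1.mul a1.1
  have f := g2.mul (a2.mono (Set.subset_insert _ _))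
  obtain ⟨z, hz, z1, z2⟩ := nbr (hF := hF) rr rk rk' ((g * a)⁻¹ x)
  have o : ∀ i, i ∉ ({r, r', k} : Set _) → ⟪z, bb i⟫ = 0 := fun i hi =>
    hm_zero hF ((hm_l hF i z).trans (hz i hi))
  have om := o m (by rintro (rfl | rfl | rfl) <;> contradiction)
  have op := o p (by simp [pr, pr', pk])
  refine ⟨(g * a) z, f.map i (HJ_mono (by simp [Set.insert_subset_iff, hr, hr', hk]) hz),
    by rw [i, z1], ?_, ?_, by rwa [i.inv_r] at z2⟩
  · rw [← a2 _ (bb_mem hm'), ← LinearEquiv.mul_apply g a (bb m), i, om]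
  · rw [← e, ← LinearEquiv.mul_apply g a (_ + _), i]
    simp [om, op]

theorem dec2 {J : Set (Fin N)} {p r k : Fin N} (hp : p ∈ J) (hr : r ∈ J) (hk : k ∈ J) (pr : p ≠ r)
    (pk : p ≠ k) (rk : r ≠ k) {w : V} (hw : w ∈ HJ F J) :
    ∃ u, SI hF u ∧ Fx J u ∧ ∃ v ∈ HJ F {r, p}, u v = w := by
  by_cases c : w = 0
  · exact ⟨1, ⟨fun _ _ => rfl, LinearMap.det_id⟩, fun _ _ => rfl, 0, zero_mem _, c.symm⟩
  obtain ⟨c, hc⟩ := exists_nm hF (μ := ⟪w, w⟫ - 1) (by rw [map_sub, hm_conj, map_one])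
  obtain ⟨u, u1, u2, u3⟩ := witt' (hF := hF) (x := bb p + c • bb r) hk
    (add_mem (bb_mem hp) (Submodule.smul_mem _ _ (bb_mem hr))) hw
    (fun e => by simpa [bb, pr] using congrFun e p) ‹_› (by
      simp only [map_add, LinearMap.add_apply, map_smulₛₗ, LinearMap.smul_apply, smul_eq_mul,
        RingHom.id_apply, hm_bb, hm_ne hF pr, hm_ne hF pr.symm]
      linear_combination hc) (by simp [bb, pk.symm, rk.symm])
  exact ⟨u, u1, u2, _, add_mem (bb_mem (by simp)) (Submodule.smul_mem _ _ (bb_mem (by simp))), u3⟩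

theorem ad0 {u v : V} (h : ⟪u, v⟫ = 0) : Ad hF u v := by simp [Ad, h]

theorem ad2 (hq : ∀ a : F, a ≠ 0 → conj hF a * a = 1) {u v : V} (h : Ad hF u v) : ⟪u, v⟫ = 0 :=
  by_contra fun n => h (by rw [← hm_conj hF u v, mul_comm, hq _ n])

theorem sur4 {J : Set (Fin N)} {p r r' m : Fin N} (hp : p ∈ J) (hr : r ∈ J) (hr' : r' ∈ J)
    (pr : p ≠ r) (pr' : p ≠ r') (rr : r ≠ r') (hm' : m ∉ J) {A S : Subgroup K} (rA : Rep hF π A J)
    (rS : Rep hF π S {p, m}) {g : V ≃ₗ[F] V} (hi : SI hF g) (hg : Fx (insert m J) g) :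
    ∃ x ∈ A ⊔ S, π x = g := by
  have k : ∀ g, SI hF g → Fx (insert m J) g → Ad hF (bb m) (g (bb m)) → ∃ x ∈ A ⊔ S, π x = g :=
    fun g hi hg h => by
      obtain ⟨a, ha, s, hs, b, hb, -, -, e⟩ := cellK hp hr pr hm' rA.sur rS hi hg h
      exact ⟨_, mul_mem (mul_mem (Subgroup.mem_sup_left ha) (Subgroup.mem_sup_right hs))
        (Subgroup.mem_sup_left hb), e⟩
  obtain ⟨z, hz, z1, z2⟩ := nbr (hF := hF) pr pr' rr (g (bb m))
  have l : ({p, r, r'} : Set _) ⊆ J := by simp [Set.insert_subset_iff, hp, hr, hr']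
  obtain ⟨w, w1, w2, rfl⟩ := witt (Set.mem_insert _ _) (Set.mem_insert_of_mem _ hp)
    (fun e : m = p => hm' (e ▸ hp)) (HJ_mono (l.trans (Set.subset_insert m J)) hz) z1
  obtain ⟨x, hx, rfl⟩ := k w w1 w2 (ad0 ((hm_l hF _ _).trans (hz m fun c => hm' (l c))))
  obtain ⟨y, hy, e⟩ := k _ (w1.inv.mul hi) (w2.inv.mul hg)
    (ad0 (by rw [LinearEquiv.mul_apply, w1.1.inv_r, z2]))
  exact ⟨x * y, mul_mem hx hy, by rw [map_mul, e]; group⟩

variable (hF π) in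
/-- the data of the induction step -/
structure Str (J : Set (Fin N)) (p r r' k m : Fin N) (A S S' T : Subgroup K) : Prop where
  hq : ∀ a : F, a ≠ 0 → conj hF a * a = 1
  si : ∀ k, SI hF (π k)
  pJ : p ∈ J
  rJ : r ∈ J
  rJ' : r' ∈ J
  kJ : k ∈ J
  pr : p ≠ r
  pr' : p ≠ r'
  pk : p ≠ k
  rr : r ≠ r'
  rk : r ≠ k
  rk' : r' ≠ k
  mJ : m ∉ J
  rA : Rep hF π A J
  iA : Inj π A
  rS : Rep hF π S {p, m}
  rS' : Rep hF π S' {r', r, p}
  le : S' ≤ A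
  rT : Rep hF π T {r, p, m}
  lT : S ≤ T
  iS : Inj π (S' ⊔ T)
  c : ∀ a ∈ A, π a (bb p) = bb p → ∀ s ∈ S, Commute a s
  c2 : ∀ a ∈ A, π a (bb r) = bb r → π a (bb p) = bb p → ∀ s ∈ T, Commute a s

namespace Str
variable {J : Set (Fin N)} {p r r' k m : Fin N} {A S S' T : Subgroup K}
  (h : Str hF π J p r r' k m A S S' T)
include h

local notation "e" => (bb m : V)
local notation "e'" => (bb p : V)

theorem pm : p ≠ m := fun c => h.mJ (c ▸ h.pJ)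
theorem rm : r ≠ m := fun c => h.mJ (c ▸ h.rJ)
theorem iso (k : K) : Iso hF (π k) := (h.si k).1
theorem ae {a : K} (ha : a ∈ A) : π a e = e := h.rA.sat a ha _ (bb_mem h.mJ)
theorem un (x : K) (i : Fin N) : ⟪π x (bb i), π x (bb i)⟫ = 1 := by rw [h.iso, hm_bb]

theorem coef {s : K} (hs : s ∈ S) : ∃ α β : F, π s e = α • e + β • e' ∧
    conj hF α * α + conj hF β * β = 1 ∧ (Ad hF e (π s e) → β ≠ 0) := by
  have k := eq_pair h.pm ((h.rS.sat s hs).map (h.iso s) (bb_mem (i := m) (by simp)))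
  have u := h.un s m
  generalize π s e m = α, π s e p = β at k
  rw [k] at u ⊢
  simp only [map_add, LinearMap.add_apply, map_smulₛₗ, LinearMap.smul_apply, smul_eq_mul,
    RingHom.id_apply, hm_bb, hm_ne hF h.pm, hm_ne hF h.pm.symm] at u
  refine ⟨_, _, rfl, by linear_combination u, fun c d => c ?_⟩
  simp only [map_add, LinearMap.add_apply, map_smulₛₗ, LinearMap.smul_apply, smul_eq_mul,
    RingHom.id_apply, hm_bb, hm_ne hF h.pm, hm_ne hF h.pm.symm, d, map_zero] at u ⊢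
  linear_combination u

/-- the big cell -/
def K0 (_ : Str hF π J p r r' k m A S S' T) (x : K) : Prop :=
  ∃ a ∈ A, ∃ s ∈ S, ∃ b ∈ A, Ad hF e (π s e) ∧ x = a * s * b

theorem ad_bi {a b : K} (ha : a ∈ A) (hb : b ∈ A) (x : K) :
    Ad hF e (π (a * x * b) e) ↔ Ad hF e (π x e) := by
  rw [act_mul, act_mul, h.ae hb]
  nth_rewrite 1 [← h.ae ha]
  exact (h.iso a).ad

theorem K0_ad {x : K} (hx : h.K0 x) : Ad hF e (π x e) := by
  obtain ⟨a, ha, s, -, b, hb, c, rfl⟩ := hx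
  exact (h.ad_bi ha hb s).2 c

theorem K0_all {x : K} (hx : h.K0 x) : x ∈ A ⊔ S := by
  obtain ⟨a, ha, s, hs, b, hb, -, rfl⟩ := hx
  exact mul_mem (mul_mem (Subgroup.mem_sup_left ha) (Subgroup.mem_sup_right hs))
    (Subgroup.mem_sup_left hb)

theorem K0_inv {x : K} (hx : h.K0 x) : h.K0 x⁻¹ := by
  obtain ⟨a, ha, s, hs, b, hb, c, rfl⟩ := hx
  exact ⟨_, inv_mem hb, _, inv_mem hs, _, inv_mem ha, (ad_inv (h.iso s) _ _).2 c.symm, by group⟩

theorem K0_bi {a b x : K} (ha : a ∈ A) (hb : b ∈ A) (hx : h.K0 x) : h.K0 (a * x * b) := by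
  obtain ⟨a', ha', s, hs, b', hb', c, rfl⟩ := hx
  exact ⟨_, mul_mem ha ha', s, hs, _, mul_mem hb' hb, c, by group⟩

theorem K0_S {s : K} (hs : s ∈ S) (c : Ad hF e (π s e)) : h.K0 s :=
  ⟨1, one_mem _, s, hs, 1, one_mem _, c, by group⟩

theorem K0_sur {g : V ≃ₗ[F] V} (hi : SI hF g) (hg : Fx (insert m J) g) (c : Ad hF e (g e)) :
    ∃ x, h.K0 x ∧ π x = g := by
  obtain ⟨a, ha, s, hs, b, hb, -, -, rfl⟩ := cellK h.pJ h.rJ h.pr h.mJ h.rA.sur h.rS hi hg c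
  exact ⟨_, ⟨a, ha, s, hs, b, hb, (h.ad_bi ha hb s).1 c, rfl⟩, rfl⟩

theorem fxB {b : K} (hb : b ∈ S' ⊔ T) : Fx (insert m {r', r, p}) (π b) :=
  (sup_le (fun a ha => (h.rS'.sat a ha).mono (Set.subset_insert _ _)) fun s hs =>
    (h.rT.sat s hs).mono (by simp [Set.insert_subset_iff]) : _ ≤ FxS π _) hb

theorem K0_inj {x y : K} (hx : h.K0 x) (hy : h.K0 y) (c : π x = π y) : x = y := by
  obtain ⟨a1, ha1, s1, hs1, b1, hb1, c1, rfl⟩ := hx
  obtain ⟨a2, ha2, s2, hs2, b2, hb2, -, rfl⟩ := hy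
  have ha := mul_mem (inv_mem ha2) ha1
  have k : π (a2⁻¹ * a1 * s1) e = π s2 e := by
    have := LinearEquiv.congr_fun c e
    simp only [act_mul, h.ae hb1, h.ae hb2] at this
    rw [act_mul, act_mul, this]; exact act_inv rfl
  set a := a2⁻¹ * a1 with ea
  obtain ⟨α1, β1, e1, -, n1⟩ := h.coef hs1
  obtain ⟨α2, β2, e2, -, -⟩ := h.coef hs2
  have m1 : π a e' ∈ HJ F {r', r, p} := fun i hi => by
    by_cases d : i = m
    · exact d ▸ (h.rA.sat a ha).map (h.iso a) (bb_mem h.pJ) m h.mJ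
    · have := congrFun k i
      rw [act_mul, e1, e2, map_add, map_smul, map_smul, h.ae ha] at this
      have d' : i ≠ p := fun c => hi (by simp [c])
      simpa [bb, d, d', n1 c1] using this
  obtain ⟨g, g1, g2, g3⟩ := witt (J := {r', r, p}) (p := p) (r := r) (by simp) (by simp) h.pr m1
    (h.un a p)
  obtain ⟨d, hd, rfl⟩ := h.rS'.sur g g1 g2
  have m2 := mul_mem (inv_mem (h.le hd)) ha
  have cm := (h.c _ m2 (by rw [act_mul]; exact act_inv g3) s1 hs1).eq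
  have m3 : s2⁻¹ * d * s1 ∈ S' ⊔ T := mul_mem (mul_mem (inv_mem (Subgroup.mem_sup_right (h.lT hs2)))
    (Subgroup.mem_sup_left hd)) (Subgroup.mem_sup_right (h.lT hs1))
  have e3 : s2⁻¹ * d * s1 = s2⁻¹ * (a * s1) * (d⁻¹ * a)⁻¹ := by
    calc _ = s2⁻¹ * d * (s1 * (d⁻¹ * a)) * (d⁻¹ * a)⁻¹ := by group
      _ = _ := by rw [← cm]; group
  obtain ⟨t, ht, et⟩ := h.rS'.sur _ (h.si _) ((h.fxB m3).erase (m := m)
    (fun k hk c => hk.resolve_left c) (by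
      rw [e3, act_mul, act_mul, h.ae (inv_mem m2), k]; exact act_inv rfl))
  have e4 := h.iS.eq (Subgroup.mem_sup_left ht) m3 et
  have e5 : (a2 * s2 * b2)⁻¹ * (a1 * s1 * b1) = b2⁻¹ * t * (d⁻¹ * a) * b1 := by
    rw [e4, e3, ea]; group
  have := h.iA _ (mul_mem (mul_mem (mul_mem (inv_mem hb2) (h.le ht)) m2) hb1)
    (by rw [← e5, map_mul, map_inv, c, inv_mul_cancel])
  exact (inv_mul_eq_one.1 (e5.trans this)).symm

theorem K0_B {b : K} (hb : b ∈ S' ⊔ T) (c : Ad hF e (π b e)) : h.K0 b := by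
  obtain ⟨a, ha, s, hs, a', ha', -, -, k⟩ := cellK (J := {r', r, p}) (r := r) (by simp) (by simp) h.pr
    (by simp [h.pm.symm, h.rm.symm, show m ≠ r' from fun c => h.mJ (c ▸ h.rJ')]) h.rS'.sur h.rS (h.si b) (h.fxB hb) c
  obtain rfl := h.iS.eq (mul_mem (mul_mem (Subgroup.mem_sup_left ha) (Subgroup.mem_sup_right (h.lT hs)))
    (Subgroup.mem_sup_left ha')) hb k
  exact ⟨a, h.le ha, s, hs, a', h.le ha', (h.ad_bi (h.le ha) (h.le ha') s).1 c, rfl⟩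

theorem K0_mul {x y : K} (hx : h.K0 x) (hy : h.K0 y) (c : Ad hF e (π (x * y) e)) :
    h.K0 (x * y) := by
  obtain ⟨a1, ha1, s1, hs1, b1, hb1, -, rfl⟩ := hx
  obtain ⟨a2, ha2, s2, hs2, b2, hb2, -, rfl⟩ := hy
  have ha := mul_mem hb1 ha2
  set a := b1 * a2 with ea
  obtain ⟨u, t, u', u1, f1, t1, t2, u2, f2, k⟩ := dec3 h.pJ h.rJ h.rJ' h.kJ h.pr h.pr' h.pk h.rr
    h.rk h.rk' (h.si a) (h.rA.sat a ha)
  obtain ⟨u, hu, rfl⟩ := h.rA.sur u u1 (f1.mono Set.diff_subset)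
  obtain ⟨u', hu', rfl⟩ := h.rA.sur u' u2 (f2.mono Set.diff_subset)
  obtain ⟨t, ht, rfl⟩ := h.rS'.sur t t1 t2
  rw [← map_mul, ← map_mul, eq_comm] at k
  have k := h.iA.eq (mul_mem (mul_mem hu (h.le ht)) hu') ha k
  have c1 := (h.c u hu (f1 _ (bb_mem (by simp))) s1 hs1).eq
  have c2 := (h.c u' hu' (f2 _ (bb_mem (by simp))) s2 hs2).eq
  have e1 : a1 * s1 * b1 * (a2 * s2 * b2) = a1 * u * (s1 * t * s2) * (u' * b2) := by
    calc _ = a1 * s1 * a * s2 * b2 := by rw [ea]; group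
      _ = a1 * (s1 * u) * t * (u' * s2) * b2 := by rw [← k]; group
      _ = _ := by rw [← c1, c2]; group
  rw [e1] at c ⊢
  rw [h.ad_bi (mul_mem ha1 hu) (mul_mem hu' hb2)] at c
  exact h.K0_bi (mul_mem ha1 hu) (mul_mem hu' hb2) (h.K0_B (mul_mem (mul_mem
    (Subgroup.mem_sup_right (h.lT hs1)) (Subgroup.mem_sup_left ht))
    (Subgroup.mem_sup_right (h.lT hs2))) c)

theorem K0_to {z : V} (hz : z ∈ HJ F (insert m J)) (z1 : ⟪z, z⟫ = 1) (c : Ad hF z e) :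
    ∃ x, h.K0 x ∧ π x e = z := by
  obtain ⟨g, h1, h2, h3⟩ := witt (Set.mem_insert _ _) (Set.mem_insert_of_mem _ h.pJ) h.pm.symm hz z1
  obtain ⟨x, hx, rfl⟩ := h.K0_sur h1 h2 (h3 ▸ c.symm)
  exact ⟨x, hx, h3⟩

theorem all_mem {x : K} (hx : x ∈ A ⊔ S) : π x e ∈ HJ F (insert m J) :=
  Fx.map (fx_sup h.pJ h.rA h.rS hx) (h.iso x) (bb_mem (Set.mem_insert _ _))

theorem ad_mul (x y : K) : Ad hF e (π (x⁻¹ * y) e) ↔ Ad hF (π x e) (π y e) := by
  rw [act_mul, ad_inv (h.iso x)]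

theorem same_e {x y : K} (hx : h.K0 x) (hy : h.K0 y) (c : π x e = π y e) : ∃ a ∈ A, y = x * a := by
  obtain ⟨a, ha, ea⟩ := h.rA.sur _ (h.si (x⁻¹ * y)) (Fx.erase (m := m)
    (fun k hk c => hk.resolve_left c) (fx_sup h.pJ h.rA h.rS (mul_mem (inv_mem (h.K0_all hx))
      (h.K0_all hy))) (by rw [act_mul]; exact act_inv c))
  refine ⟨a, ha, h.K0_inj hy (one_mul x ▸ h.K0_bi (one_mem _) ha hx) ?_⟩
  rw [map_mul, ea, ← map_mul, mul_inv_cancel_left]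

theorem T_dec {v : V} (hv : v ∈ HJ F (J \ {r, p})) (v1 : ⟪v, v⟫ = 1) {t : K} (ht : t ∈ T) :
    ∃ x, h.K0 x ∧ π x e = v ∧ h.K0 (x⁻¹ * t) := by
  have n : m ≠ r' := fun c => h.mJ (c ▸ h.rJ')
  obtain ⟨g, g1, g2, rfl⟩ := witt (J := J \ {r, p}) (p := r') (r := k) ⟨h.rJ', by simp [h.rr.symm, h.pr'.symm]⟩
    ⟨h.kJ, by simp [h.rk.symm, h.pk.symm]⟩ h.rk' hv v1
  obtain ⟨a, ha, rfl⟩ := h.rA.sur g g1 (g2.mono Set.diff_subset)
  obtain ⟨g, g3, g4, g5⟩ := witt (hF := hF) (J := insert m {r', r, p}) (p := m) (r := p) (by simp)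
    (by simp) h.pm.symm (bb_mem (i := r') (by simp)) (hm_bb hF _)
  have d : Ad hF e (g e) := ad0 (by rw [g5, hm_ne hF n])
  obtain ⟨a1, h1, s, hs, a2, h2, -, -, rfl⟩ := cellK (J := {r', r, p}) (r := r) (by simp) (by simp)
    h.pr (by simp [h.pm.symm, h.rm.symm, n]) h.rS'.sur h.rS g3 g4 d
  have m1 : a1 * s * a2 ∈ S' ⊔ T := mul_mem (mul_mem (Subgroup.mem_sup_left h1)
    (Subgroup.mem_sup_right (h.lT hs))) (Subgroup.mem_sup_left h2)
  have k1 := h.K0_B m1 d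
  generalize a1 * s * a2 = y at *
  have m2 := mul_mem (mul_mem (inv_mem m1) (Subgroup.mem_sup_right ht)) m1
  obtain ⟨b, hb, eb⟩ := h.rS'.sur _ (h.si _) ((h.fxB m2).erase (m := m)
    (fun k hk c => hk.resolve_left c) (by
      rw [act_mul, act_mul, g5, h.rT.sat t ht _ (bb_mem (by simp [h.rr.symm, h.pr'.symm, n.symm]))]
      exact act_inv g5))
  have e1 := h.iS.eq (Subgroup.mem_sup_left hb) m2 eb
  have cm := (h.c2 a ha (g2 _ (bb_mem (by simp))) (g2 _ (bb_mem (by simp))) t ht).inv_left.eq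
  refine ⟨a * y, mul_one (a * y) ▸ h.K0_bi ha (one_mem _) k1, by rw [act_mul, g5], ?_⟩
  have := h.K0_bi (h.le hb) (inv_mem ha) (h.K0_inv k1)
  rwa [e1, show y⁻¹ * t * y * y⁻¹ * a⁻¹ = y⁻¹ * (t * a⁻¹) by group, ← cm, ← mul_assoc,
    ← _root_.mul_inv_rev] at this

theorem triple {a b c : K} (ha : h.K0 a) (hb : h.K0 b) (hc : h.K0 c) :
    ∃ x y, h.K0 x ∧ h.K0 y ∧ a * b * c = x * y := by
  by_cases d : Ad hF e (π (a * b) e)
  · exact ⟨_, _, h.K0_mul ha hb d, hc, rfl⟩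
  have o1 := ad2 h.hq (h.K0_ad ha)
  have o2 : ⟪π a e, π (a * b) e⟫ = 0 := by rw [act_mul, h.iso]; exact ad2 h.hq (h.K0_ad hb)
  have o3 : ⟪π (a * b) e, π (a * b * c) e⟫ = 0 := by
    rw [act_mul (a * b), h.iso]; exact ad2 h.hq (h.K0_ad hc)
  have m1 := h.all_mem (h.K0_all ha)
  have m2 := h.all_mem (mul_mem (h.K0_all ha) (h.K0_all hb))
  have m3 := h.all_mem (mul_mem (mul_mem (h.K0_all ha) (h.K0_all hb)) (h.K0_all hc))
  have me : e ∈ HJ F (insert m J) := bb_mem (Set.mem_insert _ _)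
  have u1 := h.un a m
  have u2 := h.un (a * b) m
  have u3 := h.un (a * b * c) m
  have fr := fun x => frame2 h.pJ h.rJ h.rJ' h.kJ h.pr h.pr' h.pk h.rr h.rk h.rk' h.mJ me m1
    (hm_bb hF m) u1 (h.K0_ad ha) x
  rw [Ad, not_not] at d
  by_cases β : ⟪π (a * b * c) e, e⟫ = 0
  swap
  · obtain ⟨z, hz, z1, z2, z3, z4⟩ := fr (π (a * b) e)
    obtain ⟨u, hu, rfl⟩ := h.K0_to hz z1 (ad0 z2)
    obtain ⟨κ, hκ⟩ : ∃ κ, κ * (⟪e, π (a * b) e⟫ * ⟪π (a * b * c) e, e⟫) = ⟪π (a * b * c) e, π a e⟫ :=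
      ⟨_, div_mul_cancel₀ _ (mul_ne_zero (left_ne_zero_of_mul_eq_one d) β)⟩
    obtain ⟨x, hx, ex⟩ := h.K0_to (z := π a e + κ • (π (a * b) e - ⟪e, π (a * b) e⟫ • e))
      (add_mem m1 (Submodule.smul_mem _ _ (sub_mem m2 (Submodule.smul_mem _ _ me)))) (by
        simp only [map_add, map_sub, LinearMap.add_apply, LinearMap.sub_apply, map_smulₛₗ,
          LinearMap.smul_apply, smul_eq_mul, RingHom.id_apply, hm_bb, u1, u2, o1, o2,
          hm_zero hF o1, hm_zero hF o2, hm_conj]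
        linear_combination (-(conj hF κ * κ)) * d) (ad0 (hm_zero hF (by simp [o1])))
    have k1 := h.K0_mul (h.K0_inv hu) ha ((h.ad_mul _ _).2 (ad0 z3))
    have k2 := h.K0_mul k1 hb (by rw [mul_assoc]; exact (h.ad_mul _ _).2 (ad0 z4))
    have k3 := h.K0_mul (h.K0_inv hx) hu ((h.ad_mul _ _).2 (ad0 (hm_zero hF (by
      simp [-map_mul, ex, z2, z3, z4]))))
    have e1 : x⁻¹ * u * (u⁻¹ * a * b) = x⁻¹ * (a * b) := by group
    have k4 := h.K0_mul k3 k2 (e1 ▸ (h.ad_mul _ _).2 (ad0 (hm_zero hF (by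
      simp only [ex, map_add, map_sub, map_smul, smul_eq_mul, u2, hm_zero hF o2]
      linear_combination (-κ) * d))))
    have k5 := h.K0_mul k4 hc (by
      rw [e1, mul_assoc]
      refine (h.ad_mul _ _).2 (ad0 (hm_zero hF ?_))
      simp only [ex, map_add, map_sub, map_smul, smul_eq_mul, hm_zero hF o3]
      linear_combination -hκ)
    exact ⟨x, _, hx, k5, by group⟩
  by_cases ρ0 : π (a * b) e - π (a * b) e m • e = 0
  · obtain ⟨z, hz, z1, z2, z3, z4⟩ := fr (π (a * b * c) e)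
    obtain ⟨x, hx, rfl⟩ := h.K0_to hz z1 (ad0 z2)
    have k1 := h.K0_mul (h.K0_inv hx) ha ((h.ad_mul _ _).2 (ad0 z3))
    have k2 := h.K0_mul k1 hb (by
      rw [mul_assoc]; exact (h.ad_mul _ _).2 (ad0 (by rw [sub_eq_zero.1 ρ0]; simp [z2])))
    have k3 := h.K0_mul k2 hc (by
      rw [mul_assoc, mul_assoc, ← mul_assoc a]; exact (h.ad_mul _ _).2 (ad0 z4))
    exact ⟨x, _, hx, k3, by group⟩
  have hJ : ∀ v ∈ HJ F (insert m J), ⟪e, v⟫ = 0 → v ∈ HJ F J := fun v hv c => by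
    simpa [(hm_l hF m v).symm.trans c] using sub_mem_HJ hv
  obtain ⟨g, g1, g2, g3⟩ := witt h.rJ' h.kJ h.rk' (hJ _ m1 o1) u1
  obtain ⟨a0, ha0, rfl⟩ := h.rA.sur g g1 g2
  have m4 := (h.rA.sat _ (inv_mem ha0)).map (h.iso _) (sub_mem_HJ m2)
  obtain ⟨g, g4, g5, w, hw, g6⟩ := dec2 (hF := hF) (J := J \ {r'}) ⟨h.pJ, h.pr'⟩ ⟨h.rJ, h.rr⟩
    ⟨h.kJ, h.rk'.symm⟩ h.pr h.pk h.rk (w := π a0⁻¹ (π (a * b) e - π (a * b) e m • e)) fun i hi => by
      by_cases c : i = r'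
      · rw [← hm_l hF i (π a0⁻¹ _), map_inv, (h.iso a0).inv_r, c, g3]
        simp [-map_mul, o2, hm_zero hF o1]
      · exact m4 i fun d => hi ⟨d, c⟩
  obtain ⟨a1, ha1, rfl⟩ := h.rA.sur g g4 (g5.mono Set.diff_subset)
  have ha2 := mul_mem ha0 ha1
  have e1 : π (a0 * a1) (bb r') = π a e := by rw [act_mul, g5 _ (bb_mem (by simp)), g3]
  have e2 : π (a0 * a1) w = π (a * b) e - π (a * b) e m • e := by
    rw [act_mul, g6, ← act_mul, mul_inv_cancel, map_one]; rfl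
  generalize a0 * a1 = a2 at ha2 e1 e2
  have e3 : π a2 (π (a * b) e m • e + w) = π (a * b) e := by
    rw [map_add, map_smul, h.ae ha2, e2, add_sub_cancel]
  obtain ⟨g, g7, g8, g9⟩ := witt (hF := hF) (J := {r, p, m}) (p := m) (r := p) (by simp) (by simp)
    h.pm.symm (add_mem (Submodule.smul_mem _ (π (a * b) e m) (bb_mem (i := m) (by simp)))
      (HJ_mono (by simp [Set.insert_subset_iff]) hw)) (by rw [← h.iso a2, e3, u2])
  obtain ⟨t, ht, rfl⟩ := h.rT.sur g g7 g8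
  obtain ⟨y, ey⟩ := (π a2).surjective (π (a * b * c) e)
  have my : y ∈ HJ F J := act_inv ey ▸ (h.rA.sat _ (inv_mem ha2)).map (h.iso _)
    (hJ _ m3 (hm_zero hF β))
  have f1 : ⟪w, w⟫ = 0 := by
    rw [← h.iso a2, e2, ← hm_l hF m (π (a * b) e)]
    simp only [map_sub, LinearMap.sub_apply, map_smulₛₗ, LinearMap.smul_apply, smul_eq_mul,
      RingHom.id_apply, hm_bb, u2, hm_conj]
    linear_combination -d
  have f2 : ⟪w, y⟫ = 0 := by rw [← h.iso a2, e2, ey]; simp [-map_mul, o3, hm_zero hF β]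
  have f3 : conj hF (y r) * y r + conj hF (y p) * y p = 0 := by
    have ew := eq_pair h.pr.symm hw
    have n : w r ≠ 0 := fun c => ρ0 (by
      have : w p = 0 := by
        rw [ew, c] at f1
        simpa [-H23.conj_apply] using f1
      rw [← e2, ew, c, this]; simp)
    have f4 := hm_zero hF f2
    rw [ew] at f1 f2 f4
    generalize w r = α, w p = γ at f1 f2 f4 n
    simp only [map_add, LinearMap.add_apply, map_smulₛₗ, LinearMap.smul_apply, smul_eq_mul,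
      RingHom.id_apply, hm_bb, hm_ne hF h.pr, hm_ne hF h.pr.symm] at f1 f2 f4
    simp only [hm_l, ← hm_conj hF (bb _) y] at f2 f4
    refine mul_left_cancel₀ (mul_ne_zero n ((map_ne_zero (conj hF)).2 n)) ?_
    linear_combination (conj hF (y p) * y p) * f1 + (α * conj hF (y r)) * f2 -
      (conj hF γ * y p) * f4
  obtain ⟨g, g10, g11, g12⟩ := witt (hF := hF) (J := J \ {r, p}) (p := k) (r := r')
    ⟨h.kJ, by simp [h.rk.symm, h.pk.symm]⟩ ⟨h.rJ', by simp [h.rr.symm, h.pr'.symm]⟩ h.rk'.symm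
    (y := y - y r • bb r - y p • bb p) (fun i hi => by
      by_cases c1 : i = r
      · simp [c1, bb, h.pr.symm]
      by_cases c2 : i = p
      · simp [c2, bb, h.pr]
      · simp [bb, c1, c2, my i fun d => hi ⟨d, by simp [c1, c2]⟩]) (by
      have : ⟪y, y⟫ = 1 := by rw [← h.iso a2, ey, u3]
      simp only [map_sub, LinearMap.sub_apply, map_smulₛₗ, LinearMap.smul_apply, smul_eq_mul,
        RingHom.id_apply, hm_bb, hm_ne hF h.pr, hm_ne hF h.pr.symm, hm_l, ← hm_conj hF (bb _) y, this,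
        Pi.sub_apply, Pi.smul_apply]
      simp [bb, h.pr, h.pr.symm, -H23.conj_apply]
      linear_combination -f3)
  have mr : bb r' ∈ HJ F (J \ {r, p}) := bb_mem ⟨h.rJ', by simp [h.rr.symm, h.pr'.symm]⟩
  obtain ⟨x, hx, ex, kx⟩ := h.T_dec (g11.map g10.1 mr) (by rw [g10.1, hm_bb]) ht
  obtain ⟨x0, hx0, ex0, kx0⟩ := h.T_dec mr (hm_bb hF _) ht
  obtain ⟨a3, ha3, e4⟩ := h.same_e hx0 (h.K0_bi (inv_mem ha2) (one_mem _) ha)
    (by rw [ex0, mul_one, act_mul, act_inv e1])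
  have e5 : a = a2 * x0 * a3 := by rw [mul_assoc, ← e4]; group
  obtain ⟨a4, ha4, e6⟩ := h.same_e kx0 (h.K0_bi ha3 (one_mem _) hb) (by
    rw [show a3 * b * 1 = x0⁻¹ * (a2⁻¹ * (a * b)) by rw [e5]; group, act_mul, act_mul, act_mul a2⁻¹,
      act_inv e3, g9])
  have e7 : a * b * c = a2 * (t * (a4 * c * 1)) := by
    calc _ = a2 * x0 * (a3 * b * 1) * c := by rw [e5]; group
      _ = _ := by rw [e6]; group
  refine ⟨_, _, h.K0_bi ha2 (one_mem _) hx, h.K0_mul kx (h.K0_bi ha4 (one_mem _) hc) ?_,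
    by rw [e7]; group⟩
  rw [mul_assoc, h.ad_mul, ex, show π (t * (a4 * c * 1)) e = y from
    (π a2).injective (by rw [← act_mul, ← e7, ey])]
  have o : ∀ i ∈ ({r, p} : Set _), ⟪g (bb r'), bb i⟫ = 0 := fun i hi =>
    hm_zero hF ((hm_l hF i _).trans (g11.map g10.1 mr i fun d => d.2 hi))
  have := g10.1 (bb r') (bb k)
  rw [g12, hm_ne hF h.rk'] at this
  exact ad0 (by simpa [o r (by simp), o p (by simp)] using this)

theorem T_K2 {t : K} (ht : t ∈ T) : ∃ a b, h.K0 a ∧ h.K0 b ∧ t = a * b := by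
  obtain ⟨x, hx, -, k⟩ := h.T_dec (bb_mem (i := r') ⟨h.rJ', by simp [h.rr.symm, h.pr'.symm]⟩)
    (hm_bb hF _) ht
  exact ⟨x, _, hx, k, by group⟩

/-- products of two elements of the big cell -/
def K2 : Subgroup K where
  carrier := {x | ∃ a b, h.K0 a ∧ h.K0 b ∧ x = a * b}
  one_mem' := h.T_K2 (one_mem _)
  inv_mem' := by
    rintro _ ⟨a, b, ha, hb, rfl⟩
    exact ⟨_, _, h.K0_inv hb, h.K0_inv ha, by group⟩
  mul_mem' := by
    rintro _ _ ⟨a, b, ha, hb, rfl⟩ ⟨c, d, hc, hd, rfl⟩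
    obtain ⟨x, y, hx, hy, e1⟩ := h.triple ha hb hc
    obtain ⟨x', y', hx', hy', e2⟩ := h.triple hx hy hd
    exact ⟨x', y', hx', hy', by rw [← e2, ← e1]; group⟩

theorem all_inj : Inj π (A ⊔ T) := fun x hx c => by
  have l : A ≤ h.K2 := fun x hx => by
    obtain ⟨a, b, ha, hb, e1⟩ := h.K2.one_mem
    exact ⟨_, b, h.K0_bi hx (one_mem _) ha, hb, by rw [mul_one, mul_assoc, ← e1, mul_one]⟩
  obtain ⟨a, b, ha, hb, rfl⟩ := sup_le l (fun _ hs => h.T_K2 hs : T ≤ h.K2) hx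
  rw [h.K0_inj hb (h.K0_inv ha) (by rw [map_mul] at c; rw [map_inv, eq_inv_of_mul_eq_one_right c]),
    mul_inv_cancel]

end Str

end Lead.Pha
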