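import Cfsg.Agent.Lead.Phc1

/-! Phan's theorem for `q = 2`, part 2: the induction. -/

set_option autoImplicit false
set_option linter.unusedSectionVars false
set_option maxHeartbeats 800000

namespace Lead.Pha
open H23 (conj conj_conj)
open Matrix Cfsg Function
variable {n q : ℕ} {F : Type*} [Field F] [Fintype F] {hF : Fintype.card F = q ^ 2}
  {K : Type*} [Group K] {π : K →* ((Fin (n + 1) → F) ≃ₗ[F] (Fin (n + 1) → F))}

theorem main2 (hq : ∀ a : F, a ≠ 0 → conj hF a * a = 1) (si : ∀ k, SI hF (π k))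
    (U W : Fin n → Subgroup K) (rU : ∀ i, Rep hF π (U i) {i.castSucc, i.succ})
    (rW : ∀ i j : Fin n, (i : ℕ) + 1 = j → Rep hF π (W i) {i.castSucc, j.castSucc, j.succ})
    (l1 : ∀ i j : Fin n, (i : ℕ) + 1 = j → U i ≤ W i ∧ U j ≤ W i)
    (iW : ∀ i j k : Fin n, (i : ℕ) + 1 = j → (j : ℕ) + 1 = k → Inj π (W i ⊔ W j))
    (c0 : ∀ i j : Fin n, (i : ℕ) + 2 ≤ j → ∀ x ∈ U i, ∀ y ∈ U j, Commute x y)
    (c1 : ∀ i j k : Fin n, (j : ℕ) + 1 = k → ((i : ℕ) + 2 ≤ j ∨ (k : ℕ) + 2 ≤ i) →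
      ∀ x ∈ U i, ∀ y ∈ W j, Commute x y)
    (c2 : ∀ i k l : Fin n, (k : ℕ) + 1 = l → (i : ℕ) + 3 ≤ k → ∀ x ∈ W i, ∀ y ∈ W k, Commute x y)
    (hn : 3 ≤ n) (n0 : 0 < n) : Inj π (U ⟨0, n0⟩ ⊔ Gam W (n - 1)) ∧
      Rep hF π (U ⟨0, n0⟩ ⊔ Gam W (n - 1)) Set.univ := by
  have g0 : Gam W 0 = ⊥ := by simp [Gam]
  have n1 : 1 < n := by omega
  have g1 : U ⟨0, n0⟩ ⊔ Gam W 1 = W ⟨0, n0⟩ := by
    rw [show Gam W 1 = _ from Gam_succ W ⟨0, n0⟩, g0, bot_sup_eq,
      sup_eq_right.2 (l1 _ ⟨1, n1⟩ rfl).1]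
  have rp : ∀ k, k < n → Rep hF π (U ⟨0, n0⟩ ⊔ Gam W k) {j | (j : ℕ) ≤ k + 1} := fun k hk => by
    induction k with
    | zero =>
      rw [g0, sup_bot_eq, show {j : Fin (n + 1) | (j : ℕ) ≤ 0 + 1} = {(⟨0, hk⟩ : Fin n).castSucc,
        (⟨0, hk⟩ : Fin n).succ} by
          ext j
          simp only [Set.mem_setOf_eq, Set.mem_insert_iff, Set.mem_singleton_iff, Fin.ext_iff,
            Fin.val_castSucc, Fin.val_succ]
          omega]
      exact rU _
    | succ k ih =>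
      rcases k with _ | k
      · rw [g1, show {j : Fin (n + 1) | (j : ℕ) ≤ 0 + 1 + 1} = {(⟨0, n0⟩ : Fin n).castSucc,
          (⟨1, n1⟩ : Fin n).castSucc, (⟨1, n1⟩ : Fin n).succ} by
            ext j
            simp only [Set.mem_setOf_eq, Set.mem_insert_iff, Set.mem_singleton_iff, Fin.ext_iff,
              Fin.val_castSucc, Fin.val_succ]
            omega]
        exact rW _ _ rfl
      have l : k + 1 < n := by omega
      have i1 := ih l
      rw [show Gam W (k + 1 + 1) = _ from Gam_succ W ⟨k + 1, l⟩, ← sup_assoc, show {j : Fin (n + 1) |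
        (j : ℕ) ≤ k + 1 + 1 + 1} = insert (⟨k + 2, hk⟩ : Fin n).succ
          {j : Fin (n + 1) | (j : ℕ) ≤ k + 1 + 1} by
          ext j
          simp only [Set.mem_setOf_eq, Set.mem_insert_iff, Fin.ext_iff, Fin.val_succ]
          omega]
      refine ⟨fun x hx => (sup_le (fun a ha => (i1.sat a ha).mono (Set.subset_insert _ _)) fun s hs =>
        ((rW _ ⟨k + 2, hk⟩ rfl).sat s hs).mono (by simp [Set.insert_subset_iff]) : _ ≤ FxS π _) hx,
        fun g g1 g2 => ?_⟩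
      obtain ⟨x, hx, e⟩ := sur4 (r := (⟨k + 1, l⟩ : Fin n).castSucc) (r' := 0) (by simp) (by simp)
        (by simp) (by simp [Fin.ext_iff]) (by simp [Fin.ext_iff]) (by simp [Fin.ext_iff]) (by simp)
        i1 (rU ⟨k + 2, hk⟩) g1 g2
      exact ⟨x, sup_le_sup_left (l1 _ ⟨k + 2, hk⟩ rfl).2 _ hx, e⟩
  have cen : ∀ {X : Subgroup K} {s : K}, X ≤ Subgroup.centralizer {s} ↔ ∀ a ∈ X, Commute a s :=
    forall₂_congr fun _ _ => Subgroup.mem_centralizer_singleton_iff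
  have ij : ∀ k, k + 2 < n → Inj π (U ⟨0, n0⟩ ⊔ Gam W (k + 2)) := fun k hk => by
    induction k with
    | zero =>
      rw [show Gam W (0 + 2) = _ from Gam_succ W ⟨1, n1⟩, ← sup_assoc, g1]
      exact iW _ _ ⟨2, hk⟩ rfl rfl
    | succ k ih =>
      have l1' : k + 1 < n := by omega
      have l2 : k + 2 < n := by omega
      rw [show Gam W (k + 1 + 2) = _ from Gam_succ W ⟨k + 2, l2⟩, ← sup_assoc]
      have i1 := ih l2
      have up : ∀ j, j ≤ k + 2 → ∀ a ∈ U ⟨0, n0⟩ ⊔ Gam W (k + 2), Fx {i | (i : ℕ) ≤ j + 1} (π a) →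
          a ∈ U ⟨0, n0⟩ ⊔ Gam W j := fun j hj a ha c => by
        obtain ⟨b, hb, e⟩ := (rp j (by omega)).sur _ (si a) c
        exact i1.eq (sup_le_sup_left (iSup₂_le fun i hi => U_le W (by omega)) _ hb) ha e ▸ hb
      refine Str.all_inj (hF := hF) (J := {j | (j : ℕ) ≤ k + 3}) (p := (⟨k + 3, hk⟩ : Fin n).castSucc)
        (m := (⟨k + 3, hk⟩ : Fin n).succ) (r := (⟨k + 2, l2⟩ : Fin n).castSucc)
        (r' := (⟨k + 1, l1'⟩ : Fin n).castSucc) (k := 0) (S := U ⟨k + 3, hk⟩)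
        (S' := W ⟨k + 1, l1'⟩) ⟨hq, si, by simp, by simp, by simp, by simp,
        by simp [Fin.ext_iff], by simp [Fin.ext_iff], by simp [Fin.ext_iff], by simp [Fin.ext_iff],
        by simp [Fin.ext_iff], by simp [Fin.ext_iff], by simp, rp (k + 2) l2, i1, rU _,
        rW _ ⟨k + 2, l2⟩ rfl, le_sup_of_le_right (U_le W (by simp)), rW _ ⟨k + 3, hk⟩ rfl,
        (l1 _ _ rfl).2, iW _ _ ⟨k + 3, hk⟩ rfl rfl, fun a ha c s hs => ?_, fun a ha c c' s hs => ?_⟩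
      · refine cen.1 (sup_le (cen.2 fun x hx => c0 _ _ (by simp) x hx s hs) (iSup₂_le fun i hi =>
          cen.2 fun x hx => (c1 _ i ⟨i + 1, by omega⟩ rfl (Or.inr (by simp; omega)) s hs x hx).symm)) a
          (up (k + 1) (by omega) a ha (((rp (k + 2) l2).sat a ha).erase
            (fun j hj d => by simp [Fin.ext_iff] at hj d ⊢; omega) c))
      · refine cen.1 (sup_le (cen.2 fun x hx => c1 _ _ ⟨k + 3, hk⟩ rfl (Or.inl (by simp)) x hx s hs)
          (iSup₂_le fun i hi => cen.2 fun x hx => c2 i _ ⟨k + 3, hk⟩ rfl (by simp; omega) x hx s hs)) a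
          (up k (by omega) a ha ((((rp (k + 2) l2).sat a ha).erase (J := {j | (j : ℕ) ≤ k + 2})
            (fun j hj d => by simp [Fin.ext_iff] at hj d ⊢; omega) c').erase
            (fun j hj d => by simp [Fin.ext_iff] at hj d ⊢; omega) c))
  obtain ⟨k, rfl⟩ : ∃ k, n = k + 3 := ⟨n - 3, by omega⟩
  refine ⟨ij k (by omega), ?_⟩
  have := rp (k + 2) (by omega)
  rwa [show {j : Fin (k + 3 + 1) | (j : ℕ) ≤ k + 2 + 1} = Set.univ by
    ext j; simp; omega] at this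

variable (hF)

theorem final2 {G : Type*} [Group G] (hq : ∀ a : F, a ≠ 0 → conj hF a * a = 1) (hn : 3 ≤ n)
    (φ : Fin n → SU 2 F q →* G) (ψ : Fin n → SU 3 F q →* G)
    (h0 : ∀ i j : Fin n, (i : ℕ) + 1 = j → (ψ i).comp (e01 hF) = φ i ∧ (ψ i).comp (e12 hF) = φ j)
    (h1 : ∀ i j k : Fin n, (i : ℕ) + 1 = j → (j : ℕ) + 1 = k → ∃ Θ : SU 4 F q →* G,
      Θ.comp (em hF k012) = ψ i ∧ Θ.comp (em hF k123) = ψ j)
    (h2 : ∀ i j : Fin n, (i : ℕ) + 2 ≤ j → ∀ x y, Commute (φ i x) (φ j y))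
    (h3 : ∀ i j k : Fin n, (j : ℕ) + 1 = k → ((i : ℕ) + 2 ≤ j ∨ (k : ℕ) + 2 ≤ i) →
      ∀ x y, Commute (φ i x) (ψ j y))
    (h4 : ∀ i k l : Fin n, (k : ℕ) + 1 = l → (i : ℕ) + 3 ≤ k → ∀ x y, Commute (ψ i x) (ψ k y)) :
    ∃ Φ : SU (n + 1) F q →* G, ∀ i j : Fin n, (i : ℕ) + 1 = j → (ψ i).range ≤ Φ.range := by
  let π := (p0 (n + 1) q F).comp (MonoidHom.fst _ G)
  have fi : ∀ i : Fin n, Injective ![i.castSucc, i.succ] := fun i a b => by
    fin_cases a <;> fin_cases b <;> simp [Fin.ext_iff]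
  have gi : ∀ i j : Fin n, (i : ℕ) + 1 = j → Injective ![i.castSucc, j.castSucc, j.succ] :=
    fun i j h a b => by fin_cases a <;> fin_cases b <;> simp [Fin.ext_iff] <;> omega
  let U : Fin n → Subgroup (SU (n + 1) F q × G) := fun i => ((em hF (fi i)).prod (φ i)).range
  let W : Fin n → Subgroup (SU (n + 1) F q × G) := fun i =>
    ⨆ (j : Fin n) (h : (i : ℕ) + 1 = j), ((em hF (gi i j h)).prod (ψ i)).range
  have hW : ∀ i j h, W i = ((em hF (gi i j h)).prod (ψ i)).range := fun i j h =>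
    le_antisymm (iSup₂_le fun j' h' => by
      obtain rfl : j' = j := Fin.ext (by omega)
      exact le_rfl) (le_iSup₂_of_le j h le_rfl)
  have rp : ∀ {k : ℕ} {f : Fin k → Fin (n + 1)} (hf : Injective f) (χ : SU k F q →* G),
      Rep hF π ((em hF hf).prod χ).range (Set.range f) := fun hf χ => by
    refine ⟨?_, fun g g1 g2 => ?_⟩
    · rintro _ ⟨A, rfl⟩
      exact (mem_em hF hf _).1 ⟨A, rfl⟩
    · obtain ⟨X, rfl⟩ := p0_sur hF g1
      obtain ⟨A, rfl⟩ := (mem_em hF hf _).2 g2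
      exact ⟨_, ⟨A, rfl⟩, rfl⟩
  have n0 : 0 < n := by omega
  obtain ⟨i1, i2⟩ := main2 (hF := hF) (π := π) hq (fun k => p0_si hF k.1) U W (fun i => by
    have := rp (fi i) (φ i)
    rwa [show Set.range ![i.castSucc, i.succ] = {i.castSucc, i.succ} by simp [Set.pair_comm]] at this)
    (fun i j h => by
      have := rp (gi i j h) (ψ i)
      rwa [show Set.range ![i.castSucc, j.castSucc, j.succ] = {i.castSucc, j.castSucc, j.succ} by
        ext; simp; tauto, ← hW i j h] at this) (fun i j h => by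
      rw [hW i j h]
      constructor
      · rintro _ ⟨A, rfl⟩
        refine ⟨e01 hF A, Prod.ext (su_ext ((emM_comp _ _ _).trans ?_))
          (DFunLike.congr_fun (h0 i j h).1 A)⟩
        congr 1; ext a; fin_cases a <;> simp [h]
      · rintro _ ⟨A, rfl⟩
        refine ⟨e12 hF A, Prod.ext (su_ext ((emM_comp _ _ _).trans ?_))
          (DFunLike.congr_fun (h0 i j h).2 A)⟩
        congr 1; ext a; fin_cases a <;> rfl) (fun i j k h h' x hx c => by
    obtain ⟨Ψ, e1, e2⟩ := h1 i j k h h'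
    have g4 : Injective ![i.castSucc, j.castSucc, k.castSucc, k.succ] := fun a b => by
      fin_cases a <;> fin_cases b <;> simp [Fin.ext_iff] <;> omega
    have l : W i ⊔ W j ≤ ((em hF g4).prod Ψ).range := sup_le (by
      rw [hW i j h]
      rintro _ ⟨A, rfl⟩
      refine ⟨em hF k012 A, Prod.ext (su_ext ((emM_comp _ _ _).trans ?_)) (DFunLike.congr_fun e1 A)⟩
      congr 1; ext a; fin_cases a <;> simp [h']) (by
      rw [hW j k h']
      rintro _ ⟨A, rfl⟩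
      refine ⟨em hF k123 A, Prod.ext (su_ext ((emM_comp _ _ _).trans ?_)) (DFunLike.congr_fun e2 A)⟩
      congr 1; ext a; fin_cases a <;> rfl)
    obtain ⟨A, rfl⟩ := l hx
    rw [show A = 1 from em_inj hF g4 ((p0_inj (c.trans (map_one _).symm)).trans (map_one _).symm),
      map_one]) (by
    rintro i j h _ ⟨A, rfl⟩ _ ⟨B, rfl⟩
    refine Prod.ext (su_ext (emM_comm (fun a b => ?_) A.1.1 B.1.1)) (h2 i j h A B)
    fin_cases a <;> fin_cases b <;> simp [Fin.ext_iff] <;> omega) (fun i j k h h' => by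
    rw [hW j k h]
    rintro _ ⟨A, rfl⟩ _ ⟨B, rfl⟩
    refine Prod.ext (su_ext (emM_comm (fun a b => ?_) A.1.1 B.1.1)) (h3 i j k h h' A B)
    fin_cases a <;> fin_cases b <;> simp [Fin.ext_iff] <;> omega) (fun i k l h h' => by
    rw [hW k l h, hW i ⟨i + 1, by omega⟩ rfl]
    rintro _ ⟨A, rfl⟩ _ ⟨B, rfl⟩
    refine Prod.ext (su_ext (emM_comm (fun a b => ?_) A.1.1 B.1.1)) (h4 i k l h h' A B)
    fin_cases a <;> fin_cases b <;> simp [Fin.ext_iff] <;> omega) hn n0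
  set Γ := U ⟨0, n0⟩ ⊔ Gam W (n - 1)
  let ε : Γ ≃* SU (n + 1) F q := MulEquiv.ofBijective ((MonoidHom.fst _ _).comp Γ.subtype)
    ⟨fun a b e => Subtype.ext (i1.eq a.2 b.2 (congrArg (p0 (n + 1) q F) e)), fun g => by
      obtain ⟨x, hx, e⟩ := i2.sur _ (p0_si hF g) (Fx_iff.2 fun i hi => (hi trivial).elim)
      exact ⟨⟨x, hx⟩, p0_inj e⟩⟩
  refine ⟨((MonoidHom.snd _ _).comp Γ.subtype).comp ε.symm.toMonoidHom, fun i j h => ?_⟩
  rintro _ ⟨A, rfl⟩
  exact ⟨_, congrArg (fun y : Γ => y.1.2) (ε.symm_apply_apply ⟨_, Subgroup.mem_sup_right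
    (U_le W (i := i) (by omega) ((hW i j h).ge ⟨A, rfl⟩))⟩)⟩

end Lead.Pha
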