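import Cfsg.Agent.Lead.Phc2

/-! Phan's theorem for `q = 2`, part 3: `SU₂` and `SU₃`. -/

set_option autoImplicit false
set_option linter.unusedSectionVars false
set_option maxHeartbeats 800000

namespace Lead.Pha
open H23 (conj conj_conj)
open Matrix Cfsg Function
open scoped MatrixGroups

theorem aut_sl22 {K : Type*} [Field K] [Fintype K] (h2 : (2 : K) = 0)
    (χ : SL(2, K) ≃* SL(2, K)) : ∃ (g : GL (Fin 2) K) (θ : K ≃+* K),
      ∀ s, (χ s).1 = g.1 * s.1.map θ * (g⁻¹).1 := by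
  let β : MulAut PSL(2, K) := QuotientGroup.congr _ _ χ (by
    ext x
    obtain ⟨x, rfl⟩ := χ.surjective x
    exact (Subgroup.mem_map_iff_mem (f := (χ : SL(2, K) →* SL(2, K))) χ.injective).trans
      (MulEquivClass.apply_mem_center_iff χ).symm)
  obtain ⟨⟨a, _⟩, ha⟩ := (H22.range_ind_sl_two (F := K) (Fintype.card_fin 2)).ge
    (Subgroup.mem_top β)
  obtain ⟨g, hg⟩ := H22.exists_semi a
  generalize a.θ = θ at hg
  subst hg
  let τ := (H4.conjSL g).comp (SpecialLinearGroup.map (θ : K →+* K))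
  have z : ∀ s, (χ s)⁻¹ * τ s ∈ Subgroup.center _ := fun s =>
    QuotientGroup.eq.1 (H22.induced_sl_iff.2 ha.symm s _ rfl)
  suffices ∀ s, χ s = τ s from ⟨g, θ, fun s => congrArg (·.1) (this s)⟩
  intro s
  obtain ⟨r, hr, e'⟩ := Matrix.SpecialLinearGroup.mem_center_iff.1 (z s)
  have hr : r ^ 2 = 1 := hr
  have : (r - 1) ^ 2 = 0 := by linear_combination hr + (1 - r) * h2
  rw [sub_eq_zero.1 (pow_eq_zero_iff two_ne_zero |>.1 this), map_one] at e'
  exact inv_mul_eq_one.1 (Subtype.ext e'.symm)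

section
variable {N q : ℕ} {F : Type*} [Field F] [Fintype F] (hF : Fintype.card F = q ^ 2)

include hF in
theorem aut_su22 (h2 : (2 : F) = 0) (χ : SU 2 F q ≃* SU 2 F q) : ∃ (h : Matrix (Fin 2) (Fin 2) F)
    (σ : F →+* F), h.det ≠ 0 ∧ ∀ x, (χ x).1.1 * h = h * x.1.1.map σ := by
  classical
  obtain ⟨K, P, ε, hK, e⟩ := exists_eps hF
  obtain ⟨g, θ, hg⟩ := aut_sl22 (K := K) (Subtype.ext h2)
    (ε.trans (χ.trans ε.symm))
  obtain ⟨σ, hσ⟩ := exists_ext K θ
  let g' := GeneralLinearGroup.map K.subtype g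
  let P' := GeneralLinearGroup.map σ P
  refine ⟨(P * g' * P'⁻¹).1, σ, GeneralLinearGroup.det_ne_zero _, fun x => ?_⟩
  obtain ⟨s, rfl⟩ := ε.surjective x
  have e1 : χ (ε s) = ε ((ε.trans (χ.trans ε.symm)) s) := by simp
  have e2 : (s.1.map θ).map K.subtype = (s.1.map K.subtype).map σ := by
    ext i j; exact (hσ _).symm
  rw [e1, e, e, hg, Matrix.map_mul, Matrix.map_mul, Matrix.map_mul, Matrix.map_mul, e2]
  change P.1 * (g'.1 * _ * (g'⁻¹).1) * _ * _ = _ * (P'.1 * _ * (P'⁻¹).1)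
  simp only [Units.val_mul, Matrix.mul_assoc, Units.inv_mul_cancel_left]

theorem exists_lam2 : ∃ c : F, conj hF c * c = 1 ∧ conj hF c ≠ c := by
  classical
  have hq := H23.two_le_of_card_eq_sq hF
  by_contra! h
  have c := H23.card_norm_eq hF 1 one_ne_zero (one_pow _)
  rw [Nat.card_eq_fintype_card, Fintype.card_subtype] at c
  have := Finset.card_le_card (show (Finset.univ.filter fun x : F => x ^ (q + 1) = 1) ⊆ {1, -1} from
    fun x hx => by
      have k : conj hF x * x = 1 := by rw [← (Finset.mem_filter.1 hx).2, pow_succ]; rfl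
      rw [h x k, mul_self_eq_one_iff] at k
      simpa using k)
  have := Finset.card_le_two (a := (1 : F)) (b := -1)
  omega

theorem aut_diag2 (h2 : (2 : F) = 0) (χ : SU 2 F q ≃* SU 2 F q)
    (hd : ∀ x : SU 2 F q, x.1.1 0 1 = 0 → (χ x).1.1 0 1 = 0) : ∃ (t : F) (σ : F →+* F),
      conj hF t * t = 1 ∧ ∀ x, (χ x).1.1 0 0 = σ (x.1.1 0 0) ∧ (χ x).1.1 0 1 = t * σ (x.1.1 0 1) := by
  obtain ⟨h, σ, h0, hh⟩ := aut_su22 hF h2 χ
  have e := fun x i j => congrFun (congrFun (hh x) i) j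
  simp only [mul_apply, Fin.sum_univ_two, map_apply] at e
  rw [det_fin_two] at h0
  obtain ⟨c, c1, c2⟩ := exists_lam2 hF
  have c3 : σ (conj hF c) - σ c ≠ 0 := sub_ne_zero.2 (σ.injective.ne c2)
  let d := mk2 hF c 0 (by simpa using c1)
  have d1 := hd d rfl
  have d2 := (su2_ent hF (χ d)).2
  rw [d1, map_zero, neg_zero] at d2
  have e0 := e d 0 0
  have e1 := e d 0 1
  have e2 := e d 1 0
  have e3 := e d 1 1
  rw [d1] at e0 e1
  rw [d2] at e2 e3
  simp only [d, mk2, of_apply, cons_val', cons_val_zero, cons_val_one, cons_val_fin_one, map_zero,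
    neg_zero] at e0 e1 e2 e3
  have k1 : h 0 0 * h 0 1 = 0 := mul_right_cancel₀ c3 (by
    linear_combination h 0 1 * e0 - h 0 0 * e1)
  have k2 : h 1 0 * h 1 1 = 0 := mul_right_cancel₀ c3 (by
    linear_combination h 1 1 * e2 - h 1 0 * e3)
  have fin : ∀ (t : F) (σ : F →+* F), (∀ x, (χ x).1.1 0 0 = σ (x.1.1 0 0) ∧
      (χ x).1.1 0 1 = t * σ (x.1.1 0 1)) → conj hF t * t = 1 := fun t σ k => by
    let w := mk2 hF 0 1 (by simp)
    have d := (χ w).1.2
    rw [det_fin_two, (su2_ent hF _).2, (k w).1, (k w).2] at d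
    simpa [w, mk2, -H23.conj_apply, mul_comm] using d
  by_cases z : h 0 0 = 0
  · have n : h 0 1 * h 1 0 ≠ 0 := fun c => h0 (by rw [z, c]; ring)
    have n1 := right_ne_zero_of_mul n
    have z' : h 1 1 = 0 := (mul_eq_zero.1 k2).resolve_left n1
    refine ⟨-(h 0 1 / h 1 0), (conj hF).comp σ, (fun k => ⟨fin _ _ k, k⟩) fun x => ⟨?_, ?_⟩⟩
    · have := e x 0 1
      rw [z, z', (su2_ent hF x).1, map_conj] at this
      exact mul_right_cancel₀ (left_ne_zero_of_mul n) (by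
        rw [RingHom.comp_apply]; linear_combination this)
    · have := e x 0 0
      rw [z, (su2_ent hF x).2, map_neg, map_conj] at this
      rw [RingHom.comp_apply]
      field_simp
      linear_combination this
  · have z1 : h 0 1 = 0 := (mul_eq_zero.1 k1).resolve_left z
    have n : h 1 1 ≠ 0 := fun c => h0 (by rw [z1, c]; ring)
    have z2 : h 1 0 = 0 := (mul_eq_zero.1 k2).resolve_right n
    refine ⟨h 0 0 / h 1 1, σ, (fun k => ⟨fin _ _ k, k⟩) fun x => ⟨?_, ?_⟩⟩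
    · have := e x 0 0
      rw [z1, z2] at this
      exact mul_right_cancel₀ z (by linear_combination this)
    · have := e x 0 1
      rw [z1] at this
      field_simp
      linear_combination this

variable {G : Type*} [Group G]

theorem matching02 (h2 : (2 : F) = 0) (ψ ψ' : SU 3 F q →* G) (hβ : Injective (ψ.comp (e12 hF)))
    (hα : Injective (ψ'.comp (e01 hF))) (hr : (ψ.comp (e12 hF)).range = (ψ'.comp (e01 hF)).range)
    (hc : ∀ x y, Commute (ψ (e01 hF x)) (ψ' (e12 hF y))) : ∃ (t : F) (σ : F →+* F)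
      (ht : conj hF t * t = 1), ∀ x, ψ' (e01 hF (tw hF _ (t_one hF ht) σ x)) = ψ (e12 hF x) := by
  let χ : SU 2 F q ≃* SU 2 F q := (MonoidHom.ofInjective hβ).trans
    ((MulEquiv.subgroupCongr hr).trans (MonoidHom.ofInjective hα).symm)
  have hχ : ∀ x, ψ' (e01 hF (χ x)) = ψ (e12 hF x) := fun x =>
    congrArg Subtype.val ((MonoidHom.ofInjective hα).apply_symm_apply _)
  obtain ⟨c, c1, c2⟩ := exists_lam2 hF
  have c3 : conj hF c ≠ 1 := fun e => c2 (by rw [← conj_conj hF c, e, map_one, map_one])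
  let d0 := mk2 hF c 0 (by simpa using c1)
  have t2 : ∀ i, conj hF (![1, c] i) * ![1, c] i = 1 := fun i => by
    fin_cases i <;> simp [c1, -H23.conj_apply]
  have k1 := dg_e12 hF c1
  have k2 : ∀ z, e12 hF d0 * e01 hF z = e01 hF (tw hF _ t2 (RingHom.id F) z) * e12 hF d0 := fun z =>
    su_ext (by
      simp only [su_mul, em_val, emM_01, emM_12, tw_val]
      ext i j
      fin_cases i <;> fin_cases j <;>
        simp [d0, mk2, mul_apply, Fin.sum_univ_three, conj_conj, -H23.conj_apply] <;> grind)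
  have k3 : ∀ z, Commute (ψ (e01 hF d0)) (ψ (e12 hF z)) ↔ z.1.1 0 1 = 0 := fun z => by
    rw [commute_iff_eq, ← map_mul, k1, map_mul, mul_left_inj]
    refine hβ.eq_iff.trans ⟨fun h => ?_, fun h => su2_ext hF ?_ ?_⟩
    · have := congrArg (·.1.1 0 1) h
      simp only [tw_val, cons_val_zero, cons_val_one, RingHom.id_apply, map_one, mul_one] at this
      exact (mul_left_eq_self₀.1 this).resolve_left c3
    · simp only [tw_val, cons_val_zero, RingHom.id_apply, conj_conj]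
      linear_combination z.1.1 0 0 * c1
    · simp [tw_val, h]
  obtain ⟨t, σ, ht, hσ⟩ := aut_diag2 hF h2 χ fun d hd => by
    obtain ⟨z, hz⟩ := χ.surjective (tw hF _ t2 (RingHom.id F) (χ d))
    have e : ψ (e12 hF z) = ψ' (e12 hF d0) * ψ (e12 hF d) * (ψ' (e12 hF d0))⁻¹ := by
      rw [← hχ, ← hχ, hz, ← map_mul, k2, map_mul, mul_inv_cancel_right]
    have hz0 := (k3 z).1 (e ▸ ((hc d0 d0).mul_right ((k3 d).2 hd)).mul_right (hc d0 d0).inv_right)
    have cm : z * d = d * z := su2_ext hF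
      (by simp [su_mul, mul_apply, Fin.sum_univ_two, hd, hz0, mul_comm])
      (by simp [su_mul, mul_apply, Fin.sum_univ_two, hd, hz0])
    have := congrArg (fun x => (χ x).1.1 0 0) cm
    simp only [map_mul, hz, su_mul, mul_apply, Fin.sum_univ_two, tw_val, cons_val_zero, cons_val_one,
      RingHom.id_apply, map_one, mul_one, one_mul, (su2_ent hF _).2] at this
    have k : (χ d).1.1 0 1 * conj hF ((χ d).1.1 0 1) * (conj hF c - c) = 0 := by
      linear_combination -this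
    simpa [sub_eq_zero, c2, -H23.conj_apply] using k
  refine ⟨t, σ, ht, fun x => (congrArg (fun y => ψ' (e01 hF y)) (su2_ext hF ?_ ?_)).trans (hχ x)⟩
  · simp only [tw_val, hσ, cons_val_zero]
    linear_combination σ (x.1.1 0 0) * ht
  · simp [tw_val, hσ]

include hF in
theorem gen2 (h2 : (2 : F) = 0) (P : SU 2 F q → Prop) (h1 : ∀ x, x * x = 1 → P x)
    (h3 : ∀ x y, P x → P y → P (x * y)) (x : SU 2 F q) : P x := by
  obtain ⟨K, -, ε, -, -⟩ := exists_eps hF
  obtain ⟨x, rfl⟩ := ε.surjective x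
  refine Matrix.SL2.transvection_induction (fun x => P (ε x)) (fun i j h c => h1 _ ?_)
    (fun A B hA hB => map_mul ε A B ▸ h3 _ _ hA hB) x
  rw [← map_mul, ← SpecialLinearGroup.transvection_add, show c + c = 0 from Subtype.ext (by
    change (c : F) + c = 0
    linear_combination (c : F) * h2), SpecialLinearGroup.transvection_coeff_zero, map_one]

theorem mono_mem {M : Subgroup (SU 3 F q)} (h1 : (e01 hF).range ≤ M) (h2 : (e12 hF).range ≤ M)
    {g : SU 3 F q} {c : F} {i : Fin 3} (h : p0 3 q F g (bb 0) = c • bb i) : g ∈ M := by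
  have k : ∀ {f : Fin 2 → Fin 3} (hf : Injective f) (j : Fin 3) (c : F), j ∈ Set.range f →
      hm hF (c • bb j : Fin 3 → F) (c • bb j) = 1 → ∃ m ∈ (em hF hf).range,
        p0 3 q F m (bb (f 0)) = c • bb j := fun {f} hf j c hj h => by
    obtain ⟨g, g1, g2, g3⟩ := witt (J := Set.range f) ⟨0, rfl⟩ ⟨1, rfl⟩ (hf.ne zero_ne_one)
      (Submodule.smul_mem _ _ (bb_mem hj)) h
    obtain ⟨X, rfl⟩ := p0_sur hF g1
    exact ⟨X, (mem_em hF hf X).2 g2, g3⟩
  have u : hm hF (c • bb i : Fin 3 → F) (c • bb i) = 1 := by rw [← h, (p0_si hF g).1, hm_bb]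
  obtain ⟨m, hm', e⟩ : ∃ m ∈ M, p0 3 q F m (bb 0) = c • bb i := by
    by_cases d : i = 2
    · obtain ⟨m, h3, e⟩ := k i01 1 1 ⟨1, rfl⟩ (by simp)
      obtain ⟨m', h4, e'⟩ := k i12 i c ⟨1, d.symm⟩ u
      exact ⟨m' * m, mul_mem (h2 h4) (h1 h3), by rw [act_mul]; exact (congrArg _ (by simpa using e)).trans e'⟩
    · obtain ⟨m, h3, e⟩ := k i01 i c (by_contra fun e => d (r01 i e)) u
      exact ⟨m, h1 h3, e⟩
  have := mul_mem hm' (h2 ((mem_em hF i12 (m⁻¹ * g)).2 (Fx_iff.2 fun j hj => by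
    rw [r12 j hj, act_mul, h]; exact act_inv e)))
  rwa [mul_inv_cancel_left] at this

end

variable {F : Type*} [Field F] [Fintype F] (hF : Fintype.card F = 2 ^ 2) {G : Type*} [Group G]

include hF in
theorem two0 : (2 : F) = 0 := by
  have := FiniteField.cast_card_eq_zero F
  rw [hF, Nat.cast_pow] at this
  exact pow_eq_zero_iff two_ne_zero |>.1 this

include hF in
theorem cube1 {a : F} (h : a ≠ 0) : a ^ 3 = 1 := by
  simpa [hF] using FiniteField.pow_card_sub_one_eq_one a h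

theorem nm2 (a : F) (h : a ≠ 0) : conj hF a * a = 1 := by
  rw [H23.conj_apply, ← pow_succ, cube1 hF h]

include hF in
theorem exists_om : ∃ ω : F, ω ^ 2 + ω + 1 = 0 := by
  obtain ⟨c, c1, c2⟩ := exists_lam2 hF
  rw [H23.conj_apply] at c1 c2
  exact ⟨c, mul_left_cancel₀ (sub_ne_zero.2 c2) (by linear_combination c * c1)⟩

/-- matrices of `SU₃(2)` -/
def mk3 (X : Matrix (Fin 3) (Fin 3) F) (h1 : X.det = 1) (h2 : ∀ i j, ∑ k, X k i ^ 2 * X k j =
    if i = j then 1 else 0) : SU 3 F 2 :=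
  ⟨⟨X, h1⟩, (H14.Wall.mem_SU_ct hF).2 (by ext i j; rw [one_apply, ← h2]; rfl)⟩

/-- the Fourier matrix -/
def hc {ω c : F} (hω : ω ^ 2 + ω + 1 = 0) (c3 : c ^ 3 = 1) : SU 3 F 2 :=
  mk3 hF !![1, 1, c ^ 2; 1, ω, ω ^ 2 * c ^ 2; c, c * ω ^ 2, ω] (by
    have := two0 hF
    simp [det_fin_three]; grind) fun i j => by
    have := two0 hF
    fin_cases i <;> fin_cases j <;> simp [Fin.sum_univ_three] <;> grind

theorem hc_four {ω c : F} (hω : ω ^ 2 + ω + 1 = 0) (c3 : c ^ 3 = 1) : hc hF hω c3 ^ 4 = 1 := by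
  have := two0 hF
  have e : (hc hF hω c3 * hc hF hω c3).1.1 = !![1, 0, 0; 0, 0, c ^ 2; 0, c, 0] := by
    rw [su_mul]; ext i j
    fin_cases i <;> fin_cases j <;> simp [hc, mk3, mul_apply, Fin.sum_univ_three] <;> grind
  rw [show 4 = 2 * 2 from rfl, pow_mul, sq, sq]
  refine su_ext ?_
  rw [su_mul, e]; ext i j
  fin_cases i <;> fin_cases j <;> simp [mul_apply, Fin.sum_univ_three] <;> grind

theorem gen_hc {ω : F} (hω : ω ^ 2 + ω + 1 = 0) {M : Subgroup (SU 3 F 2)} (h1 : (e01 hF).range ≤ M)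
    (h2 : (e12 hF).range ≤ M) (h3 : ∀ c (c3 : c ^ 3 = 1), hc hF hω c3 ∈ M) (g : SU 3 F 2) : g ∈ M := by
  have u := (p0_si hF g).1 (bb 0) (bb 0)
  rw [hm_bb, hm_eq, Fin.sum_univ_three] at u
  have t := two0 hF
  obtain ⟨v, hv⟩ : ∃ v, p0 3 2 F g (bb 0) = v := ⟨_, rfl⟩
  rw [hv] at u
  have k : ∀ i, (∀ j, j ≠ i → v j = 0) → g ∈ M := fun i h => mono_mem hF h1 h2 (c := v i) (i := i) (by
    rw [hv]
    ext j
    by_cases d : j = i
    · simp [d, bb]
    · simp [d, bb, h j d])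
  by_cases c0 : v 0 = 0 <;> by_cases c1 : v 1 = 0 <;> by_cases c2 : v 2 = 0
  · exact k 0 fun j _ => by fin_cases j <;> assumption
  · exact k 2 fun j h => by fin_cases j <;> simp_all
  · exact k 1 fun j h => by fin_cases j <;> simp_all
  · rw [c0, nm2 hF _ c1, nm2 hF _ c2] at u
    exact (one_ne_zero (α := F) (by linear_combination t - u)).elim
  · exact k 0 fun j h => by fin_cases j <;> simp_all
  · rw [c1, nm2 hF _ c0, nm2 hF _ c2] at u
    exact (one_ne_zero (α := F) (by linear_combination t - u)).elim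
  · rw [c2, nm2 hF _ c0, nm2 hF _ c1] at u
    exact (one_ne_zero (α := F) (by linear_combination t - u)).elim
  have d0 := cube1 hF c0
  have d1 := cube1 hF c1
  have d2 := cube1 hF c2
  have c3 : (v 0 * v 1 * v 2) ^ 3 = 1 := by rw [mul_pow, mul_pow, d0, d1, d2, mul_one, mul_one]
  have c4 : (v 0 * v 1) ^ 3 = 1 := by rw [mul_pow, d0, d1, mul_one]
  let d := mk3 hF !![v 0, 0, 0; 0, v 1, 0; 0, 0, (v 0 * v 1) ^ 2]
    (by simp [det_fin_three]; linear_combination c4) fun i j => by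
      fin_cases i <;> fin_cases j <;> simp [Fin.sum_univ_three]
      · linear_combination d0
      · linear_combination d1
      · linear_combination ((v 0 * v 1) ^ 3 + 1) * c4
  have m1 : d * hc hF hω c3 ∈ M := mul_mem (mono_mem hF h1 h2 (c := v 0) (i := 0) (by
    ext j; rw [p0_bb]; fin_cases j <;> simp [d, mk3, bb])) (h3 _ c3)
  have := mul_mem m1 (mono_mem hF h1 h2 (g := (d * hc hF hω c3)⁻¹ * g) (c := 1) (i := 0) (by
    rw [act_mul, one_smul, hv]
    refine act_inv (funext fun j => ?_)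
    rw [p0_bb, su_mul]
    fin_cases j <;> simp [d, hc, mk3, mul_apply, Fin.sum_univ_three]
    linear_combination v 2 * c4))
  rwa [mul_inv_cancel_left] at this

include hF in
theorem gen4 {M : Subgroup (SU 3 F 2)} (h : ∀ g, g ^ 4 = 1 → g ∈ M) (g : SU 3 F 2) : g ∈ M := by
  obtain ⟨ω, hω⟩ := exists_om hF
  have k : ∀ f : SU 2 F 2 →* SU 3 F 2, f.range ≤ M := fun f => by
    rintro _ ⟨x, rfl⟩
    exact gen2 hF (two0 hF) (fun x => f x ∈ M) (fun x hx => h _ (by
      rw [← map_pow, show 4 = 2 * 2 from rfl, pow_mul, sq x, hx, one_pow, map_one]))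
      (fun x y hx hy => map_mul f x y ▸ mul_mem hx hy) x
  exact gen_hc hF hω (k _) (k _) (fun c c3 => h _ (hc_four hF hω c3)) g

omit [Fintype F] in
theorem scal3 (t : (2 : F) = 0) {ω c : F} (hω : ω ^ 2 + ω + 1 = 0) (c3 : c ^ 3 = 1)
    {u : Matrix (Fin 3) (Fin 3) F}
    (s1 : u * !![1, 0, 0; 0, ω, 0; 0, 0, ω ^ 2] = !![1, 0, 0; 0, ω, 0; 0, 0, ω ^ 2] * u)
    (s2 : u * !![0, 0, c ^ 2; 1, 0, 0; 0, c, 0] = !![0, 0, c ^ 2; 1, 0, 0; 0, c, 0] * u) :
    u = u 0 0 • (1 : Matrix (Fin 3) (Fin 3) F) := by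
  have e1 := fun i j => congrFun (congrFun s1 i) j
  have e2 := fun i j => congrFun (congrFun s2 i) j
  have a1 := e1 0 1
  have a2 := e1 0 2
  have a3 := e1 1 0
  have a4 := e1 1 2
  have a5 := e1 2 0
  have a6 := e1 2 1
  have a7 := e2 1 0
  have a8 := e2 2 1
  clear e1 e2 s1 s2
  simp only [mul_apply, Fin.sum_univ_three, of_apply, cons_val', cons_val_zero, cons_val_one,
    cons_val_fin_one, cons_val] at a1 a2 a3 a4 a5 a6 a7 a8
  ext i j
  fin_cases i <;> fin_cases j <;> simp <;> grind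

theorem rigid {ψ ψ' : SU 3 F 2 →* G} (hi : Injective ψ) (hr : ψ'.range ≤ ψ.range)
    (h1 : ψ.comp (e01 hF) = ψ'.comp (e01 hF)) (h2 : ψ.comp (e12 hF) = ψ'.comp (e12 hF)) : ψ = ψ' := by
  obtain ⟨ω, hω⟩ := exists_om hF
  have t := two0 hF
  have l1 : (e01 hF).range ≤ ψ.eqLocus ψ' := by rintro _ ⟨x, rfl⟩; exact DFunLike.congr_fun h1 x
  have l2 : (e12 hF).range ≤ ψ.eqLocus ψ' := by rintro _ ⟨x, rfl⟩; exact DFunLike.congr_fun h2 x
  refine MonoidHom.ext (gen_hc hF hω l1 l2 fun c c3 => ?_)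
  obtain ⟨y, hy⟩ := hr ⟨hc hF hω c3, rfl⟩
  let d := mk3 hF !![1, 0, 0; 0, ω, 0; 0, 0, ω ^ 2] (by simp [det_fin_three]; grind)
    fun i j => by fin_cases i <;> fin_cases j <;> simp [Fin.sum_univ_three] <;> grind
  let w := mk3 hF !![0, 0, c ^ 2; 1, 0, 0; 0, c, 0] (by simp [det_fin_three]; grind)
    fun i j => by fin_cases i <;> fin_cases j <;> simp [Fin.sum_univ_three] <;> grind
  have md : ψ d = ψ' d := mono_mem hF l1 l2 (c := 1) (i := 0) (by
    ext j; rw [p0_bb]; fin_cases j <;> simp [d, mk3, bb])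
  have mw : ψ w = ψ' w := mono_mem hF l1 l2 (c := 1) (i := 1) (by
    ext j; rw [p0_bb]; fin_cases j <;> simp [w, mk3, bb])
  have r1 : w * hc hF hω c3 * d = hc hF hω c3 := su_ext (by
    rw [su_mul, su_mul]; ext i j
    fin_cases i <;> fin_cases j <;> simp [d, w, hc, mk3, mul_apply, Fin.sum_univ_three] <;> grind)
  have r2 : hc hF hω c3 * w = d * hc hF hω c3 := su_ext (by
    rw [su_mul, su_mul]; ext i j
    fin_cases i <;> fin_cases j <;> simp [d, w, hc, mk3, mul_apply, Fin.sum_univ_three] <;> grind)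
  have r3 : w * y * d = y := hi (by rw [map_mul, map_mul, md, mw, hy, ← map_mul, ← map_mul, r1])
  have r4 : y * w = d * y := hi (by rw [map_mul, map_mul, md, mw, hy, ← map_mul, ← map_mul, r2])
  have r5 : y ^ 4 = 1 := hi (by rw [map_pow, hy, ← map_pow, hc_four, map_one, map_one])
  have r6 := hc_four hF hω c3
  change ψ _ = ψ' _
  rw [← hy]
  generalize hc hF hω c3 = H at r1 r2 r6 ⊢
  obtain ⟨u, rfl⟩ : ∃ u, y = H * u := ⟨H⁻¹ * y, by group⟩
  have s1 : u * d = d * u := mul_left_cancel (a := w * H) (by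
    calc _ = w * (H * u) * d := by group
      _ = w * H * d * u := by rw [r3, r1]
      _ = _ := by group)
  have s2 : u * w = w * u := mul_left_cancel (a := H) (by
    rw [← mul_assoc, r4, ← mul_assoc, ← mul_assoc, r2])
  have e := scal3 (two0 hF) hω c3 (congrArg (·.1.1) s1) (congrArg (·.1.1) s2)
  have cm : Commute H u := su_ext (by rw [su_mul, su_mul, e]; simp)
  rw [cm.mul_pow, r6, one_mul] at r5
  have d3 := u.1.2
  have d4 : u.1.1 ^ 4 = 1 := congrArg (·.1.1) r5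
  rw [e] at d3 d4
  have d5 := congrFun (congrFun d4 0) 0
  simp only [det_smul, Fintype.card_fin, det_one, mul_one, _root_.smul_pow, one_pow, Matrix.smul_apply,
    one_apply_eq, smul_eq_mul] at d3 d5
  rw [show u = 1 from su_ext (by rw [e, show u.1.1 0 0 = 1 by linear_combination d5 - u.1.1 0 0 * d3, one_smul]; rfl), mul_one]

end Lead.Pha
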