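import Cfsg.Agent.Lead.Phc3

/-! Phan's theorem for `q = 2`, part 4: `SU₃` inside `SU₄`. -/

set_option autoImplicit false
set_option linter.unusedSectionVars false
set_option maxHeartbeats 800000

namespace Lead.Pha
open H23 (conj conj_conj)
open Matrix Cfsg Function

variable {F : Type*} [Field F] [Fintype F] {hF : Fintype.card F = 2 ^ 2} {N : ℕ}

local notation "⟪" u ", " v "⟫" => hm hF u v
local notation "V" => Fin N → F

theorem eig_orth {g : V ≃ₗ[F] V} (hg : Iso hF g) {u v : V} {a b : F} (hu : g u = a • u)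
    (hv : g v = b • v) (h : a ≠ b) (ha : a ^ 3 = 1) : ⟪u, v⟫ = 0 := by
  have := hg u v
  rw [hu, hv, map_smul, map_smulₛₗ, LinearMap.smul_apply, H23.conj_apply] at this
  simp only [smul_eq_mul] at this
  exact mul_left_cancel₀ (sub_ne_zero.2 h) (by linear_combination (-a) * this + b * ⟪u, v⟫ * ha)

/-- eigenprojection -/
def pj (c : F) (g : V ≃ₗ[F] V) (u : V) : V := u + c ^ 2 • g u + c • g (g u)

omit hF in
theorem pj_eig {c : F} (c3 : c ^ 3 = 1) {g : V ≃ₗ[F] V} (g3 : g ^ 3 = 1) (u : V) :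
    g (pj c g u) = c • pj c g u := by
  have : g (g (g u)) = u := by simpa [pow_three] using LinearEquiv.congr_fun g3 u
  simp only [pj, map_add, map_smul, this]
  ext i
  simp only [Pi.add_apply, Pi.smul_apply, smul_eq_mul]
  linear_combination (-g u i) * c3

omit hF in
theorem pj_sum (t : (2 : F) = 0) {ω : F} (hω : ω ^ 2 + ω + 1 = 0) (g : V ≃ₗ[F] V) (u : V) :
    pj 1 g u + pj ω g u + pj (ω ^ 2) g u = u := by
  ext i
  simp only [pj, Pi.add_apply, Pi.smul_apply, smul_eq_mul]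
  linear_combination u i * t + (g (g u) i + (ω ^ 2 - ω + 1) * g u i) * hω

omit [Fintype F] hF in
theorem om3 (t : (2 : F) = 0) {ω : F} (hω : ω ^ 2 + ω + 1 = 0) :
    ω ^ 3 = 1 ∧ (ω ^ 2) ^ 3 = 1 ∧ 1 ≠ ω ∧ 1 ≠ ω ^ 2 ∧ ω ≠ ω ^ 2 := by
  refine ⟨?_, ?_, ?_, ?_, ?_⟩ <;> grind

theorem eigA {z g : V ≃ₗ[F] V} (hg : Iso hF g) (g3 : g ^ 3 = 1) (cm : Commute z g) {u : V} {l : F}
    (hl : l ^ 2 + l + 1 = 0) (hu : z u = l • u) (n : ⟪u, u⟫ ≠ 0) :
    ∃ v, ⟪v, v⟫ ≠ 0 ∧ z v = l • v ∧ (g v = (1 : F) • v ∨ g v = l • v ∨ g v = l ^ 2 • v) := by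
  obtain ⟨a1, a2, a3, a4, a5⟩ := om3 (two0 hF) hl
  have k : ∀ v, z v = l • v → z (g v) = l • g v := fun v hv => by
    rw [← LinearEquiv.mul_apply, cm.eq, LinearEquiv.mul_apply, hv, map_smul]
  have k' : ∀ c, z (pj c g u) = l • pj c g u := fun c => by
    simp only [pj, map_add, map_smul, hu, k _ hu, k _ (k _ hu)]
    module
  have e1 := pj_eig (one_pow 3) g3 u
  have e2 := pj_eig a1 g3 u
  have e3 := pj_eig a2 g3 u
  by_contra! h
  apply n
  rw [← pj_sum (two0 hF) hl g u]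
  have o1 := eig_orth hg e1 e2 a3 (one_pow 3)
  have o2 := eig_orth hg e1 e3 a4 (one_pow 3)
  have o3 := eig_orth hg e2 e3 a5 a1
  simp only [map_add, LinearMap.add_apply, o1, o2, o3, hm_zero hF o1, hm_zero hF o2, hm_zero hF o3,
    not_not.1 fun c => (h _ c (k' _)).1 e1, not_not.1 fun c => (h _ c (k' _)).2.1 e2,
    not_not.1 fun c => (h _ c (k' _)).2.2 e3, add_zero]

theorem eigB {z : V ≃ₗ[F] V} (hz : Iso hF z) (z3 : z ^ 3 = 1) (z1 : z ≠ 1) :
    ∃ (l : F) (v : V), l ^ 2 + l + 1 = 0 ∧ z v = l • v ∧ ⟪v, v⟫ ≠ 0 := by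
  by_contra! h
  have k : ∀ c : F, c ^ 2 + c + 1 = 0 → ∀ u, pj c z u = 0 := fun c hc u => funext fun i => by
    obtain ⟨a1, a2, a3, a4, a5⟩ := om3 (two0 hF) hc
    have e := pj_eig a1 z3 u
    have e' := pj_eig a1 z3 (bb i)
    rw [← hm_l hF i (pj c z u), ← pj_sum (two0 hF) hc z (bb i), map_add, map_add, LinearMap.add_apply,
      LinearMap.add_apply, eig_orth hz (pj_eig (one_pow 3) z3 _) e a3 (one_pow 3),
      eig_orth hz (pj_eig a2 z3 _) e a5.symm a2, zero_add, add_zero]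
    generalize pj c z u = b at e
    generalize pj c z (bb i) = a at e'
    have h1 := h c (a + b) hc (by rw [map_add, e, e', smul_add])
    have h2 := h c (a + c • b) hc (by rw [map_add, map_smul, e, e', smul_add])
    simp only [map_add, LinearMap.add_apply, map_smul, map_smulₛₗ, LinearMap.smul_apply, h c a hc e',
      h c b hc e, smul_eq_mul, H23.conj_apply] at h1 h2
    exact mul_left_cancel₀ (sub_ne_zero.2 a5) (by
      rw [Pi.zero_apply]; linear_combination h2 - c ^ 2 * h1)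
  obtain ⟨ω, hω⟩ := exists_om hF
  refine z1 (LinearEquiv.ext fun u => ?_)
  have := pj_sum (two0 hF) hω z u
  rw [k ω hω, k (ω ^ 2) (by linear_combination (ω ^ 2 - ω + 1) * hω), add_zero, add_zero] at this
  rw [← this, pj_eig (one_pow 3) z3, one_smul]; rfl

omit hF in
theorem one_co {u : V} {j : Fin N} (h : ∀ i, i ≠ j → u i = 0) : u = u j • bb j := by
  ext i
  by_cases d : i = j
  · simp [d, bb]
  · simp [d, bb, h i d]

include hF in
theorem fix4 {g : SU N F 2} (g4 : g ^ 4 = 1) {j : Fin N} (h : ∀ i, i ≠ j → p0 N 2 F g (bb j) i = 0) :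
    p0 N 2 F g (bb j) = bb j := by
  have e := one_co h
  generalize p0 N 2 F g (bb j) j = c at e
  have : p0 N 2 F (g * (g * (g * g))) (bb j) = bb j := by
    rw [show g * (g * (g * g)) = g ^ 4 by rw [pow_succ', pow_three], g4, map_one]; rfl
  simp only [act_mul, e, map_smul, smul_smul] at this
  have h1 : c * c * c * c = 1 := by simpa [bb] using congrFun this j
  have := cube1 hF (right_ne_zero_of_mul_eq_one h1)
  rw [e, show c = 1 by linear_combination h1 - c * this, one_smul]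

variable (hF)

include hF in
theorem su2_cases (x : SU 2 F 2) : x.1.1 0 0 = 0 ∨ x.1.1 0 1 = 0 := by
  by_contra! h
  have d := x.1.2
  rw [det_fin_two, (su2_ent hF x).1, (su2_ent hF x).2] at d
  exact one_ne_zero (α := F) (by
    linear_combination two0 hF - d + nm2 hF _ h.1 + nm2 hF _ h.2)

/-- diagonal element of order three -/
def d3 {ω : F} (hω : ω ^ 2 + ω + 1 = 0) : SU 2 F 2 := mk2 hF ω 0 (by
  rw [map_zero, H23.conj_apply]; linear_combination (ω - 1) * hω)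

theorem d3_norm {ω : F} (hω : ω ^ 2 + ω + 1 = 0) (x : SU 2 F 2) :
    d3 hF hω * x = x * d3 hF hω ∨ d3 hF hω * x = x * (d3 hF hω * d3 hF hω) := by
  rcases su2_cases hF x with h | h
  · refine Or.inr (su2_ext hF ?_ ?_) <;> simp only [su_mul, mul_apply, Fin.sum_univ_two, su2_ent hF, h] <;>
      simp [d3, mk2]
    grind
  · refine Or.inl (su2_ext hF ?_ ?_) <;> simp only [su_mul, mul_apply, Fin.sum_univ_two, su2_ent hF, h] <;>
      simp [d3, mk2, mul_comm]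

/-- cyclic permutation -/
def wc : SU 3 F 2 := mk3 hF !![0, 0, 1; 1, 0, 0; 0, 1, 0] (by simp [det_fin_three])
  fun i j => by fin_cases i <;> fin_cases j <;> simp [Fin.sum_univ_three]

/-- central element -/
def z3 {ω : F} (hω : ω ^ 2 + ω + 1 = 0) : SU 3 F 2 := mk3 hF !![ω, 0, 0; 0, ω, 0; 0, 0, ω]
  (by simp [det_fin_three]; grind)
  fun i j => by fin_cases i <;> fin_cases j <;> simp [Fin.sum_univ_three] <;> grind

theorem wc_e (x : SU 2 F 2) : wc hF * e01 hF x = e12 hF x * wc hF :=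
  su_ext (by simp only [su_mul, em_val, emM_01, emM_12]; simp [wc, mk3])

theorem wc_3 : wc hF * (wc hF * wc hF) = 1 :=
  su_ext (by simp only [su_mul]; simp [wc, mk3, one_fin_three])

theorem z3_c {ω : F} (hω : ω ^ 2 + ω + 1 = 0) (x : SU 3 F 2) : Commute (z3 hF hω) x :=
  su_ext (by
    simp only [su_mul]
    ext i j
    fin_cases i <;> fin_cases j <;> simp [z3, mk3, mul_apply, Fin.sum_univ_three, mul_comm])

theorem z3_e {ω : F} (hω : ω ^ 2 + ω + 1 = 0) :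
    e01 hF (d3 hF hω) = z3 hF hω * e12 hF (d3 hF hω) :=
  su_ext (by simp only [su_mul, em_val, emM_01, emM_12]; simp [z3, d3, mk2, mk3]; grind)

theorem z3_3 {ω : F} (hω : ω ^ 2 + ω + 1 = 0) : z3 hF hω ^ 3 = 1 ∧ z3 hF hω ≠ 1 ∧ d3 hF hω ^ 3 = 1 := by
  have t := two0 hF
  refine ⟨su_ext ?_, fun e => (om3 t hω).2.2.1 (congrArg (·.1.1 0 0) e).symm, su_ext ?_⟩
  · simp only [pow_three, su_mul]; simp [z3, mk3, one_fin_three]; grind
  · simp only [pow_three, su_mul]; simp [d3, mk2, one_fin_two]; grind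

variable {hF}
local notation "ρ" => p0 4 2 F

theorem heis {ω : F} (hω : ω ^ 2 + ω + 1 = 0) (ψ : SU 3 F 2 →* SU 4 F 2) {l m : F} {v : Fin 4 → F}
    (h1 : ρ (ψ (z3 hF hω)) v = l • v) (h2 : ρ (ψ (e01 hF (d3 hF hω))) v = m • v) :
    ρ (ψ (z3 hF hω)) (ρ (ψ (wc hF)) v) = l • ρ (ψ (wc hF)) v ∧
      ρ (ψ (e01 hF (d3 hF hω))) (ρ (ψ (wc hF)) v) = (m * l) • ρ (ψ (wc hF)) v := by
  have k : ρ (ψ (z3 hF hω)) (ρ (ψ (wc hF)) v) = l • ρ (ψ (wc hF)) v := by
    rw [← act_mul, ← map_mul, (z3_c hF hω _).eq, map_mul, act_mul, h1, map_smul]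
  refine ⟨k, ?_⟩
  rw [← act_mul, ← map_mul, z3_e, mul_assoc, ← wc_e, map_mul ψ, map_mul ψ, act_mul, act_mul, h2,
    map_smul, map_smul, k, smul_smul]

theorem rec3' {ω l : F} (hω : ω ^ 2 + ω + 1 = 0) (hl : l ^ 2 + l + 1 = 0) (ψ : SU 3 F 2 →* SU 4 F 2)
    (x0 : ρ (ψ (wc hF)) (bb 0) = bb 1) (x1 : ρ (ψ (wc hF)) (bb 1) = bb 2)
    (z0 : ρ (ψ (z3 hF hω)) (bb 0) = l • bb 0) (y0 : ρ (ψ (e01 hF (d3 hF hω))) (bb 0) = l • bb 0) :
    (∀ g, ρ (ψ g) (bb 3) = bb 3) ∧ (∀ x, ρ (ψ (e01 hF x)) (bb 2) = bb 2) ∧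
      ∀ x, ρ (ψ (e12 hF x)) (bb 0) = bb 0 := by
  obtain ⟨a1, a2, a3, a4, a5⟩ := om3 (two0 hF) hl
  have x2 : ρ (ψ (wc hF)) (bb 2) = bb 0 := by
    rw [← x1, ← x0, ← act_mul, ← act_mul, ← map_mul, ← map_mul, mul_assoc, wc_3, map_one, map_one]; rfl
  obtain ⟨z1, y1⟩ := heis hω ψ z0 y0
  rw [x0] at z1 y1
  obtain ⟨z2, y2⟩ := heis hω ψ z1 y1
  rw [x1] at z2 y2
  rw [← sq] at y1
  rw [← pow_three', a1] at y2
  have k : ∀ {g : SU 4 F 2} {i j : Fin 4} {c : F}, ρ g (bb j) = c • bb i → j ≠ 3 → c ≠ 0 →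
      ρ g (bb 3) i = 0 := fun {g i j c} h hj hc => by
    have := (p0_si hF g).1 (bb j) (bb 3)
    rwa [h, hm_ne hF hj, map_smulₛₗ, LinearMap.smul_apply, hm_l, smul_eq_mul, mul_eq_zero,
      map_eq_zero, or_iff_right hc] at this
  have l0 : l ≠ 0 := fun e => by simp [e] at hl
  have ex := one_co (u := ρ (ψ (wc hF)) (bb 3)) (j := 3) fun i hi => by
    fin_cases i
    exacts [k (x2.trans (one_smul F _).symm) (by decide) one_ne_zero,
      k (x0.trans (one_smul F _).symm) (by decide) one_ne_zero,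
      k (x1.trans (one_smul F _).symm) (by decide) one_ne_zero, (hi rfl).elim]
  have ey := one_co (u := ρ (ψ (e01 hF (d3 hF hω))) (bb 3)) (j := 3) fun i hi => by
    fin_cases i
    exacts [k y0 (by decide) l0, k y1 (by decide) (pow_ne_zero _ l0), k y2 (by decide) one_ne_zero,
      (hi rfl).elim]
  have z3' : ρ (ψ (z3 hF hω)) (bb 3) = (1 : F) • bb 3 := by
    have e : ρ (ψ (e01 hF (d3 hF hω))) (ρ (ψ (wc hF)) (bb 3)) =
        ρ (ψ (z3 hF hω)) (ρ (ψ (wc hF)) (ρ (ψ (e01 hF (d3 hF hω))) (bb 3))) := by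
      rw [← act_mul, ← act_mul, ← act_mul, ← map_mul, ← map_mul, ← map_mul, mul_assoc, wc_e,
        ← mul_assoc, ← z3_e]
    have n : ∀ {g : SU 4 F 2} {c : F}, ρ g (bb 3) = c • bb 3 → c ≠ 0 := fun {g c} h d => by
      have := (p0_si hF g).1 (bb 3) (bb 3)
      simp [h, d] at this
    generalize ρ (ψ (wc hF)) (bb 3) 3 = a at ex
    generalize ρ (ψ (e01 hF (d3 hF hω))) (bb 3) 3 = b at ey
    simp only [ex, ey, map_smul, smul_smul, mul_comm a] at e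
    rw [one_smul, smul_right_injective _ (mul_ne_zero (n ey) (n ex)) e.symm]
  have h3 : ∀ g, ρ (ψ g) (bb 3) = bb 3 := fun g =>
    gen4 hF (M := ((MulAction.stabilizer _ (bb 3 : Fin 4 → F)).comap ρ).comap ψ) (fun g g4 =>
      fix4 (hF := hF) (by rw [← map_pow, g4, map_one]) fun i hi => by
        have e : ρ (ψ (z3 hF hω)) (ρ (ψ g) (bb 3)) = (1 : F) • ρ (ψ g) (bb 3) := by
          rw [← act_mul, ← map_mul, (z3_c hF hω _).eq, map_mul, act_mul, z3', map_smul]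
        rw [← hm_l hF i (ρ _ _)]
        fin_cases i
        exacts [eig_orth (p0_si hF _).1 z0 e a3.symm a1, eig_orth (p0_si hF _).1 z1 e a3.symm a1,
          eig_orth (p0_si hF _).1 z2 e a3.symm a1, (hi rfl).elim]) g
  have h2 : ∀ x, ρ (ψ (e01 hF x)) (bb 2) = bb 2 := gen2 hF (two0 hF) _ (fun x hx =>
    fix4 (hF := hF) (by rw [← map_pow, ← map_pow, pow_succ', pow_three, ← mul_assoc, hx, mul_one,
      map_one, map_one]) fun i hi => by
      have e : ρ (ψ (e01 hF (d3 hF hω))) (ρ (ψ (e01 hF x)) (bb 2)) =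
          (1 : F) • ρ (ψ (e01 hF x)) (bb 2) := by
        rw [← act_mul, ← map_mul, ← map_mul]
        rcases d3_norm hF hω x with h | h <;> simp only [h, map_mul, LinearEquiv.mul_apply, y2, one_smul]
      rw [← hm_l hF i (ρ _ _)]
      fin_cases i
      exacts [eig_orth (p0_si hF _).1 y0 e a3.symm a1, eig_orth (p0_si hF _).1 y1 e a4.symm a2,
        (hi rfl).elim, (congrArg (fun v => ⟪v, _⟫) (h3 (e01 hF x))).symm.trans
          (((p0_si hF _).1 _ _).trans (hm_ne hF (by decide)))])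
    fun x y hx hy => by rw [map_mul, map_mul, act_mul, hy, hx]
  exact ⟨h3, h2, fun x => by rw [← x2, ← act_mul, ← map_mul, ← wc_e, map_mul, act_mul, h2]⟩

theorem rec3 (ψ : SU 3 F 2 →* SU 4 F 2) (hi : Injective ψ) : ∃ Y : SU 4 F 2,
    (∀ g, ρ (Y⁻¹ * ψ g * Y) (bb 3) = bb 3) ∧ (∀ x, ρ (Y⁻¹ * ψ (e01 hF x) * Y) (bb 2) = bb 2) ∧
      ∀ x, ρ (Y⁻¹ * ψ (e12 hF x) * Y) (bb 0) = bb 0 := by
  obtain ⟨ω, hω⟩ := exists_om hF
  obtain ⟨b1, b2, b3⟩ := z3_3 hF hω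
  obtain ⟨l, u, hl, u1, u2⟩ := eigB (p0_si hF (ψ (z3 hF hω))).1
    (by rw [← map_pow, ← map_pow, b1, map_one, map_one])
    fun e => b2 (hi ((p0_inj (e.trans (map_one _).symm)).trans (map_one _).symm))
  obtain ⟨a1, a2, a3, a4, a5⟩ := om3 (two0 hF) hl
  obtain ⟨v, v1, v2, v3⟩ : ∃ v, ⟪v, v⟫ ≠ 0 ∧ ρ (ψ (z3 hF hω)) v = l • v ∧
      ρ (ψ (e01 hF (d3 hF hω))) v = l • v := by
    obtain ⟨v, v1, v2, v3⟩ := eigA (p0_si hF (ψ (e01 hF (d3 hF hω)))).1
      (by rw [← map_pow, ← map_pow, ← map_pow, b3, map_one, map_one, map_one])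
      (((z3_c hF hω _).map ψ).map ρ) hl u1 u2
    rcases v3 with h | h | h
    · obtain ⟨c1, c2⟩ := heis hω ψ v2 h
      exact ⟨_, by rwa [(p0_si hF _).1], c1, by rw [c2, one_mul]⟩
    · exact ⟨v, v1, v2, h⟩
    · obtain ⟨c1, c2⟩ := heis hω ψ v2 h
      obtain ⟨c3, c4⟩ := heis hω ψ c1 c2
      exact ⟨_, by rwa [(p0_si hF _).1, (p0_si hF _).1], c3, by rw [c4, ← pow_succ, a1, one_mul]⟩
  have v0 := nm2 hF _ v1
  obtain ⟨c1, c2⟩ := heis hω ψ v2 v3
  obtain ⟨c3, c4⟩ := heis hω ψ c1 c2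
  rw [← sq] at c2
  rw [← pow_three', a1] at c4
  obtain ⟨c, -, -, hc⟩ := scale v1
  have iy := (p0_si hF (ψ (e01 hF (d3 hF hω)))).1
  have ix := (p0_si hF (ψ (wc hF))).1
  have u0 : ⟪v, v⟫ = 1 := by
    rw [hm_conj, ← sq] at v0
    linear_combination cube1 hF v1 - ⟪v, v⟫ * v0
  obtain ⟨g, g1, -, g2⟩ := witt (J := Set.univ) (p := 0) (r := 1) trivial trivial (by decide)
    (fun _ h => (h trivial).elim) u0
  obtain ⟨g', g3, g4, g5⟩ := witt (hF := hF) (J := {1, 2, 3}) (p := 1) (r := 2) (by simp) (by simp)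
    (by decide) (y := g⁻¹ (ρ (ψ (wc hF)) v)) (fun i hi => by
      obtain rfl : i = 0 := by revert i; decide
      rw [← hm_l hF 0 (g⁻¹ _), g1.1.inv_r, g2, eig_orth iy v3 c2 a5 a1]) (by rw [g1.1.inv, ix, u0])
  have f0 : (g * g') (bb 0) = v := by rw [LinearEquiv.mul_apply, g4 _ (bb_mem (by simp)), g2]
  have f1 : (g * g') (bb 1) = ρ (ψ (wc hF)) v := by rw [LinearEquiv.mul_apply, g5]; simp
  have g6 := g1.mul g3
  generalize g * g' = g at f0 f1 g6
  obtain ⟨g', g3, g4, g5⟩ := witt (hF := hF) (J := {2, 3}) (p := 2) (r := 3) (by simp) (by simp)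
    (by decide) (y := g⁻¹ (ρ (ψ (wc hF)) (ρ (ψ (wc hF)) v))) (fun i hi => by
      obtain rfl | rfl : i = 0 ∨ i = 1 := by revert i; decide
      · rw [← hm_l hF 0 (g⁻¹ _), g6.1.inv_r, f0, eig_orth iy v3 c4 a3.symm a1]
      · rw [← hm_l hF 1 (g⁻¹ _), g6.1.inv_r, f1, eig_orth iy c2 c4 a4.symm a2])
    (by rw [g6.1.inv, ix, ix, u0])
  obtain ⟨Y, hY⟩ := p0_sur hF (g6.mul g3)
  have y0 : ρ Y (bb 0) = v := by rw [hY, LinearEquiv.mul_apply, g4 _ (bb_mem (by simp)), f0]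
  have y1 : ρ Y (bb 1) = ρ (ψ (wc hF)) v := by
    rw [hY, LinearEquiv.mul_apply, g4 _ (bb_mem (by simp)), f1]
  have y2 : ρ Y (bb 2) = ρ (ψ (wc hF)) (ρ (ψ (wc hF)) v) := by
    rw [hY, LinearEquiv.mul_apply, g5]; simp
  have k : ∀ {x : SU 4 F 2} {a b : Fin 4 → F}, ρ x (ρ Y a) = ρ Y b →
      ρ ((MulAut.conj Y).symm x) a = b := fun h => by
    rw [MulAut.conj_symm_apply, act_mul, act_mul, h]; exact act_inv rfl
  exact ⟨Y, rec3' hω hl ((MulAut.conj Y).symm.toMonoidHom.comp ψ) (k (by rw [y0, y1]))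
    (k (by rw [y1, y2])) (k (by rw [map_smul, y0, v2])) (k (by rw [map_smul, y0, v3]))⟩

theorem dA_bb {ω : F} (hω : ω ^ 2 + ω + 1 = 0) (i : Fin 4) :
    ρ (em hF j01 (d3 hF hω)) (bb i) = ![ω, ω ^ 2, 1, 1] i • bb i := by
  ext j
  rw [p0_bb, em_val]
  fin_cases i <;> fin_cases j <;>
    simp [emM, PM, d3, mk2, mul_apply, Fin.sum_univ_two, one_apply, bb]

theorem dB_bb {ω : F} (hω : ω ^ 2 + ω + 1 = 0) (i : Fin 4) :
    ρ (em hF j12 (d3 hF hω)) (bb i) = ![1, ω, ω ^ 2, 1] i • bb i := by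
  ext j
  rw [p0_bb, em_val]
  fin_cases i <;> fin_cases j <;>
    simp [emM, PM, d3, mk2, mul_apply, Fin.sum_univ_two, one_apply, bb]

theorem fix0 (ψ ψ' : SU 3 F 2 →* SU 4 F 2) (hi' : Injective ψ')
    (hr : (em hF j12).range ≤ ψ'.range) (ht : ψ.range ⊔ ψ'.range = ⊤)
    (h3 : ∀ g, ρ (ψ g) (bb 3) = bb 3) (g : SU 3 F 2) : ρ (ψ' g) (bb 0) = bb 0 := by
  obtain ⟨ω, hω⟩ := exists_om hF
  obtain ⟨a1, a2, a3, a4, a5⟩ := om3 (two0 hF) hω
  obtain ⟨Y, hY, -⟩ := rec3 (hF := hF) ψ' hi'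
  have u1 : ∀ g, ρ (ψ' g) (ρ Y (bb 3)) = ρ Y (bb 3) := fun g => by
    have := hY g
    rw [act_mul, act_mul] at this
    simpa using act_inv this |>.symm
  have u2 := (p0_si hF Y).1 (bb 3) (bb 3)
  generalize ρ Y (bb 3) = u at u1 u2
  obtain ⟨x, hx⟩ := hr ⟨d3 hF hω, rfl⟩
  have e := (u1 x).trans (one_smul F u).symm
  rw [hx] at e
  have c1 : u 1 = 0 := (hm_l hF 1 u).symm.trans
    (eig_orth (a := ω) (p0_si hF _).1 (dB_bb hω 1) e a3.symm a1)
  have c2 : u 2 = 0 := (hm_l hF 2 u).symm.trans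
    (eig_orth (a := ω ^ 2) (p0_si hF _).1 (dB_bb hω 2) e a4.symm a2)
  rw [hm_bb, hm_eq, Fin.sum_univ_four, c1, c2] at u2
  have k : ∀ j, (∀ i, i ≠ j → u i = 0) → u j ≠ 0 → ∀ g, ρ (ψ' g) (bb j) = bb j := fun j h n g => by
    have := u1 g
    rw [one_co h, map_smul] at this
    exact smul_right_injective _ n this
  by_cases c0 : u 0 = 0
  · have l : ψ.range ⊔ ψ'.range ≤ (MulAction.stabilizer _ (bb 3 : Fin 4 → F)).comap ρ := sup_le
      (by rintro _ ⟨x, rfl⟩; exact h3 x) (by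
        rintro _ ⟨x, rfl⟩
        exact k 3 (fun i hi => by fin_cases i; exacts [c0, c1, c2, (hi rfl).elim])
          (fun e => by simp [c0, e] at u2) x)
    obtain ⟨g, g1, -, g2⟩ := witt (hF := hF) (J := Set.univ) (p := 3) (r := 0) trivial trivial
      (by decide) (y := bb (0 : Fin 4)) (fun _ h => (h trivial).elim) (hm_bb hF _)
    obtain ⟨X, rfl⟩ := p0_sur hF g1
    have := congrFun (g2.symm.trans (l (ht ▸ Subgroup.mem_top X))) 0
    simp [bb] at this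
  · refine k 0 (fun i hi => ?_) c0 g
    by_contra c3
    fin_cases i
    exacts [hi rfl, c3 c1, c3 c2, by
      rw [nm2 hF _ c0, nm2 hF (u 3) c3] at u2
      exact one_ne_zero (α := F) (by linear_combination u2)]

theorem fix1 (β : SU 2 F 2 →* SU 4 F 2) (hc : ∀ x y, Commute (em hF j01 x) (β y)) :
    ∀ x, ρ (β x) (bb 1) = bb 1 := by
  obtain ⟨ω, hω⟩ := exists_om hF
  obtain ⟨a1, a2, a3, a4, a5⟩ := om3 (two0 hF) hω
  refine gen2 hF (two0 hF) _ (fun x hx =>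
    fix4 (hF := hF) (by rw [← map_pow, pow_succ', pow_three, ← mul_assoc, hx, mul_one,
      map_one]) fun i hi => ?_) fun x y hx hy => by rw [map_mul, act_mul, hy, hx]
  have e : ρ (em hF j01 (d3 hF hω)) (ρ (β x) (bb 1)) = ω ^ 2 • ρ (β x) (bb 1) := by
    rw [← act_mul, (hc _ x).eq, act_mul, ← map_smul]
    exact congrArg _ (dA_bb hω 1)
  rw [← hm_l hF i (ρ _ _)]
  fin_cases i
  exacts [eig_orth (a := ω) (p0_si hF _).1 (dA_bb hω 0) e a5 a1, (hi rfl).elim,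
    eig_orth (a := 1) (p0_si hF _).1 (dA_bb hω 2) e a4 (one_pow 3),
    eig_orth (a := 1) (p0_si hF _).1 (dA_bb hω 3) e a4 (one_pow 3)]

theorem rec42' (ψ ψ' : SU 3 F 2 →* SU 4 F 2) (hi : Injective ψ) (hi' : Injective ψ')
    (hr : (ψ.comp (e12 hF)).range ≤ ψ'.range) (ht : ψ.range ⊔ ψ'.range = ⊤)
    (hc : ∀ x y, Commute (ψ (e01 hF x)) (ψ' (e12 hF y))) (h3 : ∀ g, ρ (ψ g) (bb 3) = bb 3)
    (h2 : ∀ x, ρ (ψ (e01 hF x)) (bb 2) = bb 2) (h0 : ∀ x, ρ (ψ (e12 hF x)) (bb 0) = bb 0) :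
    (em hF k012).range = ψ.range ∧ (em hF k123).range = ψ'.range ∧
      (em hF j01).range = (ψ.comp (e01 hF)).range ∧ (em hF j12).range = (ψ.comp (e12 hF)).range ∧
      (em hF j23).range = (ψ'.comp (e12 hF)).range := by
  have fin : ∀ {k : ℕ} {j : Fin k → Fin 4} (hj : Injective j) (α : SU k F 2 →* SU 4 F 2), Injective α →
      (∀ x i, i ∉ Set.range j → ρ (α x) (bb i) = bb i) → (em hF hj).range = α.range :=
    fun hj α hα h => (eq_range hα (by
      rintro _ ⟨x, rfl⟩; exact (mem_em hF hj _).2 (Fx_iff.2 (h x)))).1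
  have rA := fin j01 (ψ.comp (e01 hF)) (hi.comp (em_inj hF i01)) fun x i hi => by
    obtain rfl | rfl : i = 2 ∨ i = 3 := by revert i; decide
    exacts [h2 x, h3 _]
  have rB := fin j12 (ψ.comp (e12 hF)) (hi.comp (em_inj hF i12)) fun x i hi => by
    obtain rfl | rfl : i = 0 ∨ i = 3 := by revert i; decide
    exacts [h0 x, h3 _]
  have k0 := fix0 ψ ψ' hi' (rB.le.trans hr) ht h3
  have k1 := fix1 (hF := hF) (ψ'.comp (e12 hF)) fun x y => by
    obtain ⟨z, hz⟩ := rA.le ⟨x, rfl⟩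
    exact hz ▸ hc z y
  refine ⟨fin k012 _ hi fun x i hi => ?_, fin k123 _ hi' fun x i hi => ?_, rA, rB,
    fin j23 (ψ'.comp (e12 hF)) (hi'.comp (em_inj hF i12)) fun x i hi => ?_⟩
  · obtain rfl : i = 3 := by revert i; decide
    exact h3 x
  · obtain rfl : i = 0 := by revert i; decide
    exact k0 x
  · obtain rfl | rfl : i = 0 ∨ i = 1 := by revert i; decide
    exacts [k0 _, k1 x]

include hF in
theorem rec42 {G : Type*} [Group G] (Θ : SU 4 F 2 →* G) (iΘ : Injective Θ) (ψ ψ' : SU 3 F 2 →* G)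
    (hi : Injective ψ) (hi' : Injective ψ') (hr : (ψ.comp (e12 hF)).range ≤ ψ'.range)
    (ht : ψ.range ⊔ ψ'.range = Θ.range) (hc : ∀ x y, Commute (ψ (e01 hF x)) (ψ' (e12 hF y))) :
    ∃ Θ' : SU 4 F 2 →* G, Injective Θ' ∧ (Θ'.comp (em hF k012)).range = ψ.range ∧
      (Θ'.comp (em hF k123)).range = ψ'.range ∧
      (Θ'.comp (em hF j01)).range = (ψ.comp (e01 hF)).range ∧
      (Θ'.comp (em hF j12)).range = (ψ.comp (e12 hF)).range ∧
      (Θ'.comp (em hF j23)).range = (ψ'.comp (e12 hF)).range := by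
  have lf : ∀ (Θ : SU 4 F 2 →* G), Injective Θ → ∀ ψ : SU 3 F 2 →* G, ψ.range ≤ Θ.range →
      ∃ α, Θ.comp α = ψ := fun Θ i ψ h =>
    ⟨(MonoidHom.ofInjective i).symm.toMonoidHom.comp (ψ.codRestrict _ fun x => h ⟨x, rfl⟩),
      MonoidHom.ext fun x => congrArg Subtype.val ((MonoidHom.ofInjective i).apply_symm_apply _)⟩
  obtain ⟨α, rfl⟩ := lf Θ iΘ ψ (ht ▸ le_sup_left)
  obtain ⟨Y, h3, h2, h0⟩ := rec3 (hF := hF) α (Injective.of_comp hi)
  let Θ' := Θ.comp (MulAut.conj Y).toMonoidHom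
  let β := (MulAut.conj Y).symm.toMonoidHom.comp α
  have i' : Injective Θ' := iΘ.comp (MulAut.conj Y).injective
  have e : Θ.comp α = Θ'.comp β :=
    MonoidHom.ext fun x => congrArg Θ ((MulAut.conj Y).apply_symm_apply _).symm
  have r : Θ.range = Θ'.range := by
    rw [MonoidHom.range_comp, (MulAut.conj Y).toMonoidHom.range_eq_top.2 (MulAut.conj Y).surjective,
      ← MonoidHom.range_eq_map]
  obtain ⟨β', rfl⟩ := lf Θ' i' ψ' (r ▸ ht ▸ le_sup_right)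
  rw [e] at hi hr ht hc ⊢
  rw [r, Θ'.range_comp, Θ'.range_comp, ← Subgroup.map_sup, Θ'.range_eq_map] at ht
  rw [MonoidHom.comp_assoc, Θ'.range_comp, Θ'.range_comp,
    Subgroup.map_le_map_iff_of_injective i'] at hr
  obtain ⟨c1, c2, c3, c4, c5⟩ := rec42' β β' (Injective.of_comp (f := Θ') hi)
    (Injective.of_comp (f := Θ') hi') hr
    (Subgroup.map_injective i' ht) (fun x y => Commute.of_map i' (hc x y)) h3 h2 h0
  refine ⟨Θ', i', ?_⟩
  simp only [MonoidHom.comp_assoc, Θ'.range_comp, c1, c2, c3, c4, c5, and_self]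

end Lead.Pha
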