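import Cfsg.Agent.Lead.Phc4

/-! Phan's theorem for `q = 2`, part 5: matching. -/

set_option autoImplicit false
set_option linter.unusedSectionVars false
set_option maxHeartbeats 800000

namespace Lead.Pha
open H23 (conj conj_conj)
open Matrix Cfsg Function

variable {F : Type*} [Field F] [Fintype F] {G : Type*} [Group G] (hF : Fintype.card F = 2 ^ 2)

theorem sig_eq2 {σ τ : F →+* F} (h : ∀ c, conj hF c * c = 1 → σ c = τ c) : σ = τ := by
  ext a
  by_cases d : a = 0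
  · simp [d]
  · exact h a (nm2 hF a d)

theorem matching42 (Θ Θ' : SU 4 F 2 →* G) (i1 : Injective Θ) (i2 : Injective Θ')
    (r1 : (Θ.comp (em hF j12)).range = (Θ'.comp (em hF j01)).range)
    (r2 : (Θ.comp (em hF j23)).range = (Θ'.comp (em hF j12)).range)
    (r3 : (Θ.comp (em hF k123)).range = (Θ'.comp (em hF k012)).range) : ∃ Θ'' : SU 4 F 2 →* G,
      Injective Θ'' ∧ Θ''.comp (em hF k012) = Θ.comp (em hF k123) ∧
      (Θ''.comp (em hF k123)).range = (Θ'.comp (em hF k123)).range ∧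
      (Θ''.comp (em hF j23)).range = (Θ'.comp (em hF j23)).range := by
  have a1 : ∀ Θ : SU 4 F 2 →* G, (Θ.comp (em hF k012)).comp (e01 hF) = Θ.comp (em hF j01) :=
    fun Θ => MonoidHom.ext fun x => congrArg Θ (ec1 hF x)
  have a2 : ∀ Θ : SU 4 F 2 →* G, (Θ.comp (em hF k012)).comp (e12 hF) = Θ.comp (em hF j12) :=
    fun Θ => MonoidHom.ext fun x => congrArg Θ (ec2 hF x)
  have a3 : ∀ Θ : SU 4 F 2 →* G, (Θ.comp (em hF k123)).comp (e01 hF) = Θ.comp (em hF j12) :=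
    fun Θ => MonoidHom.ext fun x => congrArg Θ (ec3 hF x)
  have a4 : ∀ Θ : SU 4 F 2 →* G, (Θ.comp (em hF k123)).comp (e12 hF) = Θ.comp (em hF j23) :=
    fun Θ => MonoidHom.ext fun x => congrArg Θ (ec4 hF x)
  have cm : ∀ x y, Commute (em hF j01 x) (em hF j23 y) := fun x y =>
    su_ext (emM_comm (by decide) _ _)
  obtain ⟨s, σ, hs, e1⟩ := matching02 hF (two0 hF) (Θ.comp (em hF k012)) (Θ'.comp (em hF k012))
    (by rw [a2]; exact i1.comp (em_inj hF _)) (by rw [a1]; exact i2.comp (em_inj hF _))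
    (by rwa [a2, a1]) fun x y => by
      obtain ⟨z, hz⟩ := r2.ge ⟨y, rfl⟩
      simp only [MonoidHom.comp_apply, ec1, ec2] at hz ⊢
      exact hz ▸ (cm x z).map Θ
  obtain ⟨t, τ, ht, e2⟩ := matching02 hF (two0 hF) (Θ.comp (em hF k123)) (Θ'.comp (em hF k123))
    (by rw [a4]; exact i1.comp (em_inj hF _)) (by rw [a3]; exact i2.comp (em_inj hF _))
    (by rwa [a4, a3]) fun x y => by
      obtain ⟨z, hz⟩ := r1.le ⟨x, rfl⟩
      simp only [MonoidHom.comp_apply, ec3, ec4] at hz ⊢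
      exact hz ▸ (cm z y).map Θ'
  simp only [MonoidHom.comp_apply, ec1, ec2, ec3, ec4] at e1 e2
  obtain rfl : σ = τ := sig_eq2 hF fun c c1 => by
    have c2 : conj hF (σ c) * σ c = 1 := by rw [← map_conj, ← map_mul, c1, map_one]
    have k1 := congrArg (fun x => Θ (em hF k123 x)) (dg_e12 hF c1 (mk2 hF 0 1 (by simp)))
    have k2 := congrArg (fun x => Θ' (em hF k012 x)) (dg_e12 hF c2
      (tw hF _ (t_one hF ht) τ (mk2 hF 0 1 (by simp))))
    have k3 : tw hF _ (t_one hF hs) σ (mk2 hF c 0 (by simpa using c1)) =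
        mk2 hF (σ c) 0 (by simpa using c2) := su2_ext hF (by
      rw [tw_val]
      simp only [mk2, of_apply, cons_val', cons_val_zero, cons_val_fin_one]
      linear_combination σ c * hs) (by rw [tw_val]; simp [mk2])
    simp only [map_mul, ec1, ec2, ec3, ec4] at k1 k2
    rw [← e1, ← e2, ← e2, k3, k2, mul_left_inj] at k1
    have := congrArg (·.1.1 0 1) (em_inj hF _ (i2 k1))
    simp only [tw_val, mk2, of_apply, cons_val', cons_val_zero, cons_val_one, cons_val_fin_one,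
      map_one, mul_one, RingHom.id_apply, map_conj] at this
    exact (conj hF).injective (mul_left_cancel₀ (right_ne_zero_of_mul_eq_one ht)
      (by linear_combination this))
  have t3 : ∀ i, conj hF (![s * t, t, 1, 1] i) * ![s * t, t, 1, 1] i = 1 := fun i => by
    fin_cases i <;> simp [ht, -H23.conj_apply]
    linear_combination (conj hF s * s) * ht + hs
  have o : conj hF 1 * 1 = 1 := by simp
  have rg : ∀ {k : ℕ} {f : Fin k → Fin 4} (hf : Injective f), ((Θ'.comp (tw hF _ t3 σ)).comp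
      (em hF hf)).range = (Θ'.comp (em hF hf)).range := fun {k f} hf => by
    rw [show (Θ'.comp (tw hF _ t3 σ)).comp (em hF hf) = (Θ'.comp (em hF hf)).comp
      (tw hF _ (fun i => t3 (f i)) σ) from MonoidHom.ext fun x => congrArg Θ' (tw_em hF hf _ t3 σ
        _ o (fun i => (one_mul _).symm) x), MonoidHom.range_comp,
      MonoidHom.range_eq_top.2 (tw_sur hF _ _ σ), ← MonoidHom.range_eq_map]
  have i3 : Injective (Θ'.comp (tw hF _ t3 σ)) :=
    i2.comp (Finite.injective_iff_surjective.2 (tw_sur hF _ _ σ))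
  refine ⟨_, i3, rigid hF (i3.comp (em_inj hF _)) (r3.trans (rg _).symm).le ?_ ?_, rg _, rg _⟩
  · rw [a1, a3]
    exact MonoidHom.ext fun x => (congrArg Θ' (tw_em hF j01 _ t3 σ (t_one hF hs) ht
      (fun i => by fin_cases i <;> simp [mul_comm]) x)).trans (e1 x)
  · rw [a2, a4]
    exact MonoidHom.ext fun x => (congrArg Θ' (tw_em hF j12 _ t3 σ (t_one hF ht) o
      (fun i => by fin_cases i <;> simp) x)).trans (e2 x)

theorem ord3 {x : SU 2 F 2} (h3 : x ^ 3 = 1) (h1 : x ≠ 1) : ∃ (c : F) (c1 : conj hF c * c = 1),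
    conj hF c ≠ 1 ∧ x = mk2 hF c 0 (by simpa using c1) := by
  have d := x.1.2
  rw [det_fin_two, (su2_ent hF x).1, (su2_ent hF x).2] at d
  rcases su2_cases hF x with h | h
  · have : x * x = 1 := su2_ext hF (by
      simp only [su_mul, mul_apply, Fin.sum_univ_two, su2_ent hF, h]
      change _ = (1 : F)
      rw [h] at d
      linear_combination -d - two0 hF) (by
      simp only [su_mul, mul_apply, Fin.sum_univ_two, su2_ent hF, h]
      change _ = (0 : F)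
      simp)
    rw [pow_three, this, mul_one] at h3
    exact (h1 h3).elim
  · rw [h] at d
    refine ⟨_, by linear_combination d, fun e => h1 (su2_ext hF ?_ h), su2_ext hF rfl h⟩
    change _ = (1 : F)
    rw [e] at d
    linear_combination d

theorem excl_r {ψ : SU 3 F 2 →* G} (h : Injective (ψ.comp (e12 hF))) {x : SU 2 F 2} (h3 : x ^ 3 = 1)
    (hc : ∀ z, Commute (ψ (e01 hF x)) (ψ (e12 hF z))) : x = 1 := by_contra fun h1 => by
  obtain ⟨c, c1, c2, rfl⟩ := ord3 hF h3 h1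
  have := (hc (mk2 hF 0 1 (by simp))).eq
  rw [← map_mul, dg_e12 hF c1, map_mul, mul_left_inj] at this
  have := congrArg (·.1.1 0 1) (h this)
  simp only [tw_val] at this
  exact c2 (by simpa [mk2, -H23.conj_apply] using this)

theorem excl_l {ψ : SU 3 F 2 →* G} (h : Injective (ψ.comp (e01 hF))) {x : SU 2 F 2} (h3 : x ^ 3 = 1)
    (hc : ∀ z, Commute (ψ (e12 hF x)) (ψ (e01 hF z))) : x = 1 := by_contra fun h1 => by
  obtain ⟨c, c1, c2, rfl⟩ := ord3 hF h3 h1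
  have t2 : ∀ i, conj hF (![1, c] i) * ![1, c] i = 1 := fun i => by
    fin_cases i <;> simp [c1, -H23.conj_apply]
  have k2 : ∀ z, e12 hF (mk2 hF c 0 (by simpa using c1)) * e01 hF z =
      e01 hF (tw hF _ t2 (RingHom.id F) z) * e12 hF (mk2 hF c 0 (by simpa using c1)) := fun z =>
    su_ext (by
      simp only [su_mul, em_val, emM_01, emM_12, tw_val]
      ext i j
      fin_cases i <;> fin_cases j <;>
        simp [mk2, mul_apply, Fin.sum_univ_three, conj_conj, -H23.conj_apply] <;> grind)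
  have := (hc (mk2 hF 0 1 (by simp))).eq
  rw [← map_mul, k2, map_mul, mul_left_inj] at this
  have := congrArg (·.1.1 0 1) (h this)
  simp only [tw_val] at this
  exact c2 (by simpa [mk2, -H23.conj_apply] using this)

theorem std_pair2 {V A B : Subgroup G} (h : IsStandardUnitaryPair V A B F 2) :
    ∃ ψ : SU 3 F 2 →* G, ψ.range = V ∧ (ψ.comp (e01 hF)).range = A ∧ (ψ.comp (e12 hF)).range = B ∧
      (Injective ψ ∨ ∃ d, d ^ 3 = 1 ∧ d ≠ 1 ∧ ψ (e01 hF d) = ψ (e12 hF d)) := by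
  have b1 : suBlock 3 F 2 {0, 1} = (e01 hF).range := by
    rw [← suBlock_eq hF i01]; simp [Set.pair_comm]
  have b2 : suBlock 3 F 2 {1, 2} = (e12 hF).range := by
    rw [← suBlock_eq hF i12]; simp [Set.pair_comm]
  simp only [MonoidHom.range_comp, ← b1, ← b2]
  rcases h with ⟨ψ, h⟩ | ⟨ψ, h⟩
  · refine ⟨_, ?_, h.1, h.2, Or.inl (Subtype.val_injective.comp ψ.injective)⟩
    rw [MonoidHom.range_comp, ψ.toMonoidHom.range_eq_top.2 ψ.surjective, ← MonoidHom.range_eq_map,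
      Subgroup.range_subtype]
  · obtain ⟨ω, hω⟩ := exists_om hF
    refine ⟨_, ?_, h.1, h.2, Or.inr ⟨d3 hF hω, (z3_3 hF hω).2.2, fun e =>
      (om3 (two0 hF) hω).2.2.1 (congrArg (·.1.1 0 0) e).symm, ?_⟩⟩
    · rw [MonoidHom.range_comp, MonoidHom.range_eq_top.2 (ψ.surjective.comp
        (QuotientGroup.mk'_surjective _)), ← MonoidHom.range_eq_map, Subgroup.range_subtype]
    · rw [z3_e, map_mul, MonoidHom.comp_apply, MonoidHom.comp_apply, show QuotientGroup.mk' _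
        (z3 hF hω) = 1 from (QuotientGroup.eq_one_iff _).2 (Subgroup.mem_center_iff.2 fun g =>
          (z3_c hF hω g).symm), map_one, map_one, one_mul]

include hF in
theorem phan2 {n : ℕ} (hn : 3 ≤ n) (U : Fin n → Subgroup G) (e : ∀ i, SU 2 F 2 ≃* U i)
    (V : Fin n → Fin n → Subgroup G)
    (h1 : ∀ i j : Fin n, (i : ℕ) + 2 ≤ j → ∀ x ∈ U i, ∀ y ∈ U j, x * y = y * x)
    (h2 : ∀ i j : Fin n, (i : ℕ) + 1 = j → IsStandardUnitaryPair (V i j) (U i) (U j) F 2)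
    (h4 : ∀ i j k : Fin n, (i : ℕ) + 1 = j → (j : ℕ) + 1 = k →
      ∃ g : SU 4 F 2 →* ↥(V i j ⊔ V j k), Surjective g)
    (h5 : ∀ i j k : Fin n, (j : ℕ) + 1 = k → ((i : ℕ) + 2 ≤ j ∨ (k : ℕ) + 2 ≤ i) →
      ∀ x ∈ U i, ∀ y ∈ V j k, x * y = y * x)
    (h6 : ∀ i j k l : Fin n, (i : ℕ) + 1 = j → (k : ℕ) + 1 = l → (j : ℕ) + 2 ≤ k →
      ∀ x ∈ V i j, ∀ y ∈ V k l, x * y = y * x) :
    ∃ Φ : SU (n + 1) F 2 →* G, ∀ i j : Fin n, (i : ℕ) + 1 = j → V i j ≤ Φ.range := by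
  classical
  have inj : ∀ (f : SU 2 F 2 →* G) i, f.range = U i → Injective f := fun f i h =>
    fun a b c => ((Nat.bijective_iff_surjective_and_card f.rangeRestrict).2
      ⟨f.rangeRestrict_surjective, h ▸ Nat.card_congr (e i).toEquiv⟩).1 (Subtype.ext c)
  have s3 : ∀ i j : Fin n, (i : ℕ) + 1 = j → ∃ ψ : SU 3 F 2 →* G, ψ.range = V i j ∧
      (ψ.comp (e01 hF)).range = U i ∧ (ψ.comp (e12 hF)).range = U j ∧ Injective ψ := fun i j h => by
    obtain ⟨ψ, a, b, c, d | ⟨d, d3, d1, d2⟩⟩ := std_pair2 hF (h2 i j h)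
    · exact ⟨ψ, a, b, c, d⟩
    refine (d1 ?_).elim
    by_cases l : (j : ℕ) + 1 < n
    · obtain ⟨ψ', -, b', c', -⟩ := std_pair2 hF (h2 j ⟨_, l⟩ rfl)
      obtain ⟨x, hx⟩ := b'.ge (c.le ⟨d, rfl⟩)
      have := excl_r hF (inj _ _ c') (x := x) (inj _ _ b' (by
        rw [map_pow, hx, ← map_pow, d3, map_one, map_one])) fun z => by
          rw [show ψ' (e01 hF x) = _ from hx.trans d2.symm]
          exact h1 i ⟨_, l⟩ (by simp; omega) _ (b.le ⟨d, rfl⟩) _ (c'.le ⟨z, rfl⟩)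
      exact inj _ _ c (by rw [← hx, this, map_one, map_one])
    · have l' : (i : ℕ) - 1 < n := by omega
      obtain ⟨ψ', -, b', c', -⟩ := std_pair2 hF (h2 ⟨_, l'⟩ i (by simp; omega))
      obtain ⟨x, hx⟩ := c'.ge (b.le ⟨d, rfl⟩)
      have := excl_l hF (inj _ _ b') (x := x) (inj _ _ c' (by
        rw [map_pow, hx, ← map_pow, d3, map_one, map_one])) fun z => by
          rw [show ψ' (e12 hF x) = _ from hx.trans d2]
          exact (h1 ⟨_, l'⟩ j (by simp; omega) _ (b'.le ⟨z, rfl⟩) _ (c.le ⟨d, rfl⟩)).symm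
      exact inj _ _ b (by rw [← hx, this, map_one, map_one])
  let P : ℕ → (SU 4 F 2 →* G) → Prop := fun m Θ => Injective Θ ∧ ∀ i j k : Fin n, m = i →
    (i : ℕ) + 1 = j → (j : ℕ) + 1 = k → (Θ.comp (em hF k012)).range = V i j ∧
      (Θ.comp (em hF k123)).range = V j k ∧ (Θ.comp (em hF j01)).range = U i ∧
      (Θ.comp (em hF j12)).range = U j ∧ (Θ.comp (em hF j23)).range = U k
  have std : ∀ m, m + 2 < n → ∃ Θ, P m Θ := fun m hm => by
    have l0 : m < n := by omega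
    have l1 : m + 1 < n := by omega
    obtain ⟨g, hg⟩ := h4 ⟨m, l0⟩ ⟨m + 1, l1⟩ ⟨m + 2, hm⟩ rfl rfl
    obtain ⟨ψ, a, b, c, d⟩ := s3 ⟨m, l0⟩ ⟨m + 1, l1⟩ rfl
    obtain ⟨ψ', a', b', c', d'⟩ := s3 ⟨m + 1, l1⟩ ⟨m + 2, hm⟩ rfl
    have r : ψ.range ⊔ ψ'.range = ((Subgroup.subtype _).comp g).range := by
      rw [MonoidHom.range_comp, MonoidHom.range_eq_top.2 hg, ← MonoidHom.range_eq_map,
        Subgroup.range_subtype, a, a']
    generalize (Subgroup.subtype _).comp g = Θ at r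
    obtain ⟨Θ', c0, c1, c2, c3, c4, c5⟩ := rec42 (hF := hF) Θ (by
      rcases H22.SU_normal_le_center_or_eq_top hF 4 (by omega) (by omega) Θ.ker inferInstance with k | k
      · rw [Subgroup.card_eq_one.1 (H22.card_center_SU hF 4 (by omega)), le_bot_iff] at k
        exact (MonoidHom.ker_eq_bot_iff _).1 k
      · obtain ⟨ω, hω⟩ := exists_om hF
        obtain ⟨y, hy⟩ := (r ▸ le_sup_left : ψ.range ≤ Θ.range) ⟨z3 hF hω, rfl⟩
        exact ((z3_3 hF hω).2.1 (d (hy.symm.trans ((k.ge trivial).trans (map_one _).symm)))).elim)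
      ψ ψ' d d' (by rw [c, ← b']; rintro _ ⟨x, rfl⟩; exact ⟨_, rfl⟩) r
      fun x y => h1 ⟨m, l0⟩ ⟨m + 2, hm⟩ le_rfl _ (b.le ⟨x, rfl⟩) _ (c'.le ⟨y, rfl⟩)
    refine ⟨Θ', c0, fun i j k p1 p2 p3 => ?_⟩
    obtain rfl : i = ⟨m, l0⟩ := Fin.ext p1.symm
    obtain rfl : j = ⟨m + 1, l1⟩ := Fin.ext p2.symm
    obtain rfl : k = ⟨m + 2, hm⟩ := Fin.ext p3.symm
    exact ⟨c1.trans a, c2.trans a', c3.trans b, c4.trans c, c5.trans c'⟩
  have ec : ∀ Θ : SU 4 F 2 →* G, (Θ.comp (em hF k012)).comp (e01 hF) = Θ.comp (em hF j01) ∧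
      (Θ.comp (em hF k012)).comp (e12 hF) = Θ.comp (em hF j12) ∧
      (Θ.comp (em hF k123)).comp (e01 hF) = Θ.comp (em hF j12) ∧
      (Θ.comp (em hF k123)).comp (e12 hF) = Θ.comp (em hF j23) := fun Θ =>
    ⟨MonoidHom.ext fun x => congrArg Θ (ec1 hF x), MonoidHom.ext fun x => congrArg Θ (ec2 hF x),
      MonoidHom.ext fun x => congrArg Θ (ec3 hF x), MonoidHom.ext fun x => congrArg Θ (ec4 hF x)⟩
  have step : ∀ m Θ, ∃ Θ', m + 3 < n → P m Θ → P (m + 1) Θ' ∧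
      Θ'.comp (em hF k012) = Θ.comp (em hF k123) := fun m Θ => by
    by_cases c : m + 3 < n ∧ P m Θ
    swap
    · exact ⟨Θ, fun a b => (c ⟨a, b⟩).elim⟩
    obtain ⟨hm, i1, p⟩ := c
    obtain ⟨Θ', i2, p'⟩ := std (m + 1) hm
    have l1 : m + 1 < n := by omega
    have l2 : m + 2 < n := by omega
    obtain ⟨-, a2, -, a4, a5⟩ := p ⟨m, by omega⟩ ⟨m + 1, l1⟩ ⟨m + 2, l2⟩ rfl rfl rfl
    obtain ⟨b1, b2, b3, b4, b5⟩ := p' ⟨m + 1, l1⟩ ⟨m + 2, l2⟩ ⟨m + 3, hm⟩ rfl rfl rfl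
    obtain ⟨Θ'', i3, c1, c2, c3⟩ := matching42 hF Θ Θ' i1 i2 (a4.trans b3.symm) (a5.trans b4.symm)
      (a2.trans b1.symm)
    refine ⟨Θ'', fun _ _ => ⟨⟨i3, fun i j k p1 p2 p3 => ?_⟩, c1⟩⟩
    obtain rfl : i = ⟨m + 1, l1⟩ := Fin.ext p1.symm
    obtain rfl : j = ⟨m + 2, l2⟩ := Fin.ext p2.symm
    obtain rfl : k = ⟨m + 3, hm⟩ := Fin.ext p3.symm
    exact ⟨c1 ▸ a2, c2.trans b2, by rw [← (ec _).1, c1, (ec _).2.2.1, a4],
      by rw [← (ec _).2.1, c1, (ec _).2.2.2, a5], c3.trans b5⟩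
  choose f hf using step
  obtain ⟨Θ0, p0⟩ := std 0 (by omega)
  let T : ℕ → SU 4 F 2 →* G := fun m => Nat.rec Θ0 f m
  have pT : ∀ m, m + 2 < n → P m (T m) := fun m hm => by
    induction m with
    | zero => exact p0
    | succ m ih => exact (hf m _ hm (ih (by omega))).1
  let ψ : ℕ → SU 3 F 2 →* G := fun m => Nat.casesOn m ((T 0).comp (em hF k012))
    fun m => (T m).comp (em hF k123)
  let φ : ℕ → SU 2 F 2 →* G := fun m => Nat.casesOn m ((ψ 0).comp (e01 hF))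
    fun m => (ψ m).comp (e12 hF)
  have a1 : ∀ m, m + 2 < n → (T m).comp (em hF k012) = ψ m := fun m hm => by
    cases m with
    | zero => rfl
    | succ m => exact (hf m _ hm (pT m (by omega))).2
  have a2 : ∀ m, m + 1 < n → (ψ m).comp (e01 hF) = φ m := fun m hm => by
    cases m with
    | zero => rfl
    | succ m => exact ((ec _).2.2.1.trans (ec _).2.1.symm).trans (by rw [a1 m hm])
  have rV : ∀ i j : Fin n, (i : ℕ) + 1 = j → (ψ i).range = V i j ∧
      ((ψ i).comp (e01 hF)).range = U i ∧ ((ψ i).comp (e12 hF)).range = U j := by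
    rintro ⟨i, hi⟩ j h
    cases i with
    | zero =>
      obtain ⟨b1, -, b3, b4, -⟩ := p0.2 ⟨0, hi⟩ j ⟨2, by omega⟩ rfl h (by simp at h ⊢; omega)
      exact ⟨b1, (congrArg _ (ec _).1).trans b3, (congrArg _ (ec _).2.1).trans b4⟩
    | succ m =>
      obtain ⟨-, b2, -, b4, b5⟩ := (pT m (by simp at h; omega)).2 ⟨m, by omega⟩ ⟨m + 1, hi⟩ j rfl rfl h
      exact ⟨b2, (congrArg _ (ec _).2.2.1).trans b4, (congrArg _ (ec _).2.2.2).trans b5⟩
  have rU : ∀ i : Fin n, (φ i).range = U i := by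
    rintro ⟨i, hi⟩
    cases i with
    | zero => exact (rV ⟨0, hi⟩ ⟨1, by omega⟩ rfl).2.1
    | succ m => exact (rV ⟨m, by omega⟩ ⟨m + 1, hi⟩ rfl).2.2
  obtain ⟨Φ, hΦ⟩ := final2 hF (nm2 hF) hn (fun i => φ i) (fun i => ψ i)
    (fun i j h => ⟨a2 i (by omega), by rw [← h]⟩)
    (fun i j k h h' => ⟨T i, a1 i (by omega), by rw [← h]⟩)
    (fun i j h x y => h1 i j h _ ((rU i).le ⟨x, rfl⟩) _ ((rU j).le ⟨y, rfl⟩))
    (fun i j k h h' x y => h5 i j k h h' _ ((rU i).le ⟨x, rfl⟩) _ ((rV j k h).1.le ⟨y, rfl⟩))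
    fun i k l h h' x y => h6 i ⟨i + 1, by omega⟩ k l rfl h (by simp; omega) _
      ((rV i _ rfl).1.le ⟨x, rfl⟩) _ ((rV k l h).1.le ⟨y, rfl⟩)
  exact ⟨Φ, fun i j h => (rV i j h).1 ▸ hΦ i j h⟩

end Lead.Pha
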