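import Cfsg.Agent.H11.QPe
import Cfsg.Agent.H4.Stable

/-! Coprime fixed points and quadratic action: the linear core, as a statement. -/

set_option autoImplicit false

open Subgroup Cfsg H16 H16.H11 Module
open scoped MatrixGroups

universe u

namespace Lead.Qf

/-- the linear core of Glauberman's theorem on coprime operator groups -/
def Core (p : ℕ) [Fact p.Prime] : Prop :=
  ∀ (M : Type u) [AddCommGroup M] [Module (ZMod p) M] [Finite M]
    (Γ K A : Subgroup (LinearMap.GeneralLinearGroup (ZMod p) M)), IsIrreducibleFor Γ → K ≤ Γ →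
    A ≤ Γ → Γ ≤ normalizer (K : Set (LinearMap.GeneralLinearGroup (ZMod p) M)) →
    (Nat.card A).Coprime (Nat.card K) → (∀ g ∈ Γ, g ^ p = 1 → g ∈ K) →
    ∀ a ∈ Γ, a ≠ 1 → (a.1 - 1) * (a.1 - 1) = 0 →
      H4.IsSec PSL(2, ZMod p) (K ⊓ centralizer (A : Set (LinearMap.GeneralLinearGroup (ZMod p) M)))

end Lead.Qf
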