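import Cfsg.Agent.H11.QPe

/-! Quadratic elements: transitivity on normalized partners. -/

set_option autoImplicit false
set_option linter.unusedSectionVars false

open Subgroup Cfsg H16 H16.H11 Module

namespace Lead.QfT

theorem conj_odd {G : Type*} [Group G] {a b : G} (ha : a * a = 1) (hb : b * b = 1) {n : ℕ}
    (hn : Odd n) (h : (a * b) ^ n = 1) : ∃ k : ℕ, (a * b) ^ k * b * ((a * b) ^ k)⁻¹ = a := by
  obtain ⟨m, rfl⟩ := hn
  refine ⟨m + 1, ?_⟩
  have ib : b⁻¹ = b := inv_eq_of_mul_eq_one_left hb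
  have ia : a⁻¹ = a := inv_eq_of_mul_eq_one_left ha
  have c : b * (a * b)⁻¹ * b⁻¹ = a * b := by
    rw [mul_inv_rev, ib, ia, ← mul_assoc, hb, one_mul]
  have c2 : b * ((a * b) ^ (m + 1))⁻¹ = (a * b) ^ (m + 1) * b := by
    rw [← inv_pow, ← mul_inv_eq_iff_eq_mul, ← conj_pow, c]
  rw [mul_assoc, c2, ← mul_assoc, ← pow_add, show m + 1 + (m + 1) = 2 * m + 1 + 1 by ring,
    pow_succ, h, one_mul, mul_assoc, hb, mul_one]

open Polynomial in
theorem jd {R : Type*} [Ring R] [Finite R] (ho : Odd (Nat.card R)) (J : AddSubgroup R) (h1 : 1 ∈ J)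
    (hJ : ∀ x ∈ J, ∀ y ∈ J, x * y * x ∈ J) (hd : ∀ x ∈ J, ∀ r, x * r = 0 → x = 0 ∨ r = 0)
    {U V : R} (hU : U ∈ J) (hV : V ∈ J) (h : U * V = -(V * U)) : U = 0 ∨ V = 0 := by
  by_contra hc
  push Not at hc
  obtain ⟨U0, V0⟩ := hc
  have h' : V * U = -(U * V) := by rw [h, neg_neg]
  have c1 : Commute (U * U) V := by
    rw [commute_iff_eq, mul_assoc, h, mul_neg, ← mul_assoc, h]; simp [mul_assoc]
  have c2 : Commute (V * V) U := by
    rw [commute_iff_eq, mul_assoc, h', mul_neg, ← mul_assoc, h']; simp [mul_assoc]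
  let S := Subring.closure ({U * U, V * V} : Set R)
  have key : ∀ a ∈ S, (Commute a U ∧ Commute a V) ∧ ∀ x ∈ J, (U * x = x * U ∨ U * x = -(x * U)) →
      (V * x = x * V ∨ V * x = -(x * V)) → a * x ∈ J := fun a ha => by
    induction ha using Subring.closure_induction with
    | mem a ha =>
      have k : ∀ Z ∈ J, ∀ x ∈ J, (Z * x = x * Z ∨ Z * x = -(x * Z)) → Z * Z * x ∈ J := by
        rintro Z hZ x hx (e | e) <;> rw [mul_assoc, e]
        · rw [← mul_assoc]; exact hJ Z hZ x hx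
        · rw [mul_neg, ← mul_assoc]; exact neg_mem (hJ Z hZ x hx)
      rcases ha with rfl | rfl
      · exact ⟨⟨(Commute.refl U).mul_left (Commute.refl U), c1⟩, fun x hx a _ => k U hU x hx a⟩
      · exact ⟨⟨c2, (Commute.refl V).mul_left (Commute.refl V)⟩, fun x hx _ a => k V hV x hx a⟩
    | zero => exact ⟨⟨Commute.zero_left _, Commute.zero_left _⟩, fun x _ _ _ => by simp⟩
    | one => exact ⟨⟨Commute.one_left _, Commute.one_left _⟩, fun x hx _ _ => by simpa⟩
    | add a b _ _ ha hb => exact ⟨⟨ha.1.1.add_left hb.1.1, ha.1.2.add_left hb.1.2⟩,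
        fun x hx p q => by rw [add_mul]; exact add_mem (ha.2 x hx p q) (hb.2 x hx p q)⟩
    | neg a _ ha => exact ⟨⟨ha.1.1.neg_left, ha.1.2.neg_left⟩,
        fun x hx p q => by rw [neg_mul]; exact neg_mem (ha.2 x hx p q)⟩
    | mul a b _ _ ha hb =>
      refine ⟨⟨ha.1.1.mul_left hb.1.1, ha.1.2.mul_left hb.1.2⟩, fun x hx p q => ?_⟩
      rw [mul_assoc]
      refine ha.2 _ (hb.2 x hx p q) (p.imp (fun e => ?_) fun e => ?_)
        (q.imp (fun e => ?_) fun e => ?_)
      · rw [← mul_assoc, ← hb.1.1.eq, mul_assoc, e, mul_assoc]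
      · rw [← mul_assoc, ← hb.1.1.eq, mul_assoc, e, mul_assoc, mul_neg]
      · rw [← mul_assoc, ← hb.1.2.eq, mul_assoc, e, mul_assoc]
      · rw [← mul_assoc, ← hb.1.2.eq, mul_assoc, e, mul_assoc, mul_neg]
  have k1 : ∀ a ∈ S, a ∈ J := fun a ha => by simpa using (key a ha).2 1 h1 (by simp) (by simp)
  have kU : ∀ a ∈ S, a * U ∈ J := fun a ha => (key a ha).2 U hU (.inl rfl) (.inr h')
  have kV : ∀ a ∈ S, a * V ∈ J := fun a ha => (key a ha).2 V hV (.inr h) (.inl rfl)
  haveI : IsMulCommutative S := Subring.isMulCommutative_closure (by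
    rintro _ (rfl | rfl) _ (rfl | rfl)
    exacts [rfl, (c1.mul_right c1).eq, (c2.mul_right c2).eq, rfl])
  letI : CommRing S := { (inferInstance : Ring S) with mul_comm := fun a b => mul_comm' a b }
  haveI : Nontrivial R := ⟨U, 0, U0⟩
  haveI : NoZeroDivisors S := ⟨fun {a b} e =>
    (hd a (k1 a a.2) b (congrArg Subtype.val e)).imp Subtype.ext Subtype.ext⟩
  haveI : IsDomain S := NoZeroDivisors.to_isDomain _
  haveI := Fintype.ofFinite S
  let a : S := ⟨U * U, Subring.subset_closure (by simp)⟩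
  let b : S := ⟨V * V, Subring.subset_closure (by simp)⟩
  obtain ⟨α, β, e⟩ := FiniteField.exists_root_sum_quadratic
    (degree_quadratic (a := a) (b := 0) (c := 0) fun e =>
      (hd U hU U (congrArg Subtype.val e)).elim U0 U0)
    (degree_quadratic (a := b) (b := 0) (c := -1) fun e =>
      (hd V hV V (congrArg Subtype.val e)).elim V0 V0)
    (Nat.odd_iff.1 (ho.of_dvd_nat (by
      rw [← Nat.card_eq_fintype_card]; exact S.toAddSubgroup.card_addSubgroup_dvd_card)))
  have e' : (α * α * a + β * β * b : S) = 1 := by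
    simp only [eval_add, eval_mul, eval_C, eval_pow, eval_X] at e
    linear_combination e
  have e2 : (α : R) * α * (U * U) + β * β * (V * V) = 1 := congrArg Subtype.val e'
  have ab : (α : R) * β = β * α := congrArg Subtype.val (mul_comm α β)
  obtain ⟨⟨aU, aV⟩, -⟩ := key α α.2
  obtain ⟨⟨bU, bV⟩, -⟩ := key β β.2
  have two : ∀ r : R, r + r = 0 → r = 0 := fun r hr => by
    have := addOrderOf_dvd_natCard r
    rw [← AddMonoid.addOrderOf_eq_one_iff]
    exact Nat.eq_one_of_dvd_coprimes (Nat.coprime_two_left.2 ho)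
      (addOrderOf_dvd_of_nsmul_eq_zero (by rwa [two_nsmul])) this
  have w2 : (1 - (α * U + β * V)) * (1 + (α * U + β * V)) = 0 := by
    have p1 : (α : R) * U * (α * U) = α * α * (U * U) := by
      rw [mul_assoc, ← mul_assoc U, ← aU.eq]; simp only [mul_assoc]
    have p2 : (β : R) * V * (β * V) = β * β * (V * V) := by
      rw [mul_assoc, ← mul_assoc V, ← bV.eq]; simp only [mul_assoc]
    have p3 : (α : R) * U * (β * V) = α * β * (U * V) := by
      rw [mul_assoc, ← mul_assoc U, ← bU.eq]; simp only [mul_assoc]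
    have p4 : (β : R) * V * (α * U) = -(α * β * (U * V)) := by
      rw [mul_assoc, ← mul_assoc V, ← aV.eq, ab, mul_assoc, h']; simp only [mul_assoc, mul_neg]
    simp only [mul_add, add_mul, sub_mul, one_mul, mul_one, p1, p2, p3, p4]
    rw [← e2]; abel
  have cw : ∀ Z, Commute (α * U + β * V) Z := fun Z => by
    rcases hd _ (sub_mem h1 (add_mem (kU α α.2) (kV β β.2))) _ w2 with e | e
    · rw [← sub_eq_zero.1 e]; exact Commute.one_left Z
    · rw [eq_neg_of_add_eq_zero_right e]; exact (Commute.one_left Z).neg_left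
  have b0 : (β : R) = 0 := by
    have := (cw U).eq
    rw [add_mul, mul_add, ← mul_assoc U, ← aU.eq, add_right_inj, ← mul_assoc, ← bU.eq, mul_assoc,
      h', mul_neg, neg_eq_iff_add_eq_zero, ← mul_assoc] at this
    exact ((hd _ (k1 β β.2) _ ((hd _ (kU β β.2) _ (two _ this)).resolve_right V0))).resolve_right U0
  have a0 : (α : R) = 0 := by
    have := (cw V).eq
    rw [add_mul, mul_add, ← mul_assoc V β, ← bV.eq, add_left_inj, ← mul_assoc, ← aV.eq, mul_assoc,
      h, mul_neg, neg_eq_iff_add_eq_zero, ← mul_assoc] at this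
    exact ((hd _ (k1 α α.2) _ ((hd _ (kV α α.2) _ (two _ this)).resolve_right U0))).resolve_right V0
  simp [a0, b0] at e2

variable {p : ℕ} [hp : Fact p.Prime] (h5 : 5 ≤ p) {M : Type*} [AddCommGroup M] [Module (ZMod p) M]
  [Finite M] {G : Subgroup (GLm (ZMod p) M)} {s t w x y : End (ZMod p) M}

theorem one_add_pow (h : x * x = 0) (n : ℕ) : (1 + x) ^ n = 1 + (n : ZMod p) • x := by
  induction n with
  | zero => simp
  | succ n ih => rw [pow_succ, ih]; simp [add_mul, mul_add, h, add_smul, add_assoc, add_comm]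

theorem torus (hs : QS G s) (ht : QS G t) (h : NP s t) {c d : ZMod p} (hc : c * d = 1) :
    ∃ g ∈ RG G s ⊔ RG G t, g.1 = 1 - (s * t + t * s) + c • (s * t) + d • (t * s) := by
  have n : ∀ c d : ZMod p, c * d = 1 → ∃ g ∈ RG G s ⊔ RG G t,
      g.1 = 1 - (s * t + t * s) + c • s - d • t := fun c d hc => by
    have h1 := ex_mem (Submodule.smul_mem _ c hs.mem)
    have h2 := ex_mem (Submodule.smul_mem _ d ht.mem)
    refine ⟨_, mul_mem (mul_mem (mem_sup_left h1) (mem_sup_right (inv_mem h2))) (mem_sup_left h1), ?_⟩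
    change (1 + c • s) * (1 - d • t) * (1 + c • s) = _
    simp only [mul_add, add_mul, mul_sub, sub_mul, mul_assoc, smul_mul_assoc, mul_smul_comm, hs.1,
      h.1, mul_one, one_mul, smul_smul, smul_zero, smul_add, smul_sub, hc, mul_comm d c, one_smul]
    module
  obtain ⟨a, ha, ea⟩ := n c d hc
  obtain ⟨b, hb, eb⟩ := n (-1) (-1) (by ring)
  refine ⟨_, mul_mem ha hb, ?_⟩
  rw [Units.val_mul, ea, eb]
  simp only [mul_add, add_mul, mul_sub, sub_mul, mul_assoc, smul_mul_assoc, mul_smul_comm, hs.1,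
    ht.1, mul_mul_zero hs.1, mul_mul_zero ht.1, h.l, h.symm.l, h.1, h.2, mul_one, one_mul,
    smul_zero, mul_zero]
  module

include h5

theorem tr0 (hs : QS G s) (ht : QS G t) (hw : QS G w) (h : NP s t) (h' : NP s w)
    (e : s * t + t * s = s * w + w * s) :
    ∃ u ∈ RG G s ⊔ RG G t ⊔ RG G w, u.1 * s * u⁻¹.1 = s ∧ u.1 * t * u⁻¹.1 = w := by
  obtain ⟨y, hy⟩ : ∃ y, y = s * t - s * w := ⟨_, rfl⟩
  have y2 : y = w * s - t * s := by rw [hy, sub_eq_sub_iff_add_eq_add, e, add_comm]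
  have sy : s * y = 0 := by rw [hy]; simp [mul_sub, mul_mul_zero hs.1]
  have ys : y * s = 0 := by rw [y2]; simp [sub_mul, mul_assoc, hs.1]
  have yy : y * y = 0 := by
    conv_lhs => rw [hy]; congr; rw [← hy]
    rw [mul_sub, ← mul_assoc, ← mul_assoc, ys]; simp
  have yts : y * (t * s) = y := by rw [y2]; simp [sub_mul, mul_assoc, h.1]
  have c2 : ∀ n : ℕ, n < 5 → n ≠ 0 → (n : ZMod p) ≠ 0 := fun n h1 h2 h3 =>
    absurd (Nat.le_of_dvd (by omega) ((ZMod.natCast_eq_zero_iff _ _).1 h3)) (by omega)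
  have t0 : (2 : ZMod p) ≠ 0 := by exact_mod_cast c2 2 (by omega) (by omega)
  have t3 : (3 : ZMod p) ≠ 0 := by exact_mod_cast c2 3 (by omega) (by omega)
  obtain ⟨a, ha, ea⟩ := torus hs hw h' (mul_inv_cancel₀ t0)
  obtain ⟨b, hb, eb⟩ := torus hs ht h (inv_mul_cancel₀ t0)
  have e1 : (a * b).1 = 1 + (-3 : ZMod p) • y := by
    have : a.1 = 1 - (s * t + t * s) + (2 : ZMod p) • (s * t) + (2 : ZMod p)⁻¹ • (t * s) +
        ((2 : ZMod p)⁻¹ - 2) • y := by
      rw [ea, ← e, show s * w = s * t - y by rw [hy]; abel, show w * s = t * s + y by rw [y2]; abel]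
      module
    rw [Units.val_mul, this, eb]
    simp only [mul_add, add_mul, mul_sub, sub_mul, mul_assoc, smul_mul_assoc, mul_smul_comm,
      mul_mul_zero hs.1, mul_mul_zero ht.1, h.l, h.symm.l, mul_one, one_mul, smul_zero, mul_zero,
      mul_mul_zero ys, yts, smul_smul, smul_add, smul_sub]
    match_scalars <;> field_simp <;> ring
  have m : ex y yy ∈ RG G s ⊔ RG G t ⊔ RG G w := by
    have := pow_mem (mul_mem ((sup_le (le_sup_of_le_left le_sup_left) le_sup_right :
      _ ≤ RG G s ⊔ RG G t ⊔ RG G w) ha) (mem_sup_left hb)) (-3 : ZMod p)⁻¹.val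
    convert this using 1
    refine Units.ext ?_
    rw [Units.val_pow_eq_pow_val, e1, one_add_pow (by simp [yy]), ZMod.natCast_zmod_val, smul_smul,
      inv_mul_cancel₀ (neg_ne_zero.2 t3), one_smul]; rfl
  refine ⟨_, m, ?_, ?_⟩
  · change (1 + y) * s * (1 - y) = s
    simp [add_mul, mul_sub, sy, ys]
  · change (1 + y) * t * (1 - y) = w
    have r1 : t * (w * s) = t - t * (s * w) := by
      have := congrArg (t * ·) e
      simp only [mul_add, h.2, mul_mul_zero ht.1, add_zero] at this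
      rw [eq_sub_iff_add_eq, add_comm, ← this]
    have r2 : s * (w * t) = t - w * (s * t) := by
      have := congrArg (· * t) e
      simp only [add_mul, mul_assoc, h.2, ht.1, mul_zero, zero_add] at this
      rw [eq_sub_iff_add_eq, ← this]
    have r3 : w * (s * t) + w * (t * s) = w := by
      have := congrArg (w * ·) e
      simpa only [mul_add, h'.2, mul_mul_zero hw.1, add_zero] using this
    have r4 : s * (t * w) = w - t * (s * w) := by
      have := congrArg (· * w) e
      simp only [add_mul, mul_assoc, h'.2, hw.1, mul_zero, zero_add] at this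
      rw [eq_sub_iff_add_eq, this]
    have a1 : y * t = -(s * (w * t)) := by rw [hy]; simp [sub_mul, mul_assoc, ht.1]
    have a2 : t * y = t * (w * s) := by rw [y2]; simp [mul_sub, mul_mul_zero ht.1]
    have a3 : s * (w * t) * (w * s) = t * (w * s) + w * (t * s) := by
      have : w * (s * t) * (w * s) = w * (s * (t * w)) * s := by simp only [mul_assoc]
      rw [r2, sub_mul, this, r4]
      simp [mul_sub, sub_mul, mul_assoc, hw.1, h'.1]
    rw [add_mul, one_mul, mul_sub, mul_one, add_mul, mul_assoc, a2, ← mul_assoc y, a1, neg_mul,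
      a3, r2]
    conv_rhs => rw [← r3]
    abel

theorem tr (hs : QS G s) (ht : QS G t) (hw : QS G w) (h : NP s t) (h' : NP s w) :
    ∃ u ∈ RG G s ⊔ RG G t ⊔ RG G w, u.1 * s * u⁻¹.1 = s ∧ u.1 * t * u⁻¹.1 = w := by
  obtain ⟨z, hz, ez⟩ := h.inv_mem hs ht
  obtain ⟨z', hz', ez'⟩ := h'.inv_mem hs hw
  have inv : ∀ {t} {z : GLm (ZMod p) M}, QS G t → NP s t → z.1 = 1 - (2 : ZMod p) • (s * t + t * s) →
      z * z = 1 ∧ z.1 * s = -s ∧ s * z.1 = -s := fun {t z} ht h e => by
    refine ⟨Units.ext ?_, ?_, ?_⟩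
    · rw [Units.val_mul, e]
      simp only [mul_sub, sub_mul, smul_mul_assoc, mul_smul_comm, h.idem hs.1 ht.1, one_mul,
        mul_one, Units.val_one]
      module
    · rw [e, sub_mul, smul_mul_assoc, h.e_left hs.1 ht.1 hs.mem]; module
    · rw [e, mul_sub, mul_smul_comm, h.e_right hs.1 ht.1 hs.mem]; module
  obtain ⟨z1, z2, z3⟩ := inv hw h' ez'
  obtain ⟨z4, z5, z6⟩ := inv ht h ez
  obtain ⟨d, hd⟩ : ∃ d, d = (z' * z).1 - 1 := ⟨_, rfl⟩
  have ds : d * s = 0 := by rw [hd, sub_mul, Units.val_mul, mul_assoc, z5, mul_neg, z2]; simp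
  have sd : s * d = 0 := by rw [hd, mul_sub, Units.val_mul, ← mul_assoc, z3, neg_mul, z6]; simp
  have d3 : d * (d * d) = 0 := by
    obtain ⟨r, hr⟩ : ∃ r, d = s * r + (2 : ZMod p) • ((w - t) * s) := by
      refine ⟨(2 : ZMod p) • (t - w) + (4 : ZMod p) • (w * (t * s)), ?_⟩
      rw [hd, Units.val_mul, ez, ez']
      simp only [mul_add, add_mul, mul_sub, sub_mul, mul_assoc, smul_mul_assoc, mul_smul_comm,
        mul_mul_zero hs.1, mul_mul_zero ht.1, h.l, h'.l, h.1, mul_one, one_mul, smul_zero, mul_zero]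
      module
    have : d * d = d * ((2 : ZMod p) • ((w - t) * s)) := by
      conv_lhs => congr; rfl; rw [hr]
      rw [mul_add, mul_mul_zero ds, zero_add]
    have e2 : d * (d * d) = d * d * d := (mul_assoc _ _ _).symm
    rw [e2, this]
    simp [mul_assoc, sd]
  have zp : (z' * z) ^ p = 1 := Units.ext (by
    have : Nontrivial (End (ZMod p) M) ∨ Subsingleton (End (ZMod p) M) := (subsingleton_or_nontrivial _).symm
    rcases this with _ | _
    · haveI : CharP (End (ZMod p) M) p := charP_of_injective_algebraMap (algebraMap (ZMod p) _).injective p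
      rw [Units.val_pow_eq_pow_val, ← add_sub_cancel 1 (z' * z).1, ← hd,
        add_pow_char_of_commute _ (Commute.one_left d),
        (pow_eq_zero_of_le (by omega : 3 ≤ p) (by rw [pow_three]; exact d3) : d ^ p = 0)]
      simp
    · exact Subsingleton.elim _ _)
  obtain ⟨k, hk⟩ := conj_odd z1 z4 (hp.out.odd_of_ne_two (by omega)) zp
  have m : (z' * z) ^ k ∈ RG G s ⊔ RG G t ⊔ RG G w := pow_mem (mul_mem
    ((sup_le (le_sup_of_le_left le_sup_left) le_sup_right : _ ≤ RG G s ⊔ RG G t ⊔ RG G w) hz')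
    (mem_sup_left hz)) k
  have mG := sup_le (sup_le (RG_le (G := G)) RG_le) RG_le m
  have c : ((z' * z) ^ k).1 * s = s * ((z' * z) ^ k).1 := by
    rw [Units.val_pow_eq_pow_val]
    refine Commute.pow_left ?_ k
    rw [← add_sub_cancel 1 (z' * z).1, ← hd]
    exact (Commute.one_left s).add_left (ds.trans sd.symm)
  generalize (z' * z) ^ k = u at hk m mG c
  have c' : u.1 * s * u⁻¹.1 = s := by rw [c, mul_assoc]; simp
  have h1 : NP s (u.1 * t * u⁻¹.1) := by
    rw [← c']; exact ⟨by simp [mul_assoc, h.l], by simp [mul_assoc, h.symm.l]⟩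
  have t0 : (2 : ZMod p) ≠ 0 := fun h3 => absurd (Nat.le_of_dvd two_pos
    ((ZMod.natCast_eq_zero_iff 2 p).1 (by exact_mod_cast h3))) (by omega)
  obtain ⟨v, hv, e1, e2⟩ := tr0 h5 hs (ht.conj mG) hw h1 h' (by
    have := congrArg Units.val hk
    rw [Units.val_mul, Units.val_mul, ez, ez', mul_sub, sub_mul, mul_one, Units.mul_inv,
      sub_right_inj, mul_smul_comm, smul_mul_assoc, smul_right_inj t0] at this
    rw [← this]
    conv_lhs => rw [← c']
    simp [mul_add, add_mul, mul_assoc])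
  refine ⟨v * u, mul_mem ((sup_le (sup_le (le_sup_of_le_left le_sup_left) ?_) le_sup_right :
    _ ≤ RG G s ⊔ RG G t ⊔ RG G w) hv) m, ?_, ?_⟩
  · rw [← RG_cj mG]; exact cj_le_of_mem m (le_sup_of_le_left le_sup_right)
  · rw [show (v * u).1 * s * (v * u)⁻¹.1 = v.1 * (u.1 * s * u⁻¹.1) * v⁻¹.1 by simp [mul_assoc],
      c', e1]
  · rw [← e2]; simp [mul_assoc]

end Lead.QfT
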