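import Cfsg.Agent.Lead.Qf0
import Cfsg.Agent.Lead.QfT
import Cfsg.Agent.H1.FTLib
import Cfsg.Agent.H1.Coprime

/-! Coprime fixed points and quadratic action: the linear core. -/

set_option autoImplicit false
set_option linter.unusedSectionVars false

open Subgroup Cfsg H16 H16.H11 Module H4
open scoped MatrixGroups

namespace Lead.Qf

/-- the stabiliser of a `K`-orbit -/
def os {G X : Type*} [Group G] [MulAction G X] (K : Subgroup G) (x : X) : Subgroup G where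
  carrier := {g | g ∈ N[K] ∧ ∃ k ∈ K, g • x = k • x}
  one_mem' := ⟨one_mem _, 1, one_mem _, rfl⟩
  mul_mem' := by
    rintro a b ⟨ha, k, hk, e⟩ ⟨hb, l, hl, e'⟩
    refine ⟨mul_mem ha hb, a * l * a⁻¹ * k, mul_mem ((mem_normalizer_iff.1 ha l).1 hl) hk, ?_⟩
    rw [mul_smul, e', mul_smul, ← e, ← mul_smul, ← mul_smul, inv_mul_cancel_right]
  inv_mem' := by
    rintro a ⟨ha, k, hk, e⟩
    refine ⟨inv_mem ha, a⁻¹ * k⁻¹ * a⁻¹⁻¹, (mem_normalizer_iff.1 (inv_mem ha) _).1 (inv_mem hk), ?_⟩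
    rw [inv_inv, mul_smul, e, mul_smul, inv_smul_smul]

theorem mem_of_sq {G : Type*} [Group G] {H : Subgroup G} {a : G} (ho : Odd (orderOf a))
    (h : a * a ∈ H) : a ∈ H := by
  obtain ⟨n, hn⟩ := ho
  have := pow_mem h (n + 1)
  rwa [← sq, ← pow_mul, show 2 * (n + 1) = orderOf a + 1 by omega, pow_succ, pow_orderOf_eq_one,
    one_mul] at this

/-- conjugation on endomorphisms -/
@[reducible] def cA (k M : Type*) [Field k] [AddCommGroup M] [Module k M] :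
    MulAction (GLm k M) (End k M) where
  smul g s := g.1 * s * g⁻¹.1
  one_smul s := by change (1 : End k M) * s * 1 = s; simp
  mul_smul g h s := by
    change (g * h).1 * s * (g * h)⁻¹.1 = g.1 * (h.1 * s * h⁻¹.1) * g⁻¹.1
    simp [mul_assoc]

/-- conjugation on subgroups -/
@[reducible] def sA (G : Type*) [Group G] : MulAction G (Subgroup G) where
  smul g H := H :^ g
  one_smul := cj_one
  mul_smul g h H := (cj_cj H h g).symm

variable {p : ℕ} [hp : Fact p.Prime] (h5 : 5 ≤ p) {M : Type*} [AddCommGroup M] [Module (ZMod p) M]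
  [Finite M] {G K A : Subgroup (GLm (ZMod p) M)} {s t w x y : End (ZMod p) M}
  {a g : GLm (ZMod p) M}

instance : Finite (End (ZMod p) M) := Finite.of_injective _ (DFunLike.coe_injective' (F := End (ZMod p) M))

theorem one_add_pow (h : x * x = 0) (n : ℕ) : (1 + x) ^ n = 1 + (n : ZMod p) • x := by
  induction n with
  | zero => simp
  | succ n ih => rw [pow_succ, ih]; simp [add_mul, mul_add, h, add_smul, add_assoc, add_comm]

theorem qs_of (ha : a ∈ G) (h : (a.1 - 1) * (a.1 - 1) = 0) : QS G (a.1 - 1) :=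
  ⟨h, fun c => ⟨a ^ c.val, pow_mem ha _, by
    rw [Units.val_pow_eq_pow_val, ← add_sub_cancel 1 a.1, one_add_pow h]; simp⟩⟩

theorem RG_le_K (hq : ∀ g ∈ G, g ^ p = 1 → g ∈ K) : RG G s ≤ K := fun g hg =>
  hq g (RG_le hg) (Units.ext (by
    rw [Units.val_pow_eq_pow_val, ← add_sub_cancel 1 g.1, one_add_pow hg.1.1]; simp))

theorem cj_cj' (g h : GLm (ZMod p) M) (x : End (ZMod p) M) :
    g.1 * (h.1 * x * h⁻¹.1) * g⁻¹.1 = (g * h).1 * x * (g * h)⁻¹.1 := by simp [mul_assoc]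

theorem np_cj (h : NP s t) (g : GLm (ZMod p) M) : NP (g.1 * s * g⁻¹.1) (g.1 * t * g⁻¹.1) :=
  ⟨by simp [mul_assoc, h.l], by simp [mul_assoc, h.symm.l]⟩

include h5

theorem k2 : ringChar (ZMod p) ≠ 2 := by rw [ZMod.ringChar_zmod_n]; omega

theorem k3 : Nat.card (ZMod p) ≠ 3 := by rw [Nat.card_zmod]; omega

theorem nn (hs : Mn G s) (ht : Mn G t) (h : NP s t) (hx : x ∈ ES G s) (x0 : x ≠ 0) :
    ∃ u ∈ RG G s ⊔ RG G t, u.1 * t * u⁻¹.1 = -(x * t * x) := by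
  obtain ⟨x', h1, h0, h2⟩ := (h.opp.symm.congr ht hs ht.qs.mem ht.ne hx x0).np (k2 h5) (k3 h5) ht
    (hs.of_mem hx x0)
  refine ⟨ex x hx.1.1 * (ex x' h1.1.1)⁻¹ * ex x hx.1.1, mul_mem (mul_mem (mem_sup_left (ex_mem hx))
    (mem_sup_right (inv_mem (ex_mem h1)))) (mem_sup_left (ex_mem hx)), ?_⟩
  change (1 + x) * (1 - x') * (1 + x) * t * ((1 - x) * ((1 + x') * (1 - x))) = _
  have t1 : t ∈ ES G x' := ht.mem_symm h1 h0
  have e1 := h2.e_left h1.1.1 hx.1.1 t1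
  have e2 := h2.e_right h1.1.1 hx.1.1 t1
  have e3 := ES_mul h1 ht.qs.mem
  have e4 := ES_mul ht.qs.mem h1
  have a1 : (1 + x) * (1 - x') * (1 + x) * t = x * t := by
    have : (1 + x) * (1 - x') * (1 + x) = 1 - (x' * x + x * x') + x - x' := by
      simp only [mul_add, add_mul, mul_sub, sub_mul, mul_assoc, hx.1.1, h2.2, mul_one, one_mul]; abel
    rw [this, sub_mul, add_mul, sub_mul, e1, e3]; simp
  have a2 : t * ((1 - x) * ((1 + x') * (1 - x))) = -(t * x) := by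
    have : (1 - x) * ((1 + x') * (1 - x)) = 1 - (x' * x + x * x') - x + x' := by
      simp only [mul_add, add_mul, mul_sub, sub_mul, mul_assoc, hx.1.1, h2.2, mul_one, one_mul]; abel
    rw [this, mul_add, mul_sub, mul_sub, e2, e4]; simp
  rw [a1, mul_assoc, a2, mul_neg, mul_assoc]

theorem orb (hs : Mn G s) (ht : Mn G t) (h : NP s t) (hx : x ∈ ES G s) (x0 : x ≠ 0) :
    ∃ u ∈ RG G s ⊔ RG G t, u.1 * s * u⁻¹.1 = x * t * x := by
  obtain ⟨u, hu, e⟩ := nn h5 hs ht h hx x0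
  obtain ⟨v, hv, e'⟩ := nn h5 hs ht h hs.qs.mem hs.ne
  rw [mul_assoc s, h.1] at e'
  refine ⟨u * v⁻¹, mul_mem hu (inv_mem hv), ?_⟩
  rw [← cj_cj', ← neg_neg s, ← e', mul_neg, neg_mul, cj_cj', inv_mul_cancel]
  simp only [Units.val_one, inv_one, one_mul, mul_one, mul_neg, neg_mul, e, neg_neg]

theorem uq (hs : Mn G s) (ht : Mn G t) (h : Opp s t) (hx : x ∈ ES G s) (hy : y ∈ ES G t) :
    x * y * x ∈ ES G s := by
  by_cases x0 : x = 0
  · simp [x0]
  by_cases y0 : y = 0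
  · simp [y0]
  have m := ht.of_mem hy y0
  obtain ⟨s', h1, h0, h2⟩ := (h.congr hs ht hs.qs.mem hs.ne hy y0).np (k2 h5) (k3 h5) hs m
  obtain ⟨u, hu, e⟩ := nn h5 (hs.of_mem h1 h0) m h2 (hs.ES_eq h1 h0 ▸ hx) x0
  have := (m.qs.conj (sup_le (RG_le (G := G)) RG_le hu)).neg
  rw [e, neg_neg] at this
  refine mem_ES hs.qs.1 this (hx.2.1.trans (ker_le_mul _ _)) ?_
  rw [mul_assoc]; exact (range_mul_le _ _).trans hx.2.2.1

theorem fib (hs : Mn G s) (ht : Mn G t) (h : NP s t) (hx : x ∈ ES G s) (hy : y ∈ ES G s)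
    (e : x * t * x = y * t * y) : x = y ∨ x = -y := by
  let W := LinearMap.range s
  let J : AddSubgroup (End (ZMod p) W) :=
    { carrier := {f | ∃ x ∈ ES G s, ∀ m : W, (f m : M) = x (t m)}
      zero_mem' := ⟨0, zero_mem _, fun m => by simp⟩
      add_mem' := by
        rintro f g ⟨x, hx, e⟩ ⟨y, hy, e'⟩
        exact ⟨x + y, add_mem hx hy, fun m => by simp [e, e']⟩
      neg_mem' := by
        rintro f ⟨x, hx, e⟩
        exact ⟨-x, neg_mem hx, fun m => by simp [e]⟩ }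
  have inj : ∀ x ∈ ES G s, x ≠ 0 → ∀ m : W, x (t m) = 0 → m = 0 := by
    rintro x hx x0 ⟨_, v, rfl⟩ e
    have : s (t (s v)) = 0 := (hs.ker_mem hx x0).le e
    exact Subtype.ext ((congrArg (· v) h.1).symm.trans this)
  have ex : ∀ x ∈ ES G s, ∃ f : End (ZMod p) W, ∀ m : W, (f m : M) = x (t m) := fun x hx =>
    ⟨(x * t).restrict (p := W) (q := W) fun m _ => hx.2.2.1 ⟨t m, rfl⟩, fun _ => rfl⟩
  obtain ⟨U, hU⟩ := ex _ (sub_mem hx hy)
  obtain ⟨V, hV⟩ := ex _ (add_mem hx hy)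
  have z : ∀ x ∈ ES G s, (∀ m : W, (((0 : End (ZMod p) W) m : W) : M) = x (t m)) → x = 0 :=
    fun x hx e => by_contra fun x0 => hs.ne (LinearMap.ext fun v =>
      congrArg Subtype.val (inj x hx x0 ⟨s v, v, rfl⟩ (e _).symm))
  refine (QfT.jd (R := End (ZMod p) W) ?_ J ⟨s, hs.qs.mem, ?_⟩ ?_ ?_ ⟨_, sub_mem hx hy, hU⟩
    ⟨_, add_mem hx hy, hV⟩ ?_).imp (fun e => sub_eq_zero.1 (z _ (sub_mem hx hy) (by subst e; exact hU)))
    fun e => eq_neg_of_add_eq_zero_left (z _ (add_mem hx hy) (by subst e; exact hV))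
  · rw [Module.natCard_eq_pow_finrank (K := ZMod p), Nat.card_zmod]
    exact (hp.out.odd_of_ne_two (by omega)).pow
  · rintro ⟨_, v, rfl⟩
    exact (congrArg (· v) h.1).symm
  · rintro f ⟨x, hx, e⟩ g ⟨y, hy, e'⟩
    exact ⟨_, uq h5 hs ht h.opp hx (uq h5 ht hs h.opp.symm ht.qs.mem hy), fun m => by
      simp [e, e']⟩
  · rintro f ⟨x, hx, e⟩ r hr
    by_cases x0 : x = 0
    · exact .inl (LinearMap.ext fun m => Subtype.ext (by simp [e, x0]))
    · refine .inr (LinearMap.ext fun m => inj x hx x0 _ ?_)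
      rw [← e, ← End.mul_apply, hr]; rfl
  · refine LinearMap.ext fun m => Subtype.ext ?_
    have := congrArg (· (t m)) e
    simp only [End.mul_apply] at this
    simp only [End.mul_apply, LinearMap.neg_apply, Submodule.coe_neg, hU, hV, LinearMap.sub_apply,
      LinearMap.add_apply, map_add, map_sub, this]
    abel

theorem half (hG : WI G) (hq : ∀ g ∈ G, g ^ p = 1 → g ∈ K) (hs : Mn G s) (hy : y ∈ ES G s)
    (y0 : y ≠ 0) : ({x | x ∈ ES G s ∧ x ≠ 0} : Set _).ncard ≤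
      2 * ({x | (x ∈ ES G s ∧ x ≠ 0) ∧ ∃ k ∈ K, x = k.1 * y * k⁻¹.1} : Set _).ncard := by
  classical
  have hm := hs.of_mem hy y0
  obtain ⟨t, ht, h⟩ := exists_np (k2 h5) (k3 h5) hG hm
  rw [← hs.ES_eq hy y0, Set.ncard_eq_toFinset_card _ (Set.toFinite _),
    Set.ncard_eq_toFinset_card _ (Set.toFinite _)]
  refine Finset.card_le_mul_card_image_of_maps_to (f := fun x => x * t * x) (fun x hx => ?_) 2
    fun b _ => ?_
  · rw [Set.Finite.mem_toFinset] at hx ⊢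
    obtain ⟨u, hu, e⟩ := orb h5 hm ht h hx.1 hx.2
    have hu' := sup_le (RG_le (G := G)) RG_le hu
    refine ⟨⟨mem_ES hm.qs.1 (e ▸ hm.qs.conj hu') (hx.1.2.1.trans (ker_le_mul _ _)) ?_,
      e ▸ (hm.conj hu').ne⟩, u, sup_le (RG_le_K hq) (RG_le_K hq) hu, e.symm⟩
    rw [mul_assoc]; exact (range_mul_le _ _).trans hx.1.2.2.1
  · by_cases hn : ∃ x ∈ ES G y, x * t * x = b
    · obtain ⟨x, hx, rfl⟩ := hn
      refine (Finset.card_le_card (t := {x, -x}) fun z hz => ?_).trans Finset.card_le_two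
      rw [Finset.mem_filter, Set.Finite.mem_toFinset] at hz
      simpa using fib h5 hm ht h hz.1.1 hx hz.2
    · refine (Finset.card_eq_zero.2 (Finset.eq_empty_of_forall_notMem fun z hz => ?_)).trans_le
        (zero_le_two)
      rw [Finset.mem_filter, Set.Finite.mem_toFinset] at hz
      exact hn ⟨z, hz.1.1, hz.2⟩

theorem three (hG : WI G) (hq : ∀ g ∈ G, g ^ p = 1 → g ∈ K) (hs : Mn G s) (hx : x ∈ ES G s)
    (x0 : x ≠ 0) (hy : y ∈ ES G s) (y0 : y ≠ 0) : (∃ k ∈ K, x = k.1 * s * k⁻¹.1) ∨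
      (∃ k ∈ K, y = k.1 * s * k⁻¹.1) ∨ ∃ k ∈ K, y = k.1 * x * k⁻¹.1 := by
  by_contra hc
  push Not at hc
  let O : End (ZMod p) M → Set (End (ZMod p) M) := fun y =>
    {x | (x ∈ ES G s ∧ x ≠ 0) ∧ ∃ k ∈ K, x = k.1 * y * k⁻¹.1}
  have d : ∀ x y, (∀ k ∈ K, y ≠ k.1 * x * k⁻¹.1) → Disjoint (O x) (O y) := fun x y h =>
    Set.disjoint_left.2 fun z ⟨_, k, hk, e⟩ ⟨_, l, hl, e'⟩ => h (l⁻¹ * k)
      (mul_mem (inv_mem hl) hk) (by rw [← cj_cj', ← e, e', cj_cj', inv_mul_cancel]; simp)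
  have h1 : (O s ∪ O x ∪ O y).ncard ≤ ({x | x ∈ ES G s ∧ x ≠ 0} : Set _).ncard :=
    Set.ncard_le_ncard (by rintro z ((h | h) | h) <;> exact h.1)
  rw [Set.ncard_union_eq (Set.disjoint_union_left.2 ⟨d _ _ hc.2.1, d _ _ hc.2.2⟩),
    Set.ncard_union_eq (d _ _ hc.1)] at h1
  have h2 := half h5 hG hq hs hs.qs.mem hs.ne
  have h3 := half h5 hG hq hs hx x0
  have h4 := half h5 hG hq hs hy y0
  have h6 : 0 < ({x | x ∈ ES G s ∧ x ≠ 0} : Set _).ncard :=
    (Set.ncard_pos (Set.toFinite _)).2 ⟨s, hs.qs.mem, hs.ne⟩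
  simp only [O] at h1
  omega

theorem l1 (hG : WI G) (hK : K ≤ G) (hq : ∀ g ∈ G, g ^ p = 1 → g ∈ K) (hs : Mn G s) (ha : a ∈ G)
    (ho : Odd (orderOf a)) (h : a ∈ @os _ _ _ (sA _) K (RG G s)) :
    a ∈ @os _ _ _ (cA _ _) K s := by
  have key : ∀ a ∈ G, a ∈ @os _ _ _ (sA _) K (RG G s) → ∃ k ∈ K,
      (k * a).1 * s * (k * a)⁻¹.1 ∈ ES G s ∧ (k * a).1 * s * (k * a)⁻¹.1 ≠ 0 := by
    rintro a ha ⟨-, k, hk, e⟩
    have m := mul_mem (inv_mem (hK hk)) ha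
    refine ⟨k⁻¹, inv_mem hk, ?_, (hs.conj m).ne⟩
    have e' : RG G s :^ (k⁻¹ * a) = RG G s := by
      rw [← cj_cj, show RG G s :^ a = RG G s :^ k from e, cj_cj_inv]
    rw [RG_cj m] at e'
    exact ES_of_RG e'.le (hs.conj m).qs.mem
  have fin : ∀ a ∈ N[K], ∀ k ∈ K, ∀ l ∈ K, (k * a).1 * s * (k * a)⁻¹.1 = l.1 * s * l⁻¹.1 →
      a ∈ @os _ _ _ (cA _ _) K s := fun a ha k hk l hl e =>
    ⟨ha, k⁻¹ * l, mul_mem (inv_mem hk) hl, by
      change a.1 * s * a⁻¹.1 = (k⁻¹ * l).1 * s * (k⁻¹ * l)⁻¹.1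
      rw [← cj_cj', ← e, cj_cj', inv_mul_cancel_left]⟩
  obtain ⟨k, hk, h1, h2⟩ := key a ha h
  obtain ⟨l, hl, h3, h4⟩ := key (a * a) (mul_mem ha ha) (mul_mem h h)
  rcases three h5 hG hq hs h1 h2 h3 h4 with ⟨m, hm, e⟩ | ⟨m, hm, e⟩ | ⟨m, hm, e⟩
  · exact fin a h.1 k hk m hm e
  · exact mem_of_sq ho (fin _ (mul_mem h.1 h.1) l hl m hm e)
  · have n : ∀ c ∈ K, a⁻¹ * c * a⁻¹⁻¹ ∈ K := fun c hc => (mem_normalizer_iff.1 (inv_mem h.1) c).1 hc
    refine fin a h.1 _ (n l hl) _ (n _ (mul_mem hm hk)) ?_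
    rw [show a⁻¹ * l * a⁻¹⁻¹ * a = a⁻¹ * (l * (a * a)) by group,
      show a⁻¹ * (m * k) * a⁻¹⁻¹ = a⁻¹ * (m * (k * a)) by group, ← cj_cj' a⁻¹, ← cj_cj' a⁻¹,
      ← cj_cj' m, e]

theorem cent_of (hG : WI G) (hq : ∀ g ∈ G, g ^ p = 1 → g ∈ K) (hs : Mn G s) (ht : Mn G t)
    (h : ∀ k ∈ K, RG G t ≠ RG G s :^ k) : RG G t ≤ C[RG G s] := by
  refine cent_of_not_cmp (k2 h5) (k3 h5) hG ht.sigma hs.sigma fun hc => ?_
  obtain ⟨g, hg, e⟩ := conj_of_rtg hc.2
  have : g ∈ K := (iSup₂_le fun B hB => by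
    obtain ⟨u, -, rfl⟩ := mem_sigma.1 hB.1
    exact RG_le_K hq : (⨆ C ∈ _, C) ≤ K) hg
  exact h g⁻¹ (inv_mem this) (by rw [e, cj_cj_inv])

theorem fixed_pair (hG : WI G) (hK : K ≤ G) (hA : A ≤ G) (hn : G ≤ N[K])
    (hc : (Nat.card A).Coprime (Nat.card K)) (hq : ∀ g ∈ G, g ^ p = 1 → g ∈ K) (hs : Mn G s) :
    ∃ s t, Mn G s ∧ Mn G t ∧ NP s t ∧ ∀ a ∈ A, (∃ k ∈ K, RG G s :^ a = RG G s :^ k) →
      a.1 * s * a⁻¹.1 = s ∧ a.1 * t * a⁻¹.1 = t := by
  have ho : Odd (Nat.card A) := by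
    obtain ⟨t, ht, h⟩ := exists_np (k2 h5) (k3 h5) hG hs
    obtain ⟨i, hi, e⟩ := h.inv_mem hs.qs ht.qs
    have t0 : (2 : ZMod p) ≠ 0 := Ring.two_ne_zero (k2 h5)
    have i2 : orderOf i = 2 := orderOf_eq_prime (Units.ext (by
      rw [sq, Units.val_mul, e]
      simp only [mul_sub, sub_mul, smul_mul_assoc, mul_smul_comm, h.idem hs.qs.1 ht.qs.1, one_mul,
        mul_one, Units.val_one]
      module)) fun h1 => hs.ne (by
        rw [h1, Units.val_one, eq_comm, sub_eq_self, smul_eq_zero_iff_right t0] at e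
        rw [← h.e_left hs.qs.1 ht.qs.1 hs.qs.mem, e, zero_mul])
    have := (sup_le (RG_le_K hq) (RG_le_K hq) hi : i ∈ K)
    exact (Nat.coprime_two_right.1 (Nat.Coprime.coprime_dvd_right
      (i2 ▸ orderOf_dvd_natCard K this) hc))
  let B := A ⊓ @os _ _ _ (sA _) K (RG G s)
  have hB : Group.IsSolvable B := H1.ft_odd (ho.of_dvd_nat (card_dvd_of_le inf_le_left))
  have cB : (Nat.card B).Coprime (Nat.card K) :=
    Nat.Coprime.coprime_dvd_left (card_dvd_of_le inf_le_left) hc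
  have nB : B ≤ N[K] := inf_le_left.trans (hA.trans hn)
  obtain ⟨k, hk, h1⟩ := @H1.glauberman_exists _ _ _ _ (cA _ _) B K nB cB (.inl hB) s fun a ha =>
    (l1 h5 hG hK hq hs (hA ha.1) (ho.of_dvd_nat (orderOf_dvd_natCard A ha.1)) ha.2).2
  have hs1 := hs.conj (hK hk)
  change ∀ a ∈ B, a.1 * (k.1 * s * k⁻¹.1) * a⁻¹.1 = k.1 * s * k⁻¹.1 at h1
  have e1 := RG_cj (s := s) (hK hk)
  generalize k.1 * s * k⁻¹.1 = s1 at hs1 h1 e1
  obtain ⟨t, ht, h⟩ := exists_np (k2 h5) (k3 h5) hG hs1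
  let K1 := K ⊓ @MulAction.stabilizer _ _ _ (cA _ _) s1
  have n1 : B ≤ N[K1] := fun b hb => le_norm_iff_cj.2 (fun b hb => cj_le_forall.2 fun c hc =>
    (mem_inf (p := K) (p' := @MulAction.stabilizer _ _ _ (cA _ _) s1)).2
      ⟨(mem_normalizer_iff.1 (nB hb) c).1 hc.1, (@MulAction.stabilizer _ _ _ (cA _ _) s1).mul_mem
        ((@MulAction.stabilizer _ _ _ (cA _ _) s1).mul_mem (h1 b hb) hc.2) (h1 _ (inv_mem hb))⟩) hb
  obtain ⟨u, hu, h2⟩ := @H1.glauberman_exists _ _ _ _ (cA _ _) B K1 n1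
    (Nat.Coprime.coprime_dvd_right (card_dvd_of_le inf_le_left) cB) (.inl hB) t fun b hb => by
      have := np_cj h b
      rw [h1 b hb] at this
      obtain ⟨u, hu, e, e'⟩ := QfT.tr h5 hs1.qs ht.qs (ht.qs.conj (hA hb.1)) h this
      exact ⟨u, ⟨sup_le (sup_le (RG_le_K hq) (RG_le_K hq)) (RG_le_K hq) hu, e⟩, e'.symm⟩
  have h3 := np_cj h u
  rw [show u.1 * s1 * u⁻¹.1 = s1 from hu.2] at h3
  refine ⟨s1, _, hs1, ht.conj (hK hu.1), h3, fun a ha ⟨l, hl, e⟩ => ?_⟩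
  have : a ∈ B := ⟨ha, hn (hA ha), a * k⁻¹ * a⁻¹ * (l * k), mul_mem
    ((mem_normalizer_iff.1 (hn (hA ha)) _).1 (inv_mem hk)) (mul_mem hl hk), by
      change RG G s :^ a = RG G s :^ _
      rw [← cj_cj _ (l * k), ← cj_cj _ k l, e1, ← e, ← e1, cj_cj, cj_cj]; congr 3; group⟩
  exact ⟨h1 a this, h2 a this⟩

omit h5 in
theorem sec_of_hom (h5 : 5 ≤ p) {X : Type*} [Group X] {H : Subgroup X} (ψ : SL(2, ZMod p) →* X)
    (h : ∀ x, ψ x ∈ H) (h1 : ψ (upT 1) ≠ 1) : IsSec PSL(2, ZMod p) H := by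
  have hc : 4 ≤ Fintype.card (ZMod p) := by rw [ZMod.card]; omega
  have hs := H22.PSL_fin_isSimpleGroup (F := ZMod p) 2 le_rfl fun _ => hc
  let π := QuotientGroup.mk' (center SL(2, ZMod p))
  have hπ : Function.Surjective π := QuotientGroup.mk'_surjective _
  have hk : ψ.ker ≤ π.ker := by
    rcases hs.eq_bot_or_eq_top_of_normal (ψ.ker.map π) (Normal.map inferInstance π hπ) with e | e
    · exact (Subgroup.map_eq_bot_iff _).1 e
    · refine absurd (?_ : upT 1 ∈ ψ.ker) h1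
      have : commutator SL(2, ZMod p) ≤ ψ.ker := by
        rw [commutator_def, commutator_le]
        intro x _ y _
        obtain ⟨a, ha, ea⟩ : π x ∈ ψ.ker.map π := e ▸ mem_top _
        have hz : a⁻¹ * x ∈ center SL(2, ZMod p) := QuotientGroup.eq.1 ea
        have : ψ x = ψ (a⁻¹ * x) := by rw [map_mul, map_inv, show ψ a = 1 from ha]; simp
        rw [MonoidHom.mem_ker, map_commutatorElement, commutatorElement_eq_one_iff_mul_comm, this,
          ← map_mul, ← map_mul, mem_center_iff.1 hz y]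
      rw [H22.commutator_SL_fin_eq_top 2 fun _ => hc] at this
      exact this trivial
  refine ⟨ψ.range, (QuotientGroup.lift ψ.ker π hk).comp
    (QuotientGroup.quotientKerEquivRange ψ).symm.toMonoidHom, by rintro _ ⟨x, rfl⟩; exact h x, ?_⟩
  intro y
  obtain ⟨x, rfl⟩ := hπ y
  refine ⟨QuotientGroup.quotientKerEquivRange ψ x, ?_⟩
  rw [MonoidHom.comp_apply, MulEquiv.coe_toMonoidHom, MulEquiv.symm_apply_apply]; rfl

omit h5 in
theorem diag {X Y : Type*} [Group X] [Group Y] [Finite Y] {K A : Subgroup Y} (hA : A ≤ N[K])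
    (φ : X →* Y) (hK : ∀ x, φ x ∈ K)
    (hc : ∀ a ∈ A, (∀ x, a * φ x * a⁻¹ = φ x) ∨ ∀ x y, Commute (φ x) (a * φ y * a⁻¹)) :
    ∃ ψ : X →* Y, (∀ x, ψ x ∈ K ⊓ C[A]) ∧ ∀ x, ψ x = 1 → ∀ y, Commute (φ x) (φ y) := by
  classical
  let F : Y → X →* Y := fun a => (MulAut.conj a).toMonoidHom.comp φ
  have FF : ∀ a x, F a x = a * φ x * a⁻¹ := fun _ _ => rfl
  let I : Finset (X →* Y) := (Set.toFinite (A : Set Y)).toFinset.image F
  have mI : ∀ f, f ∈ I ↔ ∃ a ∈ A, F a = f := fun f => by simp [I]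
  have cm : ∀ f ∈ I, ∀ g ∈ I, f ≠ g → ∀ x y, Commute (f x) (g y) := fun f hf g hg h x y => by
    obtain ⟨a, ha, rfl⟩ := (mI f).1 hf
    obtain ⟨b, hb, rfl⟩ := (mI g).1 hg
    rcases hc _ (mul_mem (inv_mem ha) hb) with e | e
    · refine absurd (MonoidHom.ext fun x => ?_) h
      rw [FF, FF]
      conv_lhs => rw [← e x]
      group
    · have := (e x y).conj a
      rw [FF, FF]; convert this using 1; group
  let ψ : X →* Y := (MonoidHom.noncommPiCoprod (fun f : I => f.1) fun f g h =>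
    cm _ f.2 _ g.2 fun e => h (Subtype.ext e)).comp (Pi.constMonoidHom I X)
  have pw : ∀ x, ((Finset.univ : Finset I) : Set I).Pairwise
      (Function.onFun Commute fun f : I => f.1 x) := fun x f _ g _ h =>
    cm _ f.2 _ g.2 (fun e => h (Subtype.ext e)) x x
  have hψ : ∀ x, ψ x = Finset.univ.noncommProd (fun f : I => f.1 x) (pw x) := fun x => rfl
  refine ⟨ψ, fun x => ⟨?_, fun a ha => ?_⟩, fun x hx y => ?_⟩
  · rw [hψ]
    refine Subgroup.noncommProd_mem _ _ fun f _ => ?_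
    obtain ⟨a, ha, e⟩ := (mI _).1 f.2
    rw [← e, FF]
    exact (mem_normalizer_iff.1 (hA ha) _).1 (hK x)
  · let σ : I → I := fun f => ⟨(MulAut.conj a).toMonoidHom.comp f.1, by
      obtain ⟨b, hb, e⟩ := (mI _).1 f.2
      exact (mI _).2 ⟨a * b, mul_mem ha hb, MonoidHom.ext fun x => by
        rw [← e]; simp [FF, mul_assoc]⟩⟩
    have hσ : Function.Bijective σ := Finite.injective_iff_bijective.1 fun f g h =>
      Subtype.ext (MonoidHom.ext fun x => (MulAut.conj a).injective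
        (DFunLike.congr_fun (congrArg Subtype.val h) x))
    have key : ∀ (m m' : Multiset Y) (_ : m = m') c c', m.noncommProd c = m'.noncommProd c' := by
      rintro m _ rfl c c'; rfl
    rw [← mul_inv_eq_iff_eq_mul]
    change (MulAut.conj a).toMonoidHom (ψ x) = ψ x
    rw [hψ, Finset.map_noncommProd]
    refine key _ _ ?_ _ _
    change Finset.univ.val.map ((fun f : I => f.1 x) ∘ σ) = _
    rw [← Multiset.map_map]
    exact congrArg _ (Multiset.map_univ_val_equiv (Equiv.ofBijective σ hσ))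
  · have h1 : φ ∈ I := (mI _).2 ⟨1, one_mem _, MonoidHom.ext fun x => by simp [FF]⟩
    rw [hψ, ← Finset.mul_noncommProd_erase _ (Finset.mem_univ (⟨φ, h1⟩ : I))] at hx
    rw [eq_inv_of_mul_eq_one_left hx]
    refine (Finset.noncommProd_commute _ _ _ _ fun f hf => ?_).symm.inv_left
    exact cm _ h1 _ f.2 (fun e => (Finset.mem_erase.1 hf).1 (Subtype.ext e.symm)) _ _

theorem core : Core p := by
  intro M _ _ _ G K A hi hK hA hn hc hq a ha a1 h2
  have hG := wi_of hi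
  obtain ⟨s0, hs0⟩ : ∃ s, Mn G s := by
    classical
    have ex : ∃ n, ∃ s, QS G s ∧ s ≠ 0 ∧ rk s = n := ⟨_, _, qs_of ha h2, sub_ne a1, rfl⟩
    obtain ⟨s, h1, h2, h3⟩ := Nat.find_spec ex
    exact ⟨s, h1, h2, fun t ht t0 => h3 ▸ Nat.find_min' ex ⟨t, ht, t0, rfl⟩⟩
  obtain ⟨s, t, hs, ht, h, hf⟩ := fixed_pair h5 hG hK hA hn hc hq hs0
  obtain ⟨φ, h1, h2, h3⟩ := sl2_hom (algebraMap (ZMod p) (End (ZMod p) M)).toAddMonoidHom hs.qs.1
    ht.qs.1 h.1 h.2 (algebraMap (ZMod p) (End (ZMod p) M)).map_mul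
    (fun a => (Algebra.commutes a s).symm) (fun a => (Algebra.commutes a t).symm) (by simp) (by simp)
    (fun a ha => (smul_eq_zero.1 ((Algebra.smul_def a s).trans ha)).resolve_right hs.ne)
  replace h2 : ∀ c, (φ (upT c)).1 = 1 + c • s := fun c => by rw [h2, Algebra.smul_def]; rfl
  replace h3 : ∀ c, (φ (loT c)).1 = 1 + c • t := fun c => by rw [h3, Algebra.smul_def]; rfl
  have gen : ∀ H : Subgroup (GLm (ZMod p) M), (∀ c, φ (upT c) ∈ H) → (∀ c, φ (loT c) ∈ H) →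
      ∀ x, φ x ∈ H := fun H a b x =>
    (sl2_eq_top_of_upT_loT (H := H.comap φ) a b).ge (mem_top x)
  have m : ∀ x, φ x ∈ RG G s ⊔ RG G t := gen _
    (fun c => mem_sup_left (by rw [mem_RG, h2, add_sub_cancel_left]; exact Submodule.smul_mem _ c hs.qs.mem))
    (fun c => mem_sup_right (by rw [mem_RG, h3, add_sub_cancel_left]; exact Submodule.smul_mem _ c ht.qs.mem))
  obtain ⟨ψ, p1, p2⟩ := diag (hA.trans hn) φ (fun x => sup_le (RG_le_K hq) (RG_le_K hq) (m x))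
    fun a ha => by
      by_cases hb : ∃ k ∈ K, RG G s :^ a = RG G s :^ k
      · obtain ⟨e1, e2⟩ := hf a ha hb
        have : ∀ (g : GLm (ZMod p) M) (c : ZMod p) (u : End (ZMod p) M), g.1 = 1 + c • u →
            a.1 * u * a⁻¹.1 = u → g ∈ C1[a] := fun g c u e e' =>
          mem_centralizer_singleton_iff.2 (mul_inv_eq_iff_eq_mul.1 (Units.ext (by
            rw [Units.val_mul, Units.val_mul, e, mul_add, add_mul, mul_smul_comm, smul_mul_assoc, e']
            simp))).symm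
        exact .inl fun x => mul_inv_eq_iff_eq_mul.2 (mem_centralizer_singleton_iff.1
          (gen _ (fun c => this _ _ _ (h2 c) e1) (fun c => this _ _ _ (h3 c) e2) x)).symm
      · push Not at hb
        have hG' := hA ha
        have nk : ∀ c ∈ K, a * c * a⁻¹ ∈ K := fun c hc => (mem_normalizer_iff.1 (hn hG') c).1 hc
        have ts : ∃ k ∈ K, RG G t = RG G s :^ k := ⟨(ex s hs.qs.1)⁻¹ * ex t ht.qs.1,
          mul_mem (inv_mem (RG_le_K hq (ex_mem hs.qs.mem))) (RG_le_K hq (ex_mem ht.qs.mem)), by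
            rw [← cj_cj, h.cj_eq hs.qs ht.qs, cj_cj_inv]⟩
        have key : ∀ u v, Mn G u → Mn G v → (∃ k ∈ K, RG G u = RG G s :^ k) →
            (∃ k ∈ K, RG G v = RG G s :^ k) → RG G v :^ a ≤ C[RG G u] := by
          rintro u v hu hv ⟨k, hk, e⟩ ⟨l, hl, e'⟩
          rw [RG_cj hG']
          refine cent_of h5 hG hq hu (hv.conj hG') fun c hc e'' => hb ((a * l * a⁻¹)⁻¹ * (c * k))
            (mul_mem (inv_mem (nk l hl)) (mul_mem hc hk)) ?_
          rw [← RG_cj hG', e, e', cj_cj, cj_cj] at e''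
          rw [← cj_cj, ← e'', cj_cj]; congr 3; group
        have ss : ∃ k ∈ K, RG G s = RG G s :^ k := ⟨1, one_mem _, (cj_one _).symm⟩
        have : (RG G s ⊔ RG G t) :^ a ≤ C[RG G s ⊔ RG G t] := by
          refine cent_symm (sup_le (cent_symm ?_) (cent_symm ?_)) <;> rw [cj_sup]
          exacts [sup_le (key _ _ hs hs ss ss) (key _ _ hs ht ss ts),
            sup_le (key _ _ ht hs ts ss) (key _ _ ht ht ts ts)]
        exact .inr fun x y => this (cj_mem (m y)) _ (m x)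
  refine sec_of_hom h5 ψ p1 fun e => ?_
  have := congrArg (fun g : SL(2, ZMod p) => g.1 0 0) (h1 (by
    simpa only [map_mul] using (p2 _ e (loT 1)).eq : φ (upT 1 * loT 1) = φ (loT 1 * upT 1)))
  change (!![1, 1; 0, 1] * !![1, 0; 1, 1] : Matrix (Fin 2) (Fin 2) (ZMod p)) 0 0 =
    (!![1, 0; 1, 1] * !![1, 1; 0, 1] : Matrix (Fin 2) (Fin 2) (ZMod p)) 0 0 at this
  simp [Matrix.mul_apply, Fin.sum_univ_two] at this

end Lead.Qf
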