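import Mathlib
import Cfsg.Prelude.Def_Sporadic_a
/-! Steiner systems: block counts and intersection triangles. -/
set_option autoImplicit false
namespace Lead.St
open Finset Cfsg
variable {α : Type*} [Fintype α] [DecidableEq α] {t k : ℕ} {B : Set (Finset α)}

open Classical in
/-- blocks containing `s` and missing `u` -/
noncomputable def NF (B : Set (Finset α)) (s u : Finset α) : Finset (Finset α) :=
  univ.filter fun b : Finset α => b ∈ B ∧ s ⊆ b ∧ Disjoint u b

theorem mem_NF {s u b : Finset α} : b ∈ NF B s u ↔ b ∈ B ∧ s ⊆ b ∧ Disjoint u b := by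
  simp [NF]

noncomputable def N (B : Set (Finset α)) (s u : Finset α) : ℕ := (NF B s u).card

theorem N_step (s u : Finset α) (x : α) :
    N B s u = N B (insert x s) u + N B s (insert x u) := by
  unfold N
  rw [← card_union_of_disjoint]
  · congr 1
    ext b
    simp only [mem_union, mem_NF, insert_subset_iff, disjoint_insert_left]
    by_cases h : x ∈ b <;> simp [h]
  · rw [disjoint_left]
    intro b h1 h2
    rw [mem_NF, insert_subset_iff] at h1
    rw [mem_NF, disjoint_insert_left] at h2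
    exact h2.2.2.1 h1.2.1.1

theorem lam_step (hk : ∀ b ∈ B, b.card = k) (s : Finset α) :
    N B s ∅ * (k - s.card) = ∑ x ∈ sᶜ, N B (insert x s) ∅ := by
  classical
  have h1 : ∑ b ∈ NF B s ∅, (sᶜ.bipartiteAbove (fun (b : Finset α) (x : α) => x ∈ b) b).card =
      ∑ x ∈ sᶜ, ((NF B s ∅).bipartiteBelow (fun (b : Finset α) (x : α) => x ∈ b) x).card :=
    sum_card_bipartiteAbove_eq_sum_card_bipartiteBelow _
  have h2 : ∀ b ∈ NF B s ∅, (sᶜ.bipartiteAbove (fun (b : Finset α) (x : α) => x ∈ b) b).card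
      = k - s.card := by
    intro b hb
    rw [mem_NF] at hb
    have : sᶜ.bipartiteAbove (fun (b : Finset α) (x : α) => x ∈ b) b = b \ s := by
      ext x; simp [mem_bipartiteAbove, and_comm]
    rw [this, card_sdiff_of_subset hb.2.1, hk b hb.1]
  rw [sum_congr rfl h2, sum_const, smul_eq_mul] at h1
  rw [N, h1]
  refine sum_congr rfl fun x _ => ?_
  unfold N
  congr 1
  ext b
  simp only [mem_bipartiteBelow, mem_NF, insert_subset_iff]
  tauto

theorem lam_of (hk : ∀ b ∈ B, b.card = k) {i m : ℕ} (h : ∀ s : Finset α, s.card = i + 1 → N B s ∅ = m)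
    (s : Finset α) (hs : s.card = i) : N B s ∅ * (k - i) = (Fintype.card α - i) * m := by
  rw [← hs, lam_step hk, sum_congr rfl (g := fun _ => m), sum_const, smul_eq_mul, card_compl]
  intro x hx
  apply h
  rw [card_insert_of_notMem (by simpa using hx), hs]

theorem N_eq_one (hB : IsSteinerSystem t k B) {s : Finset α} (hs : s.card = t) : N B s ∅ = 1 := by
  obtain ⟨b, hb, hu⟩ := hB.2 s hs
  rw [N, card_eq_one]
  refine ⟨b, ?_⟩
  ext c
  simp only [mem_NF, disjoint_empty_left, and_true, mem_singleton]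
  exact ⟨fun h => hu c h, fun h => h ▸ hb⟩

theorem eq_of_card_inter (hB : IsSteinerSystem t k B) {b c : Finset α} (hb : b ∈ B) (hc : c ∈ B)
    (h : t ≤ (b ∩ c).card) : b = c := by
  obtain ⟨s, hs, hst⟩ := exists_subset_card_eq h
  obtain ⟨d, -, hu⟩ := hB.2 s hst
  rw [hu b ⟨hb, hs.trans inter_subset_left⟩, hu c ⟨hc, hs.trans inter_subset_right⟩]

theorem N_big (hB : IsSteinerSystem t k B) {b s : Finset α} (hb : b ∈ B) (hs : s ⊆ b)
    (ht : t ≤ s.card) : N B s ∅ = 1 := by
  rw [N, card_eq_one]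
  refine ⟨b, ?_⟩
  ext c
  simp only [mem_NF, disjoint_empty_left, and_true, mem_singleton]
  refine ⟨fun h => (eq_of_card_inter hB hb h.1 (ht.trans (card_le_card ?_))).symm, fun h => h ▸ ⟨hb, hs⟩⟩
  exact subset_inter hs h.2

/-- the intersection triangle -/
def T (f : ℕ → ℤ) : ℕ → ℕ → ℤ
  | 0, i => f i
  | j + 1, i => T f j i - T f j (i + 1)

theorem tri {f : ℕ → ℤ} {Y : Finset α} (h : ∀ s ⊆ Y, (N B s ∅ : ℤ) = f s.card) (u : Finset α) :
    ∀ s : Finset α, s ⊆ Y → u ⊆ Y → Disjoint s u → (N B s u : ℤ) = T f u.card s.card := by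
  induction u using Finset.induction_on with
  | empty => intro s hs _ _; simpa [T] using h s hs
  | insert x u hx ih =>
    intro s hs hu hd
    rw [insert_subset_iff] at hu
    rw [disjoint_insert_right] at hd
    have h1 := ih s hs hu.2 hd.2
    have h2 := ih (insert x s) (insert_subset hu.1 hs) hu.2 (by
      rw [disjoint_insert_left]; exact ⟨hx, hd.2⟩)
    rw [card_insert_of_notMem hd.1] at h2
    rw [card_insert_of_notMem hx, T, ← h1, ← h2, N_step s u x]
    push_cast; ring

theorem meet_eq {Y s : Finset α} (hs : s ⊆ Y) :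
    {c : Finset α | c ∈ B ∧ Y ∩ c = s} = ↑(NF B s (Y \ s)) := by
  ext c
  simp only [Set.mem_setOf_eq, mem_coe, mem_NF]
  refine and_congr_right fun _ => ⟨fun h => ?_, fun h => ?_⟩
  · subst h
    refine ⟨inter_subset_right, ?_⟩
    rw [disjoint_left]; intro x hx hc
    simp only [mem_sdiff, mem_inter, not_and] at hx
    exact hx.2 hx.1 hc
  · ext x
    simp only [mem_inter]
    refine ⟨fun hx => ?_, fun hx => ⟨hs hx, h.1 hx⟩⟩
    by_contra hxs
    exact disjoint_left.1 h.2 (mem_sdiff.2 ⟨hx.1, hxs⟩) hx.2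

theorem ncard_meet {f : ℕ → ℤ} {Y : Finset α} (h : ∀ s ⊆ Y, (N B s ∅ : ℤ) = f s.card) {s : Finset α}
    (hs : s ⊆ Y) : ({c : Finset α | c ∈ B ∧ Y ∩ c = s}.ncard : ℤ) = T f (Y.card - s.card) s.card := by
  rw [meet_eq hs, Set.ncard_coe_finset, ← card_sdiff_of_subset hs]
  exact tri h _ s hs sdiff_subset disjoint_sdiff

theorem T_pos {f : ℕ → ℤ} {Y : Finset α} (h : ∀ s ⊆ Y, (N B s ∅ : ℤ) = f s.card) {c : Finset α}
    (hc : c ∈ B) : 0 < T f (Y.card - (Y ∩ c).card) (Y ∩ c).card := by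
  rw [← ncard_meet h inter_subset_left]
  have : 0 < {d : Finset α | d ∈ B ∧ Y ∩ d = Y ∩ c}.ncard :=
    (Set.ncard_pos (Set.toFinite _)).2 ⟨c, hc, rfl⟩
  exact_mod_cast this

/-- blocks meeting `Y` in exactly `j` points -/
theorem ncard_meet_card {f : ℕ → ℤ} {Y : Finset α} (h : ∀ s ⊆ Y, (N B s ∅ : ℤ) = f s.card) (j : ℕ) :
    ({c : Finset α | c ∈ B ∧ (c ∩ Y).card = j}.ncard : ℤ) = Y.card.choose j * T f (Y.card - j) j := by
  classical
  have e : {c : Finset α | c ∈ B ∧ (c ∩ Y).card = j} =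
      ↑((powersetCard j Y).biUnion fun s => NF B s (Y \ s)) := by
    ext c
    simp only [Set.mem_setOf_eq, coe_biUnion, mem_coe, mem_powersetCard, Set.mem_iUnion]
    constructor
    · rintro ⟨hc, hj⟩
      refine ⟨Y ∩ c, ⟨inter_subset_left, by rw [inter_comm]; exact hj⟩, ?_⟩
      rw [← mem_coe, ← meet_eq inter_subset_left]
      exact ⟨hc, rfl⟩
    · rintro ⟨s, ⟨hs, hj⟩, hc⟩
      rw [← mem_coe, ← meet_eq hs] at hc
      exact ⟨hc.1, by rw [inter_comm, hc.2, hj]⟩
  rw [e, Set.ncard_coe_finset, card_biUnion]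
  · push_cast
    rw [sum_congr rfl (g := fun _ => T f (Y.card - j) j), sum_const, card_powersetCard, nsmul_eq_mul]
    intro s hs
    rw [mem_powersetCard] at hs
    have := tri h (Y \ s) s hs.1 sdiff_subset disjoint_sdiff
    rw [card_sdiff_of_subset hs.1, hs.2] at this
    exact this
  · intro s hs s' hs' hne
    rw [Function.onFun, disjoint_left]
    intro c h1 h2
    rw [mem_coe, mem_powersetCard] at hs hs'
    rw [← mem_coe, ← meet_eq hs.1] at h1
    rw [← mem_coe, ← meet_eq hs'.1] at h2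
    exact hne (h1.2.symm.trans h2.2)

theorem ncard_eq_N : B.ncard = N B ∅ ∅ := by
  rw [N, ← Set.ncard_coe_finset]
  congr 1
  ext b; simp [mem_NF]

theorem block_count (hB : IsSteinerSystem t k B) :
    B.ncard * k.choose t = (Fintype.card α).choose t := by
  classical
  rw [ncard_eq_N, N]
  have := card_mul_eq_card_mul (s := NF B ∅ ∅) (t := powersetCard t (univ : Finset α))
    (fun b s => s ⊆ b) (m := k.choose t) (n := 1) ?_ ?_
  · rw [this, card_powersetCard, card_univ, mul_one]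
  · intro b hb
    rw [mem_NF] at hb
    rw [← hB.1 b hb.1, ← card_powersetCard]
    congr 1
    ext s; simp [mem_bipartiteAbove, mem_powersetCard, and_comm]
  · intro s hs
    rw [mem_powersetCard] at hs
    rw [← N_eq_one hB hs.2, N]
    congr 1
    ext b; simp [mem_bipartiteBelow, mem_NF]

/-- a table of values as a function -/
def tb (l : List ℤ) (i : ℕ) : ℤ := l.getD i 1

section tables
theorem lam_5_8 (hα : Fintype.card α = 24) (hB : IsSteinerSystem 5 8 B) (s : Finset α) (hs : s.card ≤ 5) :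
    (N B s ∅ : ℤ) = tb [759, 253, 77, 21, 5] s.card := by
  have h5 : ∀ s : Finset α, s.card = 4 + 1 → N B s ∅ = 1 := fun s hs => N_eq_one hB hs
  have h4 : ∀ s : Finset α, s.card = 3 + 1 → N B s ∅ = 5 := fun s hs => by
    have := lam_of hB.1 h5 s hs; rw [hα] at this; omega
  have h3 : ∀ s : Finset α, s.card = 2 + 1 → N B s ∅ = 21 := fun s hs => by
    have := lam_of hB.1 h4 s hs; rw [hα] at this; omega
  have h2 : ∀ s : Finset α, s.card = 1 + 1 → N B s ∅ = 77 := fun s hs => by
    have := lam_of hB.1 h3 s hs; rw [hα] at this; omega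
  have h1 : ∀ s : Finset α, s.card = 0 + 1 → N B s ∅ = 253 := fun s hs => by
    have := lam_of hB.1 h2 s hs; rw [hα] at this; omega
  have h0 : ∀ s : Finset α, s.card = 0 → N B s ∅ = 759 := fun s hs => by
    have := lam_of hB.1 h1 s hs; rw [hα] at this; omega
  generalize hn : s.card = n at hs
  interval_cases n
  · rw [h0 s hn]; rfl
  · rw [h1 s hn]; rfl
  · rw [h2 s hn]; rfl
  · rw [h3 s hn]; rfl
  · rw [h4 s hn]; rfl
  · rw [h5 s hn]; rfl

theorem lam_4_7 (hα : Fintype.card α = 23) (hB : IsSteinerSystem 4 7 B) (s : Finset α) (hs : s.card ≤ 4) :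
    (N B s ∅ : ℤ) = tb [253, 77, 21, 5] s.card := by
  have h5 : ∀ s : Finset α, s.card = 3 + 1 → N B s ∅ = 1 := fun s hs => N_eq_one hB hs
  have h4 : ∀ s : Finset α, s.card = 2 + 1 → N B s ∅ = 5 := fun s hs => by
    have := lam_of hB.1 h5 s hs; rw [hα] at this; omega
  have h3 : ∀ s : Finset α, s.card = 1 + 1 → N B s ∅ = 21 := fun s hs => by
    have := lam_of hB.1 h4 s hs; rw [hα] at this; omega
  have h2 : ∀ s : Finset α, s.card = 0 + 1 → N B s ∅ = 77 := fun s hs => by
    have := lam_of hB.1 h3 s hs; rw [hα] at this; omega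
  have h1 : ∀ s : Finset α, s.card = 0 → N B s ∅ = 253 := fun s hs => by
    have := lam_of hB.1 h2 s hs; rw [hα] at this; omega
  generalize hn : s.card = n at hs
  interval_cases n
  · rw [h1 s hn]; rfl
  · rw [h2 s hn]; rfl
  · rw [h3 s hn]; rfl
  · rw [h4 s hn]; rfl
  · rw [h5 s hn]; rfl

theorem lam_3_6 (hα : Fintype.card α = 22) (hB : IsSteinerSystem 3 6 B) (s : Finset α) (hs : s.card ≤ 3) :
    (N B s ∅ : ℤ) = tb [77, 21, 5] s.card := by
  have h5 : ∀ s : Finset α, s.card = 2 + 1 → N B s ∅ = 1 := fun s hs => N_eq_one hB hs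
  have h4 : ∀ s : Finset α, s.card = 1 + 1 → N B s ∅ = 5 := fun s hs => by
    have := lam_of hB.1 h5 s hs; rw [hα] at this; omega
  have h3 : ∀ s : Finset α, s.card = 0 + 1 → N B s ∅ = 21 := fun s hs => by
    have := lam_of hB.1 h4 s hs; rw [hα] at this; omega
  have h2 : ∀ s : Finset α, s.card = 0 → N B s ∅ = 77 := fun s hs => by
    have := lam_of hB.1 h3 s hs; rw [hα] at this; omega
  generalize hn : s.card = n at hs
  interval_cases n
  · rw [h2 s hn]; rfl
  · rw [h3 s hn]; rfl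
  · rw [h4 s hn]; rfl
  · rw [h5 s hn]; rfl

theorem lam_2_5 (hα : Fintype.card α = 21) (hB : IsSteinerSystem 2 5 B) (s : Finset α) (hs : s.card ≤ 2) :
    (N B s ∅ : ℤ) = tb [21, 5] s.card := by
  have h5 : ∀ s : Finset α, s.card = 1 + 1 → N B s ∅ = 1 := fun s hs => N_eq_one hB hs
  have h4 : ∀ s : Finset α, s.card = 0 + 1 → N B s ∅ = 5 := fun s hs => by
    have := lam_of hB.1 h5 s hs; rw [hα] at this; omega
  have h3 : ∀ s : Finset α, s.card = 0 → N B s ∅ = 21 := fun s hs => by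
    have := lam_of hB.1 h4 s hs; rw [hα] at this; omega
  generalize hn : s.card = n at hs
  interval_cases n
  · rw [h3 s hn]; rfl
  · rw [h4 s hn]; rfl
  · rw [h5 s hn]; rfl

theorem lam_5_6 (hα : Fintype.card α = 12) (hB : IsSteinerSystem 5 6 B) (s : Finset α) (hs : s.card ≤ 5) :
    (N B s ∅ : ℤ) = tb [132, 66, 30, 12, 4] s.card := by
  have h5 : ∀ s : Finset α, s.card = 4 + 1 → N B s ∅ = 1 := fun s hs => N_eq_one hB hs
  have h4 : ∀ s : Finset α, s.card = 3 + 1 → N B s ∅ = 4 := fun s hs => by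
    have := lam_of hB.1 h5 s hs; rw [hα] at this; omega
  have h3 : ∀ s : Finset α, s.card = 2 + 1 → N B s ∅ = 12 := fun s hs => by
    have := lam_of hB.1 h4 s hs; rw [hα] at this; omega
  have h2 : ∀ s : Finset α, s.card = 1 + 1 → N B s ∅ = 30 := fun s hs => by
    have := lam_of hB.1 h3 s hs; rw [hα] at this; omega
  have h1 : ∀ s : Finset α, s.card = 0 + 1 → N B s ∅ = 66 := fun s hs => by
    have := lam_of hB.1 h2 s hs; rw [hα] at this; omega
  have h0 : ∀ s : Finset α, s.card = 0 → N B s ∅ = 132 := fun s hs => by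
    have := lam_of hB.1 h1 s hs; rw [hα] at this; omega
  generalize hn : s.card = n at hs
  interval_cases n
  · rw [h0 s hn]; rfl
  · rw [h1 s hn]; rfl
  · rw [h2 s hn]; rfl
  · rw [h3 s hn]; rfl
  · rw [h4 s hn]; rfl
  · rw [h5 s hn]; rfl
end tables

/-- extend a table from `card ≤ t` to all subsets of a block -/
theorem lam_block (hB : IsSteinerSystem t k B) {l : List ℤ} (hl : l.length ≤ t)
    (h : ∀ s : Finset α, s.card ≤ t → (N B s ∅ : ℤ) = tb l s.card) {b : Finset α} (hb : b ∈ B) :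
    ∀ s ⊆ b, (N B s ∅ : ℤ) = tb l s.card := by
  intro s hs
  rcases le_total s.card t with h1 | h1
  · exact h s h1
  · rw [N_big hB hb hs h1, tb, List.getD_eq_default _ _ (hl.trans h1)]; rfl

theorem inter_lt (hB : IsSteinerSystem t k B) {b c : Finset α} (hb : b ∈ B) (hc : c ∈ B) (hbc : b ≠ c) :
    (b ∩ c).card < t := by
  by_contra h
  exact hbc (eq_of_card_inter hB hb hc (not_lt.1 h))

theorem inter_5_8 (hα : Fintype.card α = 24) (hB : IsSteinerSystem 5 8 B) {b c : Finset α} (hb : b ∈ B)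
    (hc : c ∈ B) (hbc : b ≠ c) : (b ∩ c).card = 0 ∨ (b ∩ c).card = 2 ∨ (b ∩ c).card = 4 := by
  have h := T_pos (lam_block hB (by decide) (lam_5_8 hα hB) hb) hc
  have h2 := inter_lt hB hb hc hbc
  rw [hB.1 b hb] at h
  generalize (b ∩ c).card = n at *
  interval_cases n <;> first | (simp; done) | exact absurd h (by decide)

theorem inter_4_7 (hα : Fintype.card α = 23) (hB : IsSteinerSystem 4 7 B) {b c : Finset α} (hb : b ∈ B)
    (hc : c ∈ B) (hbc : b ≠ c) : (b ∩ c).card = 1 ∨ (b ∩ c).card = 3 := by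
  have h := T_pos (lam_block hB (by decide) (lam_4_7 hα hB) hb) hc
  have h2 := inter_lt hB hb hc hbc
  rw [hB.1 b hb] at h
  generalize (b ∩ c).card = n at *
  interval_cases n <;> first | (simp; done) | exact absurd h (by decide)

theorem inter_3_6 (hα : Fintype.card α = 22) (hB : IsSteinerSystem 3 6 B) {b c : Finset α} (hb : b ∈ B)
    (hc : c ∈ B) (hbc : b ≠ c) : (b ∩ c).card = 0 ∨ (b ∩ c).card = 2 := by
  have h := T_pos (lam_block hB (by decide) (lam_3_6 hα hB) hb) hc
  have h2 := inter_lt hB hb hc hbc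
  rw [hB.1 b hb] at h
  generalize (b ∩ c).card = n at *
  interval_cases n <;> first | (simp; done) | exact absurd h (by decide)

theorem inter_2_5 (hα : Fintype.card α = 21) (hB : IsSteinerSystem 2 5 B) {b c : Finset α} (hb : b ∈ B)
    (hc : c ∈ B) (hbc : b ≠ c) : (b ∩ c).card = 1 := by
  have h := T_pos (lam_block hB (by decide) (lam_2_5 hα hB) hb) hc
  have h2 := inter_lt hB hb hc hbc
  rw [hB.1 b hb] at h
  generalize (b ∩ c).card = n at *
  interval_cases n <;> first | (simp; done) | exact absurd h (by decide)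

theorem inter_5_6 (hα : Fintype.card α = 12) (hB : IsSteinerSystem 5 6 B) {b c : Finset α} (hb : b ∈ B)
    (hc : c ∈ B) (hbc : b ≠ c) :
    (b ∩ c).card = 0 ∨ (b ∩ c).card = 2 ∨ (b ∩ c).card = 3 ∨ (b ∩ c).card = 4 := by
  have h := T_pos (lam_block hB (by decide) (lam_5_6 hα hB) hb) hc
  have h2 := inter_lt hB hb hc hbc
  rw [hB.1 b hb] at h
  generalize (b ∩ c).card = n at *
  interval_cases n <;> first | (simp; done) | exact absurd h (by decide)

theorem derived (hB : IsSteinerSystem (t + 1) (k + 1) B) (p : α) : IsSteinerSystem t k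
    {b' : Finset {a : α // a ≠ p} | ∃ b ∈ B, p ∈ b ∧ b' = Finset.subtype (fun a => a ≠ p) b} := by
  constructor
  · rintro _ ⟨b, hb, hp, rfl⟩
    rw [card_subtype, filter_ne', card_erase_of_mem hp, hB.1 b hb]; rfl
  · intro s hs
    have hps : p ∉ s.map (Function.Embedding.subtype _) := by simp
    obtain ⟨b, ⟨hb, hsb⟩, hu⟩ := hB.2 (insert p (s.map (Function.Embedding.subtype _)))
      (by rw [card_insert_of_notMem hps, card_map, hs])
    rw [insert_subset_iff] at hsb
    refine ⟨Finset.subtype (fun a => a ≠ p) b, ⟨⟨b, hb, hsb.1, rfl⟩, fun x hx => ?_⟩, ?_⟩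
    · rw [mem_subtype]; exact hsb.2 (mem_map_of_mem _ hx)
    · rintro _ ⟨⟨c, hc, hp, rfl⟩, hsc⟩
      rw [hu c ⟨hc, insert_subset hp fun y hy => ?_⟩]
      obtain ⟨x, hx, rfl⟩ := mem_map.1 hy
      exact mem_subtype.1 (hsc hx)

end Lead.St
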