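import Cfsg.Agent.Lead.St5
/-! Certificate for one Steiner system. -/
set_option autoImplicit false
namespace Lead.St
open Finset Cfsg H27
variable {α : Type*} [Fintype α] [DecidableEq α]

def cert11 : List (ℕ × List Item × ℕ) := [
  (15, [⟨31, [0, 1, 2, 3, 9, 4, 5, 6, 7, 8, 10], [0, 1, 2, 3, 5, 6, 7, 8, 9, 4, 10], 527⟩], 527),
  (23, [⟨55, [0, 1, 2, 3, 4, 8, 5, 6, 7, 9, 10], [0, 1, 2, 3, 4, 6, 7, 8, 5, 9, 10], 279⟩], 279),
  (39, [⟨103, [0, 1, 2, 3, 4, 5, 7, 6, 8, 9, 10], [0, 1, 2, 3, 4, 5, 7, 6, 8, 9, 10], 167⟩], 167),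
  (71, [], 1095),
  (27, [⟨59, [0, 1, 2, 3, 4, 6, 5, 10, 8, 9, 7], [0, 1, 2, 3, 4, 6, 5, 10, 8, 9, 7], 91⟩, ⟨91, [0, 1, 2, 3, 4, 5, 6, 7, 8, 9, 10], [0, 1, 2, 3, 4, 5, 6, 7, 8, 9, 10], 91⟩], 91),
  (43, [⟨299, [0, 1, 2, 3, 6, 5, 4, 7, 10, 9, 8], [0, 1, 2, 3, 6, 5, 4, 7, 10, 9, 8], 1067⟩, ⟨1067, [0, 1, 2, 3, 4, 5, 6, 7, 8, 9, 10], [0, 1, 2, 3, 4, 5, 6, 7, 8, 9, 10], 1067⟩], 1067),
  (139, [], 395),
  (51, [], 563),
  (147, [], 1171),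
  (99, [], 355),
  (195, [], 707),
  (771, [], 1795),
  (29, [⟨61, [0, 1, 2, 3, 4, 5, 6, 7, 8, 9, 10], [0, 1, 2, 3, 4, 5, 6, 7, 8, 9, 10], 61⟩, ⟨157, [0, 1, 2, 4, 3, 7, 6, 5, 9, 8, 10], [0, 1, 2, 4, 3, 7, 6, 5, 9, 8, 10], 61⟩, ⟨1053, [0, 1, 4, 3, 2, 10, 9, 7, 8, 6, 5], [0, 1, 4, 3, 2, 10, 9, 7, 8, 6, 5], 61⟩], 61),
  (1045, [], 1557),
  (85, [], 213),
  (77, [], 333),
  (141, [], 1165),
  (101, [], 613),
  (293, [], 1317),
  (389, [], 901),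
  (153, [], 665),
  (281, [], 1305),
  (105, [], 233),
  (297, [], 809),
  (585, [], 1609),
  (113, [], 1137),
  (177, [], 433),
  (337, [], 849),
  (673, [], 1697),
  (449, [], 1473),
  (30, [⟨158, [0, 1, 2, 3, 4, 5, 6, 7, 8, 9, 10], [0, 1, 2, 3, 4, 5, 6, 7, 8, 9, 10], 158⟩, ⟨1054, [0, 1, 3, 2, 4, 5, 8, 10, 6, 9, 7], [0, 1, 3, 2, 4, 5, 8, 10, 6, 9, 7], 158⟩], 158),
  (78, [], 110),
  (270, [], 1294),
  (54, [], 1078),
  (86, [], 598),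
  (294, [], 806),
  (198, [], 454),
  (646, [], 1670),
  (58, [], 314),
  (538, [], 1562),
  (170, [], 682),
  (202, [], 1226),
  (330, [], 842),
  (114, [], 242),
  (338, [], 1362),
  (402, [], 914),
  (610, [], 1634),
  (418, [], 1442),
  (92, [], 1116),
  (284, [], 796),
  (172, [], 428),
  (556, [], 1580),
  (204, [], 716),
  (116, [], 372),
  (180, [], 692),
  (404, [], 1428),
  (228, [], 1252),
  (836, [], 1860),
  (120, [], 632),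
  (184, [], 1208),
  (216, [], 472),
  (360, [], 1384),
  (904, [], 1928),
  (816, [], 1840),
  (720, [], 1744),
  (480, [], 992)]

def K11 : List ℕ := (cert11.map fun x => x.2.2).reverse ++ []

theorem full11 (hα : Fintype.card α = 11) {B : Set (Finset α)} (hB : IsSteinerSystem 4 5 B) :
    ∃ ℓ : α ≃ Fin 11, ∀ c, c ∈ B ↔ ∃ b ∈ K11, F ℓ b = c := by
  obtain ⟨ℓ, hK⟩ := run (n := 11) (t := 4) (m := 1) (I := [0, 1, 2, 3]) hB
    (fun b hb c hc e => by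
      have := inter_lt hB hb hc e
      simp only [List.mem_cons, List.not_mem_nil, or_false]; omega) cert11 [] (by decide +kernel) (Lab.nil hα B)
  exact ⟨ℓ, full hB (by decide) (by decide +kernel) hK⟩

end Lead.St
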