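import Cfsg.Agent.Lead.St5
/-! Certificate for one Steiner system. -/
set_option autoImplicit false
namespace Lead.St
open Finset Cfsg H27
variable {α : Type*} [Fintype α] [DecidableEq α]

def cert12 : List (ℕ × List Item × ℕ) := [
  (31, [⟨63, [0, 1, 2, 3, 4, 10, 5, 6, 7, 8, 9, 11], [0, 1, 2, 3, 4, 6, 7, 8, 9, 10, 5, 11], 1055⟩], 1055),
  (992, [], 3040),
  (47, [⟨111, [0, 1, 2, 3, 4, 5, 8, 6, 7, 9, 10, 11], [0, 1, 2, 3, 4, 5, 7, 8, 6, 9, 10, 11], 303⟩], 303),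
  (1744, [], 3792),
  (79, [⟨207, [0, 1, 2, 3, 4, 5, 6, 7, 8, 9, 10, 11], [0, 1, 2, 3, 4, 5, 6, 7, 8, 9, 10, 11], 207⟩], 207),
  (527, [], 2575),
  (496, [], 1520),
  (1840, [], 3888),
  (1329, [⟨1331, [0, 1, 2, 3, 4, 5, 6, 7, 8, 9, 10, 11], [0, 1, 2, 3, 4, 5, 6, 7, 8, 9, 10, 11], 1331⟩], 1331),
  (2753, [], 2755),
  (316, [], 1340),
  (716, [], 2764),
  (55, [⟨119, [0, 1, 2, 3, 4, 5, 6, 7, 8, 9, 10, 11], [0, 1, 2, 3, 4, 5, 6, 7, 8, 9, 10, 11], 119⟩, ⟨567, [0, 1, 2, 3, 4, 5, 9, 11, 8, 6, 10, 7], [0, 1, 2, 3, 4, 5, 9, 11, 8, 6, 10, 7], 119⟩], 119),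
  (1928, [], 3976),
  (372, [⟨884, [0, 1, 2, 3, 4, 5, 6, 7, 8, 11, 10, 9], [0, 1, 2, 3, 4, 5, 6, 7, 8, 11, 10, 9], 2420⟩], 2420),
  (1140, [], 1652),
  (1291, [], 1355),
  (1667, [], 1675),
  (2724, [], 2740),
  (2504, [], 2520),
  (1480, [], 1484),
  (171, [], 187),
  (3400, [], 3432),
  (2195, [], 3219),
  (1187, [], 1251),
  (3587, [], 3843),
  (188, [], 252),
  (1555, [], 1619),
  (2087, [], 2215),
  (1571, [], 1575),
  (2315, [], 2443),
  (2099, [], 2611),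
  (1736, [], 1768),
  (1116, [], 3164),
  (151, [], 663),
  (279, [], 2327),
  (327, [], 839),
  (1095, [], 3143),
  (391, [], 1415),
  (91, [], 2139),
  (283, [], 795),
  (107, [], 619),
  (1067, [], 3115),
  (211, [], 467),
  (355, [], 2403),
  (419, [], 931),
  (668, [], 1692),
  (796, [], 2844),
  (364, [], 876),
  (428, [], 2476),
  (1580, [], 3628),
  (468, [], 980),
  (1428, [], 3476),
  (1252, [], 3300),
  (932, [], 1956),
  (1860, [], 3908),
  (632, [], 2680),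
  (440, [], 952),
  (1208, [], 3256),
  (856, [], 1880),
  (572, [⟨573, [1, 0, 2, 3, 4, 5, 6, 7, 8, 9, 10, 11], [1, 0, 2, 3, 4, 5, 6, 7, 8, 9, 10, 11], 574⟩], 574),
  (1729, [], 1733),
  (314, [], 2362),
  (1441, [], 1449),
  (1474, [], 1986),
  (1549, [], 1805),
  (61, [], 2109),
  (157, [], 413),
  (93, [], 605),
  (109, [], 1133),
  (173, [], 685),
  (333, [], 2381),
  (1165, [], 3213),
  (181, [], 1205),
  (309, [], 821),
  (213, [], 2261),
  (341, [], 1365),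
  (1557, [], 3605),
  (229, [], 485),
  (613, [], 2661),
  (1317, [], 3365),
  (901, [], 2949),
  (121, [], 377),
  (569, [], 1593),
  (217, [], 1241),
  (665, [], 2713),
  (1305, [], 3353),
  (233, [], 2281),
  (809, [], 2857),
  (457, [], 969),
  (1609, [], 3657),
  (241, [], 753),
  (1137, [], 3185),
  (433, [], 2481),
  (849, [], 2897),
  (913, [], 1937),
  (865, [], 1889),
  (1697, [], 3745),
  (1473, [], 3521),
  (94, [], 350),
  (158, [], 2206),
  (110, [], 2158),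
  (174, [], 1198),
  (590, [], 1614),
  (398, [], 910),
  (1294, [], 3342),
  (182, [], 438),
  (1078, [], 3126),
  (214, [], 1238),
  (598, [], 2646),
  (790, [], 1814),
  (230, [], 742),
  (358, [], 1382),
  (806, [], 2854),
  (454, [], 2502),
  (1670, [], 3718),
  (122, [], 1146),
  (218, [], 730),
  (410, [], 1434),
  (1562, [], 3610),
  (234, [], 490),
  (682, [], 2730),
  (810, [], 1834),
  (1226, [], 3274),
  (842, [], 2890),
  (242, [], 2290),
  (370, [], 882),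
  (690, [], 1714),
  (1362, [], 3410),
  (914, [], 2962),
  (1634, [], 3682),
  (1442, [], 3490)]

def K12 : List ℕ := (cert12.map fun x => x.2.2).reverse ++ []

theorem full12 (hα : Fintype.card α = 12) {B : Set (Finset α)} (hB : IsSteinerSystem 5 6 B) :
    ∃ ℓ : α ≃ Fin 12, ∀ c, c ∈ B ↔ ∃ b ∈ K12, F ℓ b = c := by
  obtain ⟨ℓ, hK⟩ := run (n := 12) (t := 5) (m := 1) (I := [0, 2, 3, 4]) hB
    (fun b hb c hc e => by simpa using inter_5_6 hα hB hb hc e) cert12 [] (by decide +kernel) (Lab.nil hα B)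
  exact ⟨ℓ, full hB (by decide) (by decide +kernel) hK⟩

end Lead.St
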