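import Cfsg.Agent.Lead.St1
/-! Abstract binary Golay codes as families of subsets. -/
set_option autoImplicit false
namespace Lead.St
open Finset Cfsg
open scoped symmDiff
variable {ι : Type*} [Fintype ι] [DecidableEq ι]

theorem card_sd (s t : Finset ι) : (s ∆ t).card + 2 * (s ∩ t).card = s.card + t.card := by
  have h1 : s ∆ t = (s ∪ t) \ (s ∩ t) := by
    ext x; simp only [mem_symmDiff, mem_sdiff, mem_union, mem_inter]; tauto
  have h2 := card_union_add_card_inter s t
  have h3 := card_sdiff_add_card_eq_card (show s ∩ t ⊆ s ∪ t from inter_subset_union)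
  rw [h1]; omega

structure Gol (C : Set (Finset ι)) : Prop where
  c24 : Fintype.card ι = 24
  emp : ∅ ∈ C
  sd : ∀ s ∈ C, ∀ t ∈ C, s ∆ t ∈ C
  nc : C.ncard = 4096
  mn : ∀ s ∈ C, s ≠ ∅ → 8 ≤ s.card

open Classical in
noncomputable def LD (C : Set (Finset ι)) (x : Finset ι) : Finset (Finset ι) :=
  univ.filter fun v => v.card ≤ 4 ∧ x ∆ v ∈ C

theorem mem_LD {C : Set (Finset ι)} {x v : Finset ι} : v ∈ LD C x ↔ v.card ≤ 4 ∧ x ∆ v ∈ C := by
  simp [LD]

def cw (j : ℕ) : ℕ := if j ≤ 3 then 6 else if j = 4 then 1 else 0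

namespace Gol
variable {C : Set (Finset ι)} (h : Gol C)
include h

theorem close {x u v : Finset ι} (hu : u ∈ LD C x) (hv : v ∈ LD C x) (hne : u ≠ v) :
    u.card = 4 ∧ v.card = 4 ∧ Disjoint u v ∧ u ∪ v ∈ C := by
  rw [mem_LD] at hu hv
  have h1 : u ∆ v ∈ C := by
    have := h.sd _ hu.2 _ hv.2
    rwa [symmDiff_symmDiff_symmDiff_comm, symmDiff_self, bot_symmDiff] at this
  have h2 := h.mn _ h1 (by simpa [symmDiff_eq_empty] using hne)
  have h3 := card_sd u v
  have h4 : (u ∩ v).card = 0 := by omega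
  have h5 : Disjoint u v := by rwa [disjoint_iff_inter_eq_empty, ← card_eq_zero]
  refine ⟨by omega, by omega, h5, ?_⟩
  rwa [h5.symmDiff_eq_sup] at h1

theorem six {x : Finset ι} (h4 : ∀ v ∈ LD C x, v.card = 4) :
    ((LD C x).biUnion id).card = 4 * (LD C x).card := by
  rw [card_biUnion, sum_congr rfl (f := fun u => (id u : Finset ι).card) (g := fun _ => 4)
    (fun v hv => h4 v hv), sum_const, smul_eq_mul, mul_comm]
  intro u hu v hv hne
  exact (h.close hu hv hne).2.2.1

theorem wsum_cases (x : Finset ι) :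
    (∃ u, LD C x = {u} ∧ u.card ≤ 3) ∨
      ((∀ v ∈ LD C x, v.card = 4) ∧ ∑ v ∈ LD C x, cw v.card = (LD C x).card) := by
  by_cases h4 : ∀ v ∈ LD C x, v.card = 4
  · right
    refine ⟨h4, ?_⟩
    rw [sum_congr rfl (g := fun _ => 1) (fun v hv => by rw [h4 v hv]; rfl)]
    simp
  · left
    push Not at h4
    obtain ⟨u, hu, h4⟩ := h4
    refine ⟨u, ?_, by have := (mem_LD.1 hu).1; omega⟩
    ext v
    rw [mem_singleton]
    refine ⟨fun hv => ?_, fun e => e ▸ hu⟩
    by_contra hne
    exact h4 (h.close hv hu hne).2.1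

theorem wsum_le (x : Finset ι) : ∑ v ∈ LD C x, cw v.card ≤ 6 := by
  rcases h.wsum_cases x with ⟨u, hu, h3⟩ | ⟨h4, hs⟩
  · rw [hu, sum_singleton, cw, if_pos h3]
  · have := h.six h4
    have h2 := card_le_univ ((LD C x).biUnion id)
    rw [h.c24] at h2
    omega

theorem wsum_total : ∑ x : Finset ι, ∑ v ∈ LD C x, cw v.card = ∑ _x : Finset ι, 6 := by
  classical
  have e1 : ∀ x : Finset ι, ∑ v ∈ LD C x, cw v.card =
      ∑ v : Finset ι, if x ∆ v ∈ C then cw v.card else 0 := by
    intro x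
    rw [LD, sum_filter]
    refine sum_congr rfl fun v _ => ?_
    by_cases h1 : x ∆ v ∈ C
    · by_cases h2 : v.card ≤ 4
      · simp [h1, h2]
      · simp only [h1, h2, false_and, if_false, if_true]
        rw [cw, if_neg (by omega), if_neg (by omega)]
    · simp [h1]
  have e2 : ∀ v : Finset ι, (∑ x : Finset ι, if x ∆ v ∈ C then cw v.card else 0) = 4096 * cw v.card := by
    intro v
    rw [← sum_filter, sum_const, smul_eq_mul, ← h.nc]
    congr 1
    rw [← Set.ncard_coe_finset]
    refine Set.ncard_congr (fun x _ => x ∆ v) (fun x hx => by simpa using hx)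
      (fun a b _ _ e => symmDiff_left_inj.1 e) (fun c hc => ⟨c ∆ v, by simpa using hc, by simp⟩)
  rw [sum_congr rfl fun x _ => e1 x, sum_comm, sum_congr rfl fun v _ => e2 v, ← mul_sum,
    ← powerset_univ, sum_powerset_apply_card, sum_const, card_powerset, card_univ, h.c24]
  decide +kernel

theorem wsum_eq (x : Finset ι) : ∑ v ∈ LD C x, cw v.card = 6 :=
  (sum_eq_sum_iff_of_le fun x _ => h.wsum_le x).1 h.wsum_total x (mem_univ _)

theorem coset (x : Finset ι) :
    (∃ u, LD C x = {u} ∧ u.card ≤ 3) ∨ ((∀ v ∈ LD C x, v.card = 4) ∧ (LD C x).card = 6) := by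
  rcases h.wsum_cases x with h1 | ⟨h4, hs⟩
  · exact Or.inl h1
  · exact Or.inr ⟨h4, by rw [← hs, h.wsum_eq]⟩

theorem exists_oct {s : Finset ι} (hs : s.card = 5) : ∃ o ∈ C, o.card = 8 ∧ s ⊆ o := by
  obtain ⟨p, hp⟩ : s.Nonempty := card_pos.1 (by omega)
  have hT : (s.erase p).card = 4 := by rw [card_erase_of_mem hp, hs]
  have hm : s.erase p ∈ LD C (s.erase p) := mem_LD.2 ⟨hT.le, by simpa using h.emp⟩
  rcases h.coset (s.erase p) with ⟨u, hu, h3⟩ | ⟨h4, h6⟩
  · rw [hu, mem_singleton] at hm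
    rw [← hm] at h3; omega
  · have h1 := h.six h4
    have h2 : (LD C (s.erase p)).biUnion id = univ :=
      eq_univ_of_card _ (by rw [h1, h6, h.c24])
    obtain ⟨v, hv, hpv⟩ := mem_biUnion.1 (h2 ▸ mem_univ p)
    have hne : s.erase p ≠ v := fun e => by
      rw [← e] at hpv; simp at hpv
    obtain ⟨a, b, c, d⟩ := h.close hm hv hne
    refine ⟨_, d, by rw [card_union_of_disjoint c, a, b], fun y hy => ?_⟩
    by_cases e : y = p
    · exact mem_union_right _ (e ▸ hpv)
    · exact mem_union_left _ (mem_erase.2 ⟨e, hy⟩)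

theorem steiner : IsSteinerSystem 5 8 {o | o ∈ C ∧ o.card = 8} := by
  refine ⟨fun b hb => hb.2, fun s hs => ?_⟩
  obtain ⟨o, ho, h8, hso⟩ := h.exists_oct hs
  refine ⟨o, ⟨⟨ho, h8⟩, hso⟩, ?_⟩
  rintro o' ⟨⟨ho', h8'⟩, hso'⟩
  by_contra hne
  have h2 := h.mn _ (h.sd _ ho' _ ho) (by simpa [symmDiff_eq_empty] using hne)
  have h3 := card_sd o' o
  have h4 := card_le_card (subset_inter hso' hso)
  omega

theorem ind (P : Finset ι → Prop) (h0 : P ∅)
    (hs : ∀ c ∈ C, ∀ o ∈ C, o.card = 8 → P c → P (c ∆ o)) : ∀ c ∈ C, P c := by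
  suffices ∀ n, ∀ c ∈ C, c.card = n → P c from fun c hc => this _ c hc rfl
  intro n
  induction n using Nat.strong_induction_on with
  | _ n ih =>
    intro c hc hn
    by_cases e : c = ∅
    · exact e ▸ h0
    have h8 := h.mn c hc e
    obtain ⟨s, hs1, hs5⟩ := exists_subset_card_eq (show 5 ≤ c.card by omega)
    obtain ⟨o, ho, ho8, hso⟩ := h.exists_oct hs5
    have h3 := card_sd c o
    have h4 := card_le_card (subset_inter hs1 hso)
    have := hs _ (h.sd _ hc _ ho) o ho ho8 (ih _ (by omega) _ (h.sd _ hc _ ho) rfl)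
    simpa using this

end Gol

theorem support_add (u v : ι → ZMod 2) : support₂ (u + v) = support₂ u ∆ support₂ v := by
  ext x
  simp only [support₂, mem_filter, mem_univ, true_and, mem_symmDiff, Pi.add_apply]
  generalize u x = a; generalize v x = b
  revert a b; decide

theorem support_sub (u v : ι → ZMod 2) : support₂ (u - v) = support₂ u ∆ support₂ v := by
  ext x
  simp only [support₂, mem_filter, mem_univ, true_and, mem_symmDiff, Pi.sub_apply]
  generalize u x = a; generalize v x = b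
  revert a b; decide

theorem support_inj : Function.Injective (support₂ : (ι → ZMod 2) → Finset ι) := by
  intro u v e
  funext x
  have : x ∈ support₂ u ↔ x ∈ support₂ v := by rw [e]
  simp only [support₂, mem_filter, mem_univ, true_and] at this
  revert this
  generalize u x = a; generalize v x = b
  revert a b; decide

/-- the indicator word -/
def ind (s : Finset ι) : ι → ZMod 2 := fun x => if x ∈ s then 1 else 0

@[simp] theorem support_ind (s : Finset ι) : support₂ (ind s) = s := by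
  ext x; by_cases h : x ∈ s <;> simp [support₂, ind, h]

@[simp] theorem ind_support (w : ι → ZMod 2) : ind (support₂ w) = w := support_inj (by simp)

theorem mem_supports {C : Set (ι → ZMod 2)} {w : ι → ZMod 2} : support₂ w ∈ supports C ↔ w ∈ C :=
  support_inj.mem_set_image

theorem mem_supports' {C : Set (ι → ZMod 2)} {s : Finset ι} : s ∈ supports C ↔ ind s ∈ C := by
  rw [← mem_supports, support_ind]

theorem norm_eq (w : ι → ZMod 2) : hammingNorm w = (support₂ w).card := rfl

theorem dot_eq (u v : ι → ZMod 2) : ∑ i, u i * v i = ((support₂ u ∩ support₂ v).card : ZMod 2) := by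
  rw [card_eq_sum_ones, ← sum_subset (subset_univ (support₂ u ∩ support₂ v))]
  · push_cast
    refine sum_congr rfl fun x hx => ?_
    simp only [support₂, mem_inter, mem_filter, mem_univ, true_and] at hx
    revert hx
    generalize u x = a; generalize v x = b
    revert a b; decide
  · intro x _ hx
    simp only [support₂, mem_inter, mem_filter, mem_univ, true_and] at hx
    revert hx
    generalize u x = a; generalize v x = b
    revert a b; decide

theorem gol_of (h24 : Fintype.card ι = 24) (C : Submodule (ZMod 2) (ι → ZMod 2))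
    (hdim : Module.finrank (ZMod 2) C = 12) (hmin : ∀ w ∈ C, w ≠ 0 → 8 ≤ hammingNorm w) :
    Gol (supports (C : Set (ι → ZMod 2))) where
  c24 := h24
  emp := ⟨0, C.zero_mem, by ext; simp [support₂]⟩
  sd := by
    rintro _ ⟨u, hu, rfl⟩ _ ⟨v, hv, rfl⟩
    exact ⟨u + v, C.add_mem hu hv, support_add u v⟩
  nc := by
    rw [supports, Set.ncard_image_of_injective _ support_inj]
    have := Module.natCard_eq_pow_finrank (K := ZMod 2) (V := C)
    rw [hdim, Nat.card_zmod] at this
    exact this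
  mn := by
    rintro _ ⟨u, hu, rfl⟩ hne
    refine hmin u hu ?_
    rintro rfl
    exact hne (by ext; simp [support₂])

theorem LD_words (C : Submodule (ZMod 2) (ι → ZMod 2)) (w : ι → ZMod 2) :
    {u : ι → ZMod 2 | u - w ∈ C ∧ hammingNorm u ≤ 4} =
      ind '' ↑(LD (supports (C : Set (ι → ZMod 2))) (support₂ w)) := by
  ext u
  simp only [Set.mem_setOf_eq, Set.mem_image, mem_coe, mem_LD]
  constructor
  · rintro ⟨h1, h2⟩
    refine ⟨support₂ u, ⟨h2, ?_⟩, by simp⟩
    rw [symmDiff_comm, ← support_sub, mem_supports]; exact h1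
  · rintro ⟨s, ⟨h1, h2⟩, rfl⟩
    refine ⟨?_, by rwa [norm_eq, support_ind]⟩
    rw [← SetLike.mem_coe, ← mem_supports, support_sub, support_ind, symmDiff_comm]; exact h2

theorem ind_inj : Function.Injective (ind : Finset ι → ι → ZMod 2) :=
  Function.LeftInverse.injective support_ind

theorem words_coset (h24 : Fintype.card ι = 24) (C : Submodule (ZMod 2) (ι → ZMod 2))
    (hdim : Module.finrank (ZMod 2) C = 12) (hmin : ∀ w ∈ C, w ≠ 0 → 8 ≤ hammingNorm w)
    (w : ι → ZMod 2) :
    (∃ u : ι → ZMod 2, {u : ι → ZMod 2 | u - w ∈ C ∧ hammingNorm u ≤ 4} = {u} ∧ hammingNorm u ≤ 3) ∨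
    ({u : ι → ZMod 2 | u - w ∈ C ∧ hammingNorm u ≤ 4}.ncard = 6 ∧
      ∀ u ∈ {u : ι → ZMod 2 | u - w ∈ C ∧ hammingNorm u ≤ 4}, hammingNorm u = 4 ∧
        ∀ u' ∈ {u : ι → ZMod 2 | u - w ∈ C ∧ hammingNorm u ≤ 4}, u ≠ u' →
          Disjoint (support₂ u) (support₂ u')) := by
  have h := gol_of h24 C hdim hmin
  rw [LD_words]
  rcases h.coset (support₂ w) with ⟨u, hu, h3⟩ | ⟨h4, h6⟩
  · left
    exact ⟨ind u, by rw [hu]; simp, by rwa [norm_eq, support_ind]⟩
  · right
    refine ⟨by rw [Set.ncard_image_of_injective _ ind_inj, Set.ncard_coe_finset, h6], ?_⟩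
    rintro _ ⟨s, hs, rfl⟩
    refine ⟨by rw [norm_eq, support_ind]; exact h4 s hs, ?_⟩
    rintro _ ⟨s', hs', rfl⟩ hne
    rw [support_ind, support_ind]
    exact (h.close hs hs' fun e => hne (by rw [e])).2.2.1

theorem span_oct (h24 : Fintype.card ι = 24) (C : Submodule (ZMod 2) (ι → ZMod 2))
    (hdim : Module.finrank (ZMod 2) C = 12) (hmin : ∀ w ∈ C, w ≠ 0 → 8 ≤ hammingNorm w) :
    Submodule.span (ZMod 2) {w : ι → ZMod 2 | w ∈ C ∧ hammingNorm w = 8} = C := by
  have h := gol_of h24 C hdim hmin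
  refine le_antisymm (Submodule.span_le.2 fun w hw => hw.1) fun w hw => ?_
  have := h.ind (fun s => ind s ∈ Submodule.span (ZMod 2) {w : ι → ZMod 2 | w ∈ C ∧ hammingNorm w = 8})
    (by
      have : ind (∅ : Finset ι) = 0 := by funext x; simp [ind]
      simp only [this]; exact Submodule.zero_mem _)
    (fun c _ o ho h8 hc => by
      have : ind (c ∆ o) = ind c + ind o := support_inj (by simp [support_add])
      simp only [this]
      exact Submodule.add_mem _ hc (Submodule.subset_span
        ⟨mem_supports'.1 ho, by rwa [norm_eq, support_ind]⟩))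
    (support₂ w) (mem_supports.2 hw)
  simpa using this

end Lead.St
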