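import Cfsg.Agent.Lead.St5
/-! Certificate for one Steiner system. -/
set_option autoImplicit false
namespace Lead.St
open Finset Cfsg H27
variable {α : Type*} [Fintype α] [DecidableEq α]

def cert21 : List (ℕ × List Item × ℕ) := [
  (3, [⟨31, [0, 1, 3, 12, 15, 2, 4, 5, 6, 7, 8, 9, 10, 11, 13, 14, 16, 17, 18, 19, 20], [0, 1, 5, 2, 6, 7, 8, 9, 10, 11, 12, 13, 3, 14, 15, 4, 16, 17, 18, 19, 20], 36875⟩], 36875),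
  (5, [⟨117, [0, 1, 2, 3, 11, 14, 20, 4, 5, 6, 7, 8, 12, 9, 10, 15, 13, 16, 17, 18, 19], [0, 1, 2, 3, 7, 8, 9, 10, 11, 13, 14, 4, 12, 16, 5, 15, 17, 18, 19, 20, 6], 1067013⟩], 1067013),
  (17, [⟨241, [0, 1, 2, 3, 4, 5, 17, 19, 6, 7, 8, 11, 12, 9, 14, 15, 10, 13, 16, 18, 20], [0, 1, 2, 3, 4, 5, 8, 9, 10, 13, 16, 11, 12, 17, 14, 15, 18, 6, 19, 7, 20], 655409⟩], 655409),
  (65, [⟨961, [0, 1, 2, 3, 4, 5, 6, 9, 10, 16, 7, 11, 12, 8, 14, 15, 13, 17, 18, 19, 20], [0, 1, 2, 3, 4, 5, 6, 10, 13, 7, 8, 11, 12, 16, 14, 15, 9, 17, 18, 19, 20], 67137⟩], 67137),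
  (129, [⟨270721, [0, 1, 2, 3, 4, 5, 6, 7, 8, 9, 10, 11, 12, 13, 14, 15, 16, 17, 18, 19, 20], [0, 1, 2, 3, 4, 5, 6, 7, 8, 9, 10, 11, 12, 13, 14, 15, 16, 17, 18, 19, 20], 270721⟩], 270721),
  (6, [⟨214, [0, 1, 2, 3, 17, 4, 9, 18, 7, 6, 10, 11, 12, 8, 14, 15, 16, 5, 13, 19, 20], [0, 1, 2, 3, 5, 17, 9, 8, 13, 6, 10, 11, 12, 18, 14, 15, 16, 4, 7, 19, 20], 393734⟩], 393734),
  (18, [⟨2258, [0, 1, 2, 3, 4, 5, 6, 8, 7, 9, 10, 11, 12, 13, 14, 15, 16, 17, 18, 19, 20], [0, 1, 2, 3, 4, 5, 6, 8, 7, 9, 10, 11, 12, 13, 14, 15, 16, 17, 18, 19, 20], 2386⟩], 2386),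
  (34, [⟨17570, [0, 1, 2, 3, 4, 5, 6, 7, 8, 9, 16, 11, 12, 13, 14, 15, 10, 17, 18, 19, 20], [0, 1, 2, 3, 4, 5, 6, 7, 8, 9, 16, 11, 12, 13, 14, 15, 10, 17, 18, 19, 20], 82082⟩], 82082),
  (20, [⟨1180, [0, 1, 2, 15, 4, 5, 6, 7, 8, 9, 10, 11, 3, 13, 14, 12, 16, 17, 18, 19, 20], [0, 1, 2, 12, 4, 5, 6, 7, 8, 9, 10, 11, 15, 13, 14, 3, 16, 17, 18, 19, 20], 33940⟩, ⟨73756, [0, 1, 2, 15, 4, 5, 8, 16, 6, 18, 13, 11, 3, 10, 14, 12, 7, 17, 9, 19, 20], [0, 1, 2, 12, 4, 5, 8, 16, 6, 18, 13, 11, 15, 10, 14, 3, 7, 17, 9, 19, 20], 33940⟩], 33940),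
  (36, [⟨8300, [0, 1, 2, 3, 4, 5, 6, 7, 8, 9, 10, 11, 12, 13, 14, 15, 16, 17, 18, 19, 20], [0, 1, 2, 3, 4, 5, 6, 7, 8, 9, 10, 11, 12, 13, 14, 15, 16, 17, 18, 19, 20], 8300⟩], 8300)]

theorem gol21 (hα : Fintype.card α = 21) {B : Set (Finset α)} (hB : IsSteinerSystem 2 5 B) :
    ∃ ℓ : α ≃ Fin 21, ∀ c, c ∈ B ↔ ext (by decide) ℓ c ∈ octads := by
  have hX : (XX 21).card = 3 := by decide +kernel
  obtain ⟨ℓ, hK⟩ := run (n := 21) (t := 2) (m := 3) (I := [1]) hB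
    (fun b hb c hc e => by simpa using inter_2_5 hα hB hb hc e) cert21 [] (by decide +kernel) (Lab.nil hα B)
  refine ⟨ℓ, leaf _ (X := 0xe00000) (by decide +kernel) hB (by rw [hX]) (by rw [hX]) (fun b hb c hc e => ?_) hK⟩
  rw [inter_2_5 hα hB hb hc e, hX]; decide

end Lead.St
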