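import Cfsg.Agent.Lead.St5
/-! Certificate for one Steiner system. -/
set_option autoImplicit false
namespace Lead.St
open Finset Cfsg H27
variable {α : Type*} [Fintype α] [DecidableEq α]

def cert22 : List (ℕ × List Item × ℕ) := [
  (7, [⟨63, [0, 1, 2, 4, 13, 16, 3, 5, 6, 7, 8, 9, 10, 11, 12, 14, 15, 17, 18, 19, 20, 21], [0, 1, 2, 6, 3, 7, 8, 9, 10, 11, 12, 13, 14, 4, 15, 16, 5, 17, 18, 19, 20, 21], 73751⟩], 73751),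
  (11, [⟨235, [0, 1, 2, 3, 4, 12, 15, 21, 5, 6, 7, 8, 9, 13, 10, 11, 16, 14, 17, 18, 19, 20], [0, 1, 2, 3, 4, 8, 9, 10, 11, 12, 14, 15, 5, 13, 17, 6, 16, 18, 19, 20, 21, 7], 2134027⟩], 2134027),
  (35, [⟨483, [0, 1, 2, 3, 4, 5, 6, 18, 20, 7, 8, 9, 12, 13, 10, 15, 16, 11, 14, 17, 19, 21], [0, 1, 2, 3, 4, 5, 6, 9, 10, 11, 14, 17, 12, 13, 18, 15, 16, 19, 7, 20, 8, 21], 1310819⟩], 1310819),
  (131, [⟨1923, [0, 1, 2, 3, 4, 5, 6, 7, 10, 11, 17, 8, 12, 13, 9, 15, 16, 14, 18, 19, 20, 21], [0, 1, 2, 3, 4, 5, 6, 7, 11, 14, 8, 9, 12, 13, 17, 15, 16, 10, 18, 19, 20, 21], 134275⟩], 134275),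
  (259, [⟨541443, [0, 1, 2, 3, 4, 5, 6, 7, 8, 9, 10, 11, 12, 13, 14, 15, 16, 17, 18, 19, 20, 21], [0, 1, 2, 3, 4, 5, 6, 7, 8, 9, 10, 11, 12, 13, 14, 15, 16, 17, 18, 19, 20, 21], 541443⟩], 541443),
  (13, [⟨429, [0, 1, 2, 3, 4, 18, 5, 10, 19, 8, 7, 11, 12, 13, 9, 15, 16, 17, 6, 14, 20, 21], [0, 1, 2, 3, 4, 6, 18, 10, 9, 14, 7, 11, 12, 13, 19, 15, 16, 17, 5, 8, 20, 21], 787469⟩], 787469),
  (1030, [⟨5414, [0, 1, 2, 3, 4, 6, 5, 7, 14, 8, 10, 11, 12, 13, 9, 15, 16, 17, 18, 19, 20, 21], [0, 1, 2, 3, 4, 6, 5, 7, 9, 14, 10, 11, 12, 13, 8, 15, 16, 17, 18, 19, 20, 21], 21574⟩], 21574),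
  (524353, [⟨528593, [0, 1, 2, 3, 13, 5, 6, 11, 8, 9, 10, 7, 12, 4, 14, 15, 16, 17, 18, 19, 20, 21], [0, 1, 2, 3, 13, 5, 6, 11, 8, 9, 10, 7, 12, 4, 14, 15, 16, 17, 18, 19, 20, 21], 538689⟩], 538689),
  (2054, [⟨559142, [0, 1, 2, 3, 4, 5, 6, 7, 8, 9, 10, 11, 12, 13, 14, 15, 16, 17, 18, 19, 20, 21], [0, 1, 2, 3, 4, 5, 6, 7, 8, 9, 10, 11, 12, 13, 14, 15, 16, 17, 18, 19, 20, 21], 559142⟩], 559142),
  (74, [⟨524506, [0, 1, 2, 3, 16, 5, 6, 17, 8, 9, 10, 11, 12, 13, 14, 15, 4, 7, 18, 19, 20, 21], [0, 1, 2, 3, 16, 5, 6, 17, 8, 9, 10, 11, 12, 13, 14, 15, 4, 7, 18, 19, 20, 21], 720970⟩], 720970),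
  (524368, [⟨1573204, [0, 1, 2, 3, 4, 5, 6, 7, 9, 8, 10, 11, 12, 13, 14, 15, 16, 17, 18, 19, 20, 21], [0, 1, 2, 3, 4, 5, 6, 7, 9, 8, 10, 11, 12, 13, 14, 15, 16, 17, 18, 19, 20, 21], 1573460⟩], 1573460)]

theorem gol22 (hα : Fintype.card α = 22) {B : Set (Finset α)} (hB : IsSteinerSystem 3 6 B) :
    ∃ ℓ : α ≃ Fin 22, ∀ c, c ∈ B ↔ ext (by decide) ℓ c ∈ octads := by
  have hX : (XX 22).card = 2 := by decide +kernel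
  obtain ⟨ℓ, hK⟩ := run (n := 22) (t := 3) (m := 3) (I := [0, 2]) hB
    (fun b hb c hc e => by simpa using inter_3_6 hα hB hb hc e) cert22 [] (by decide +kernel) (Lab.nil hα B)
  refine ⟨ℓ, leaf _ (X := 0xc00000) (by decide +kernel) hB (by rw [hX]) (by rw [hX]) (fun b hb c hc e => ?_) hK⟩
  rcases inter_3_6 hα hB hb hc e with h | h <;> rw [h, hX] <;> decide

end Lead.St
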