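import Cfsg.Agent.Lead.St5
/-! Certificate for one Steiner system. -/
set_option autoImplicit false
namespace Lead.St
open Finset Cfsg H27
variable {α : Type*} [Fintype α] [DecidableEq α]

def cert23 : List (ℕ × List Item × ℕ) := [
  (15, [⟨127, [0, 1, 2, 3, 5, 14, 17, 4, 6, 7, 8, 9, 10, 11, 12, 13, 15, 16, 18, 19, 20, 21, 22], [0, 1, 2, 3, 7, 4, 8, 9, 10, 11, 12, 13, 14, 15, 5, 16, 17, 6, 18, 19, 20, 21, 22], 147503⟩], 147503),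
  (23, [⟨471, [0, 1, 2, 3, 4, 5, 13, 16, 22, 6, 7, 8, 9, 10, 14, 11, 12, 17, 15, 18, 19, 20, 21], [0, 1, 2, 3, 4, 5, 9, 10, 11, 12, 13, 15, 16, 6, 14, 18, 7, 17, 19, 20, 21, 22, 8], 4268055⟩], 4268055),
  (71, [⟨967, [0, 1, 2, 3, 4, 5, 6, 7, 19, 21, 8, 9, 10, 13, 14, 11, 16, 17, 12, 15, 18, 20, 22], [0, 1, 2, 3, 4, 5, 6, 7, 10, 11, 12, 15, 18, 13, 14, 19, 16, 17, 20, 8, 21, 9, 22], 2621639⟩], 2621639),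
  (263, [⟨3847, [0, 1, 2, 3, 4, 5, 6, 7, 8, 11, 12, 18, 9, 13, 14, 10, 16, 17, 15, 19, 20, 21, 22], [0, 1, 2, 3, 4, 5, 6, 7, 8, 12, 15, 9, 10, 13, 14, 18, 16, 17, 11, 19, 20, 21, 22], 268551⟩], 268551),
  (519, [⟨1082887, [0, 1, 2, 3, 4, 5, 6, 7, 8, 9, 10, 11, 12, 13, 14, 15, 16, 17, 18, 19, 20, 21, 22], [0, 1, 2, 3, 4, 5, 6, 7, 8, 9, 10, 11, 12, 13, 14, 15, 16, 17, 18, 19, 20, 21, 22], 1082887⟩], 1082887),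
  (74256, [⟨74584, [0, 1, 2, 3, 4, 5, 6, 7, 11, 9, 10, 8, 12, 13, 14, 15, 16, 17, 18, 19, 20, 21, 22], [0, 1, 2, 3, 4, 5, 6, 7, 11, 9, 10, 8, 12, 13, 14, 15, 16, 17, 18, 19, 20, 21, 22], 76376⟩], 76376),
  (74000, [⟨75184, [0, 1, 2, 3, 4, 5, 6, 21, 8, 9, 10, 11, 12, 13, 14, 15, 16, 17, 18, 7, 20, 19, 22], [0, 1, 2, 3, 4, 5, 6, 19, 8, 9, 10, 11, 12, 13, 14, 15, 16, 17, 18, 21, 20, 7, 22], 2172208⟩], 2172208),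
  (1097760, [⟨1097953, [2, 0, 1, 3, 4, 5, 6, 7, 8, 9, 10, 11, 12, 13, 14, 15, 16, 17, 18, 19, 20, 21, 22], [1, 2, 0, 3, 4, 5, 6, 7, 8, 9, 10, 11, 12, 13, 14, 15, 16, 17, 18, 19, 20, 21, 22], 1097956⟩, ⟨1103905, [2, 0, 1, 3, 4, 5, 11, 12, 21, 9, 10, 6, 7, 13, 14, 15, 16, 17, 19, 18, 20, 8, 22], [1, 2, 0, 3, 4, 5, 11, 12, 21, 9, 10, 6, 7, 13, 14, 15, 16, 17, 19, 18, 20, 8, 22], 1097956⟩], 1097956),
  (4196612, [⟨4198164, [0, 1, 2, 3, 13, 5, 6, 7, 8, 9, 10, 11, 12, 4, 14, 15, 16, 17, 18, 19, 20, 21, 22], [0, 1, 2, 3, 13, 5, 6, 7, 8, 9, 10, 11, 12, 4, 14, 15, 16, 17, 18, 19, 20, 21, 22], 4206340⟩], 4206340),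
  (4334080, [⟨4366857, [0, 1, 2, 3, 4, 5, 6, 7, 8, 9, 10, 11, 12, 13, 14, 20, 16, 17, 18, 19, 15, 21, 22], [0, 1, 2, 3, 4, 5, 6, 7, 8, 9, 10, 11, 12, 13, 14, 20, 16, 17, 18, 19, 15, 21, 22], 5382665⟩], 5382665),
  (526466, [⟨534930, [0, 1, 2, 3, 16, 5, 6, 7, 8, 9, 10, 11, 12, 13, 14, 15, 4, 17, 18, 19, 20, 21, 22], [0, 1, 2, 3, 16, 5, 6, 7, 8, 9, 10, 11, 12, 13, 14, 15, 4, 17, 18, 19, 20, 21, 22], 600450⟩], 600450),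
  (6291466, [⟨6328331, [0, 1, 2, 3, 4, 5, 6, 7, 8, 9, 10, 11, 12, 13, 14, 15, 16, 17, 18, 19, 20, 21, 22], [0, 1, 2, 3, 4, 5, 6, 7, 8, 9, 10, 11, 12, 13, 14, 15, 16, 17, 18, 19, 20, 21, 22], 6328331⟩], 6328331)]

theorem gol23 (hα : Fintype.card α = 23) {B : Set (Finset α)} (hB : IsSteinerSystem 4 7 B) :
    ∃ ℓ : α ≃ Fin 23, ∀ c, c ∈ B ↔ ext (by decide) ℓ c ∈ octads := by
  have hX : (XX 23).card = 1 := by decide +kernel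
  obtain ⟨ℓ, hK⟩ := run (n := 23) (t := 4) (m := 3) (I := [1, 3]) hB
    (fun b hb c hc e => by simpa using inter_4_7 hα hB hb hc e) cert23 [] (by decide +kernel) (Lab.nil hα B)
  refine ⟨ℓ, leaf _ (X := 0x800000) (by decide +kernel) hB (by rw [hX]) (by rw [hX]) (fun b hb c hc e => ?_) hK⟩
  rcases inter_4_7 hα hB hb hc e with h | h <;> rw [h, hX] <;> decide

end Lead.St
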