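import Cfsg.Agent.Lead.St5
/-! Certificate for one Steiner system. -/
set_option autoImplicit false
namespace Lead.St
open Finset Cfsg H27
variable {α : Type*} [Fintype α] [DecidableEq α]

def cert24 : List (ℕ × List Item × ℕ) := [
  (31, [⟨255, [0, 1, 2, 3, 4, 7, 10, 12, 5, 6, 8, 9, 11, 13, 14, 15, 16, 17, 18, 19, 20, 21, 22, 23], [0, 1, 2, 3, 4, 8, 9, 5, 10, 11, 6, 12, 7, 13, 14, 15, 16, 17, 18, 19, 20, 21, 22, 23], 5279⟩], 5279),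
  (47, [⟨879, [0, 1, 2, 3, 4, 5, 14, 7, 17, 23, 10, 6, 12, 8, 9, 11, 13, 15, 16, 18, 19, 20, 21, 22], [0, 1, 2, 3, 4, 5, 11, 7, 13, 14, 10, 15, 12, 16, 6, 17, 18, 8, 19, 20, 21, 22, 23, 9], 8536111⟩], 8536111),
  (79, [⟨2895, [0, 1, 2, 3, 4, 5, 6, 7, 9, 11, 10, 22, 12, 8, 14, 13, 15, 17, 16, 18, 19, 20, 21, 23], [0, 1, 2, 3, 4, 5, 6, 7, 13, 8, 10, 9, 12, 15, 14, 16, 18, 17, 19, 20, 21, 22, 11, 23], 4196943⟩], 4196943),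
  (271, [⟨106767, [0, 1, 2, 3, 4, 5, 6, 7, 8, 9, 10, 11, 12, 15, 14, 16, 19, 17, 13, 18, 20, 21, 22, 23], [0, 1, 2, 3, 4, 5, 6, 7, 8, 9, 10, 11, 12, 18, 14, 13, 15, 17, 19, 16, 20, 21, 22, 23], 622863⟩], 622863),
  (8207, [⟨3416079, [0, 1, 2, 3, 4, 5, 6, 7, 8, 9, 10, 11, 12, 13, 14, 15, 16, 17, 18, 19, 20, 21, 22, 23], [0, 1, 2, 3, 4, 5, 6, 7, 8, 9, 10, 11, 12, 13, 14, 15, 16, 17, 18, 19, 20, 21, 22, 23], 3416079⟩], 3416079),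
  (327, [⟨8567, [0, 1, 2, 3, 4, 14, 6, 7, 8, 9, 10, 11, 12, 20, 5, 15, 16, 17, 13, 19, 18, 21, 22, 23], [0, 1, 2, 3, 4, 14, 6, 7, 8, 9, 10, 11, 12, 18, 5, 15, 16, 17, 20, 19, 13, 21, 22, 23], 1065303⟩], 1065303),
  (1048651, [⟨1081579, [0, 1, 2, 3, 4, 17, 6, 7, 8, 9, 10, 11, 12, 13, 14, 15, 16, 5, 18, 19, 20, 21, 22, 23], [0, 1, 2, 3, 4, 17, 6, 7, 8, 9, 10, 11, 12, 13, 14, 15, 16, 5, 18, 19, 20, 21, 22, 23], 1212619⟩], 1212619),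
  (16651, [⟨25483, [0, 1, 2, 3, 4, 5, 6, 7, 8, 11, 10, 9, 12, 21, 14, 15, 16, 17, 13, 19, 20, 18, 22, 23], [0, 1, 2, 3, 4, 5, 6, 7, 8, 11, 10, 9, 12, 18, 14, 15, 16, 17, 21, 19, 20, 13, 22, 23], 2115979⟩], 2115979),
  (131395, [⟨199011, [0, 1, 2, 3, 4, 5, 6, 7, 8, 9, 10, 11, 12, 13, 14, 15, 19, 17, 18, 16, 20, 21, 22, 23], [0, 1, 2, 3, 4, 5, 6, 7, 8, 9, 10, 11, 12, 13, 14, 15, 19, 17, 18, 16, 20, 21, 22, 23], 657763⟩], 657763),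
  (8994832, [⟨8998416, [0, 1, 2, 3, 4, 5, 6, 7, 8, 22, 10, 11, 12, 13, 14, 15, 16, 17, 18, 19, 20, 21, 9, 23], [0, 1, 2, 3, 4, 5, 6, 7, 8, 22, 10, 11, 12, 13, 14, 15, 16, 17, 18, 19, 20, 21, 9, 23], 13192208⟩], 13192208),
  (10567712, [⟨14762145, [1, 0, 2, 3, 4, 5, 6, 7, 8, 9, 10, 11, 12, 13, 14, 15, 16, 17, 18, 19, 20, 21, 22, 23], [1, 0, 2, 3, 4, 5, 6, 7, 8, 9, 10, 11, 12, 13, 14, 15, 16, 17, 18, 19, 20, 21, 22, 23], 14762146⟩], 14762146),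
  (5767936, [⟨5780352, [0, 1, 2, 3, 4, 5, 6, 7, 8, 9, 10, 11, 12, 13, 14, 15, 16, 17, 18, 19, 20, 21, 22, 23], [0, 1, 2, 3, 4, 5, 6, 7, 8, 9, 10, 11, 12, 13, 14, 15, 16, 17, 18, 19, 20, 21, 22, 23], 5780352⟩], 5780352)]

theorem gol24 (hα : Fintype.card α = 24) {B : Set (Finset α)} (hB : IsSteinerSystem 5 8 B) :
    ∃ ℓ : α ≃ Fin 24, ∀ c, c ∈ B ↔ ext le_rfl ℓ c ∈ octads := by
  have hX : (XX 24).card = 0 := by decide +kernel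
  obtain ⟨ℓ, hK⟩ := run (n := 24) (t := 5) (m := 3) (I := [0, 2, 4]) hB
    (fun b hb c hc e => by simpa using inter_5_8 hα hB hb hc e) cert24 [] (by decide +kernel) (Lab.nil hα B)
  refine ⟨ℓ, leaf _ (X := 0) (by decide +kernel) hB (by rw [hX]) (by rw [hX]) (fun b hb c hc e => ?_) hK⟩
  rcases inter_5_8 hα hB hb hc e with h | h | h <;> rw [h, hX] <;> decide

end Lead.St
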