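import Cfsg.Agent.Lead.St2
import Cfsg.Agent.H27.Golay
import Cfsg.Agent.S0358
/-! The punctured Golay code. -/
set_option autoImplicit false
namespace Lead.St
open Finset Cfsg H27
open scoped symmDiff

theorem golGC : Gol GC where
  c24 := card_pt
  emp := empty_mem_GC
  sd := fun _ hs _ ht => symmDiff_mem_GC hs ht
  nc := ncard_GC_eq
  mn := fun s hs hne => by
    have := card_of_mem_GC hs
    have h0 : s.card ≠ 0 := by rwa [Ne, card_eq_zero]
    omega

/-- the punctured word of a set -/
def pu (s : Finset GolayPt) : ZMod 23 → ZMod 2 := fun x => ind s (some x)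

theorem norm_pu (s : Finset GolayPt) : hammingNorm (pu s) = (s.erase none).card := by
  rw [norm_eq, ← card_map Function.Embedding.some]
  congr 1
  ext p
  cases p with
  | none => simp
  | some x => by_cases h : some x ∈ s <;> simp [support₂, pu, ind, h]

theorem pu_sd (s t : Finset GolayPt) : pu (s ∆ t) = pu s - pu t := by
  have : ind (s ∆ t) = ind s - ind t := support_inj (by simp [support_sub])
  funext x; simp [pu, this]

abbrev P23 : Set (ZMod 23 → ZMod 2) := {u | ∃ w ∈ golayCode, ∀ x : ZMod 23, u x = w (some x)}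

theorem P23_eq : P23 = pu '' GC := by
  ext u
  constructor
  · rintro ⟨w, hw, h⟩
    exact ⟨support₂ w, mem_supports.2 hw, by funext x; simp [pu, h]⟩
  · rintro ⟨s, hs, rfl⟩
    exact ⟨ind s, mem_supports'.1 hs, fun _ => rfl⟩

theorem card_erase_ge (s : Finset GolayPt) : s.card ≤ (s.erase none).card + 1 := by
  have := pred_card_le_card_erase (s := s) (a := none); omega

theorem pu_injOn : Set.InjOn pu GC := by
  intro s hs t ht e
  by_contra hne
  have h1 := golGC.mn _ (symmDiff_mem_GC hs ht) (by simpa [symmDiff_eq_empty] using hne)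
  have h2 := norm_pu (s ∆ t)
  rw [pu_sd, e, sub_self, hammingNorm_zero] at h2
  have := card_erase_ge (s ∆ t)
  omega

theorem ncard_P23 (j : ℕ) : {u | u ∈ P23 ∧ hammingNorm u = j}.ncard =
    cnt 4096 fun a => force (enc a) fun x => Nat.beq (pop24 (x &&& 8388607)) j := by
  have e : {u | u ∈ P23 ∧ hammingNorm u = j} = pu '' {s | s ∈ GC ∧ (s.erase none).card = j} := by
    ext u
    rw [P23_eq]
    constructor
    · rintro ⟨⟨s, hs, rfl⟩, h⟩
      exact ⟨s, ⟨hs, by rwa [← norm_pu]⟩, rfl⟩
    · rintro ⟨s, hs, rfl⟩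
      exact ⟨⟨s, hs.1, rfl⟩, by rw [norm_pu, hs.2]⟩
  rw [e, Set.InjOn.ncard_image (pu_injOn.mono fun _ h => h.1)]
  refine ncard_GC _ _ (fun _ h => h.1) fun x hx => ?_
  have : (GE.fs x).erase none = GE.fs (x &&& 8388607) := by
    rw [GE.fs_and]
    have : GE.fs 8388607 = univ.erase none := by decide +kernel
    rw [this]; ext p; simp [and_comm]
  simp only [Set.mem_setOf_eq, fs_mem_GC_of hx, true_and, this, card_gfs, Nat.beq_eq]

theorem min_P23 : ∀ u ∈ P23, u ≠ 0 → 7 ≤ hammingNorm u := by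
  rw [P23_eq]
  rintro _ ⟨s, hs, rfl⟩ hne
  have h1 := golGC.mn s hs (by rintro rfl; exact hne (by funext x; simp [pu, ind]))
  have := card_erase_ge s
  rw [norm_pu]; omega

theorem perfect (u : ZMod 23 → ZMod 2) : ∃! c, c ∈ P23 ∧ hammingDist u c ≤ 3 := by
  have hex : ∃ c, c ∈ P23 ∧ hammingDist u c ≤ 3 := by
    obtain ⟨s, hs, hodd⟩ : ∃ s : Finset GolayPt, pu s = u ∧ Odd s.card := by
      have h0 : pu ((support₂ u).map Function.Embedding.some) = u := by
        funext x
        conv_rhs => rw [← ind_support u]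
        by_cases h : x ∈ support₂ u <;> simp [pu, ind, h]
      rcases Nat.even_or_odd ((support₂ u).map Function.Embedding.some).card with h | h
      · refine ⟨insert none ((support₂ u).map Function.Embedding.some), ?_, ?_⟩
        · refine Eq.trans ?_ h0; funext x; simp [pu, ind]
        · rw [card_insert_of_notMem (by simp)]; exact h.add_one
      · exact ⟨_, h0, h⟩
    have key : ∃ v ∈ LD GC s, v.card ≤ 3 := by
      rcases golGC.coset s with ⟨v, hv, h3⟩ | ⟨h4, h6⟩
      · exact ⟨v, by rw [hv]; simp, h3⟩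
      · exfalso
        obtain ⟨v, hv⟩ : (LD GC s).Nonempty := card_pos.1 (by omega)
        have h1 := card_of_mem_GC (mem_LD.1 hv).2
        have h2 := card_sd s v
        have h3 := h4 v hv
        obtain ⟨m, hm⟩ := hodd
        omega
    obtain ⟨v, hv, h3⟩ := key
    refine ⟨pu (s ∆ v), P23_eq ▸ ⟨_, (mem_LD.1 hv).2, rfl⟩, ?_⟩
    rw [hammingDist_eq_hammingNorm, ← hs, neg_add_eq_sub, ← pu_sd, norm_pu, symmDiff_comm]
    simp only [symmDiff_symmDiff_cancel_left]
    exact card_erase_le.trans h3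
  obtain ⟨c, hc, h3⟩ := hex
  refine ⟨c, ⟨hc, h3⟩, ?_⟩
  rintro d ⟨hd, h3'⟩
  by_contra hne
  have hm : d - c ∈ P23 := by
    rw [P23_eq] at hc hd ⊢
    obtain ⟨s, hs, rfl⟩ := hc
    obtain ⟨t, ht, rfl⟩ := hd
    exact ⟨_, symmDiff_mem_GC ht hs, pu_sd _ _⟩
  have h7 := min_P23 _ hm (sub_ne_zero.2 hne)
  rw [← neg_add_eq_sub, ← hammingDist_eq_hammingNorm] at h7
  have := hammingDist_triangle_left c d u
  omega

end Lead.St
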