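import Cfsg.Agent.Lead.St1
/-! A verified search procedure labelling the points of a Steiner system. -/
set_option autoImplicit false
namespace Lead.St
open Finset Cfsg

theorem exists_perm_fiber {α β : Type*} [Fintype α] [DecidableEq β] (f g : α → β)
    (h : ∀ b, (univ.filter (f · = b)).card = (univ.filter (g · = b)).card) :
    ∃ p : Equiv.Perm α, ∀ x, g (p x) = f x := by
  classical
  exact ⟨Equiv.ofFiberEquiv (fun b => Fintype.equivOfCardEq
    (by simpa [Fintype.card_subtype] using h b)), Equiv.ofFiberEquiv_map _⟩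

theorem cell_perm {α β : Type*} [Fintype α] [DecidableEq α] [DecidableEq β] (σ : α → β)
    {c d : List α} (hc : c.Nodup) (hd : d.Nodup) (h : (c.map σ).Perm (d.map σ)) :
    ∃ p : Equiv.Perm α, (∀ x, σ (p x) = σ x) ∧ ∀ x, p x ∈ d ↔ x ∈ c := by
  have key : ∀ (l : List α), l.Nodup → ∀ s,
      (univ.filter fun x => (σ x, decide (x ∈ l)) = (s, true)).card = (l.map σ).count s := by
    intro l hl s
    rw [List.count_eq_countP, List.countP_map, List.countP_eq_length_filter,
      ← List.toFinset_card_of_nodup (hl.filter _)]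
    congr 1
    ext x; simp [and_comm]
  have key2 : ∀ (l : List α) (s : β), (univ.filter fun x => (σ x, decide (x ∈ l)) = (s, true)).card +
      (univ.filter fun x => (σ x, decide (x ∈ l)) = (s, false)).card = (univ.filter fun x => σ x = s).card := by
    intro l s
    rw [← card_union_of_disjoint]
    · congr 1
      ext x; by_cases hx : x ∈ l <;> simp [hx]
    · rw [disjoint_left]; intro x h1 h2
      by_cases hx : x ∈ l <;> simp [hx] at h1 h2
  obtain ⟨p, hp⟩ := exists_perm_fiber (fun x => (σ x, decide (x ∈ c))) (fun x => (σ x, decide (x ∈ d))) (by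
    rintro ⟨s, b⟩
    have h1 : (univ.filter fun x => (σ x, decide (x ∈ c)) = (s, true)).card =
        (univ.filter fun x => (σ x, decide (x ∈ d)) = (s, true)).card := by
      rw [key c hc, key d hd, h.count_eq]
    cases b
    · have h2 := key2 c s
      have h3 := key2 d s
      omega
    · exact h1)
  refine ⟨p, fun x => congrArg Prod.fst (hp x), fun x => ?_⟩
  simpa using congrArg Prod.snd (hp x)

/-- run `f` over all `m`-element sublists of `l`, put in front of `cur` -/
def ch {γ : Type} (f : List γ → Bool) : List γ → ℕ → List γ → Bool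
  | [], m, cur => match m with
    | 0 => f cur
    | _ + 1 => true
  | x :: l, m, cur => match m with
    | 0 => f cur
    | m + 1 => ch f l m (x :: cur) && ch f l (m + 1) cur

theorem ch_sound {γ : Type} (f : List γ → Bool) : ∀ (l : List γ) (m : ℕ) (cur : List γ),
    ch f l m cur = true → ∀ T : List γ, T.Sublist l → T.length = m → f (T.reverse ++ cur) = true := by
  intro l
  induction l with
  | nil =>
    intro m cur h T hT hm
    rw [List.sublist_nil] at hT
    subst hT
    subst hm
    simpa [ch] using h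
  | cons x l ih =>
    intro m cur h T hT hm
    cases m with
    | zero =>
      rw [List.length_eq_zero_iff] at hm
      subst hm
      simpa [ch] using h
    | succ m =>
      simp only [ch, Bool.and_eq_true] at h
      rcases List.sublist_cons_iff.1 hT with h1 | ⟨T', rfl, h1⟩
      · exact ih _ _ h.2 T h1 hm
      · have := ih _ _ h.1 T' h1 (by simpa using hm)
        simpa using this

variable {n : ℕ}

def pts (n : ℕ) (s : ℕ) : List (Fin n) := (List.finRange n).filter fun x => s.testBit x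
def oth (n : ℕ) (s : ℕ) : List (Fin n) := (List.finRange n).filter fun x => !s.testBit x

theorem mem_pts {s : ℕ} {x : Fin n} : x ∈ pts n s ↔ s.testBit x = true := by simp [pts]
theorem nodup_pts (s : ℕ) : (pts n s).Nodup := (List.nodup_finRange n).filter _

theorem enum_sound {f : List (Fin n) → Bool} {s m : ℕ} (h : ch f (oth n s) m (pts n s) = true)
    (c : Finset (Fin n)) (hs : ∀ x : Fin n, s.testBit x = true → x ∈ c)
    (hc : c.card = (pts n s).length + m) :
    ∃ l : List (Fin n), l.Nodup ∧ (∀ x, x ∈ l ↔ x ∈ c) ∧ f l = true := by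
  have hnd : ((oth n s).filter fun x => decide (x ∈ c)).Nodup := ((List.nodup_finRange n).filter _).filter _
  have hnd2 : (((oth n s).filter fun x => decide (x ∈ c)).reverse ++ pts n s).Nodup := by
    rw [List.nodup_append]
    refine ⟨List.nodup_reverse.2 hnd, nodup_pts s, fun a ha b hb e => ?_⟩
    subst e
    rw [mem_pts] at hb
    simp [oth, hb] at ha
  have hm : ∀ x, x ∈ ((oth n s).filter fun x => decide (x ∈ c)).reverse ++ pts n s ↔ x ∈ c := by
    intro x
    rw [List.mem_append, mem_pts]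
    by_cases hx : s.testBit x = true
    · simp [hx, hs x hx]
    · simp [oth, hx]
  refine ⟨_, hnd2, hm, ch_sound f _ _ _ h _ List.filter_sublist ?_⟩
  have h1 := List.toFinset_card_of_nodup hnd2
  have h2 : (((oth n s).filter fun x => decide (x ∈ c)).reverse ++ pts n s).toFinset = c := by
    ext x; rw [List.mem_toFinset, hm]
  rw [h2, hc, List.length_append, List.length_reverse] at h1
  omega

theorem enum_all {f : List (Fin n) → Bool} {m : ℕ} (h : ch f (List.finRange n) m [] = true)
    (c : Finset (Fin n)) (hc : c.card = m) :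
    ∃ l : List (Fin n), l.Nodup ∧ (∀ x, x ∈ l ↔ x ∈ c) ∧ f l = true := by
  refine enum_sound (s := 0) (m := m) ?_ c (by simp) (by simp [pts, hc])
  simpa [oth, pts] using h

def pf [NeZero n] (g : List ℕ) (x : Fin n) : Fin n := Fin.ofNat n (g.getD x 0)

def allF (n : ℕ) (p : Fin n → Bool) : Bool := (List.finRange n).all p
theorem allF_iff {p : Fin n → Bool} : allF n p = true ↔ ∀ x, p x = true := by simp [allF]

def sig (K : List ℕ) (x : Fin n) : List Bool := K.map fun b => b.testBit x

structure Item where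
  c : ℕ
  g : List ℕ
  gi : List ℕ
  r : ℕ

def itemOk (n : ℕ) [NeZero n] (K reps : List ℕ) (it : Item) : Bool :=
  allF n (fun x => pf it.gi (pf it.g x) == x) && reps.contains it.r &&
  allF n (fun x => it.r.testBit (pf it.g x : Fin n) == it.c.testBit x) &&
  K.all fun b' => K.any fun b => allF n fun x => b'.testBit (pf it.g x : Fin n) == b.testBit x

def stepChk (n : ℕ) [NeZero n] (t m : ℕ) (I K : List ℕ) (s : ℕ) (items : List Item) (reps : List ℕ) : Bool :=
  (pts n s).length == t && (K.all fun b => (pts n s).any fun x : Fin n => !b.testBit x) &&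
  items.all (itemOk n K reps) &&
  ch (fun l : List (Fin n) => !(K.all fun b => I.contains (l.countP fun x : Fin n => b.testBit x)) ||
      items.any fun it => (l.map (sig K)).isPerm ((pts n it.c).map (sig K))) (oth n s) m (pts n s)

variable {α : Type*} [Fintype α] [DecidableEq α]

/-- the set with mask `b` in the labelling `ℓ` -/
def F (ℓ : α ≃ Fin n) (b : ℕ) : Finset α := univ.filter fun a => b.testBit (ℓ a)

omit [DecidableEq α] in
@[simp] theorem mem_F {ℓ : α ≃ Fin n} {b : ℕ} {a : α} : a ∈ F ℓ b ↔ b.testBit (ℓ a) = true := by simp [F]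

theorem card_F (ℓ : α ≃ Fin n) (b : ℕ) : (F ℓ b).card = (pts n b).length := by
  rw [← List.toFinset_card_of_nodup (nodup_pts b), ← card_map ℓ.toEmbedding]
  congr 1
  ext x; simp [mem_pts]

theorem card_inter_F (ℓ : α ≃ Fin n) (b : ℕ) {c : Finset α} {l : List (Fin n)} (hl : l.Nodup)
    (h : ∀ x, x ∈ l ↔ x ∈ c.map ℓ.toEmbedding) :
    (c ∩ F ℓ b).card = l.countP fun x : Fin n => b.testBit x := by
  rw [List.countP_eq_length_filter, ← List.toFinset_card_of_nodup (hl.filter _), ← card_map ℓ.toEmbedding]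
  congr 1
  ext x; simp [h]

/-- some labelling makes all masks of `K` blocks -/
def Lab (n : ℕ) (B : Set (Finset α)) (K : List ℕ) : Prop := ∃ ℓ : α ≃ Fin n, ∀ b ∈ K, F ℓ b ∈ B

theorem step [NeZero n] {t m : ℕ} {I K : List ℕ} {s : ℕ} {items : List Item} {reps : List ℕ}
    (h : stepChk n t m I K s items reps = true) {B : Set (Finset α)} (hB : IsSteinerSystem t (t + m) B)
    (hI : ∀ b ∈ B, ∀ c ∈ B, b ≠ c → (b ∩ c).card ∈ I) (hK : Lab n B K) :
    ∃ r ∈ reps, Lab n B (r :: K) := by
  obtain ⟨ℓ, hK⟩ := hK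
  simp only [stepChk, Bool.and_eq_true, beq_iff_eq, List.all_eq_true, List.any_eq_true] at h
  obtain ⟨⟨⟨h1, h2⟩, h3⟩, h4⟩ := h
  obtain ⟨c, ⟨hc, hsc⟩, -⟩ := hB.2 (F ℓ s) (by rw [card_F, h1])
  obtain ⟨l, hl, hlc, hf⟩ := enum_sound h4 (c.map ℓ.toEmbedding) (fun x hx => by
    simpa using hsc (mem_F.2 (by simpa using hx))) (by rw [card_map, hB.1 c hc, h1])
  have hcons : (K.all fun b => I.contains (l.countP fun x : Fin n => b.testBit x)) = true := by
    rw [List.all_eq_true]
    intro b hb
    rw [List.contains_iff_mem, ← card_inter_F ℓ b hl hlc]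
    refine hI c hc _ (hK b hb) fun e => ?_
    obtain ⟨x, hx, hxb⟩ := h2 b hb
    have : ℓ.symm x ∈ c := hsc (mem_F.2 (by simpa [mem_pts] using hx))
    rw [e, mem_F] at this
    simp at this hxb
    rw [this] at hxb; cases hxb
  rw [hcons] at hf
  simp only [Bool.not_true, Bool.false_or, List.any_eq_true, List.isPerm_iff] at hf
  obtain ⟨it, hit, hp⟩ := hf
  obtain ⟨p, hp1, hp2⟩ := cell_perm (sig K) hl (nodup_pts _) hp
  have h5 := h3 it hit
  simp only [itemOk, Bool.and_eq_true, allF_iff, beq_iff_eq, List.all_eq_true, List.any_eq_true,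
    List.contains_iff_mem] at h5
  obtain ⟨⟨⟨g1, g2⟩, g3⟩, g4⟩ := h5
  have hinj : Function.Injective (pf it.g : Fin n → Fin n) := Function.LeftInverse.injective g1
  let g : Equiv.Perm (Fin n) := Equiv.ofBijective _ (Finite.injective_iff_bijective.1 hinj)
  refine ⟨it.r, g2, (ℓ.trans p).trans g, fun b hb => ?_⟩
  rcases List.mem_cons.1 hb with rfl | hb
  · convert hc using 1
    ext a
    simp only [mem_F, Equiv.trans_apply, g, Equiv.ofBijective_apply, g3]
    rw [← mem_pts, hp2, hlc]; simp
  · obtain ⟨b0, hb0, e⟩ := g4 b hb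
    convert hK b0 hb0 using 1
    ext a
    simp only [mem_F, Equiv.trans_apply, g, Equiv.ofBijective_apply, e]
    have := List.map_inj_left.1 (hp1 (ℓ a)) b0 hb0
    rw [this]

theorem step1 [NeZero n] {t m : ℕ} {I K : List ℕ} {s : ℕ} {items : List Item} {r : ℕ}
    (h : stepChk n t m I K s items [r] = true) {B : Set (Finset α)} (hB : IsSteinerSystem t (t + m) B)
    (hI : ∀ b ∈ B, ∀ c ∈ B, b ≠ c → (b ∩ c).card ∈ I) (hK : Lab n B K) : Lab n B (r :: K) := by
  obtain ⟨r', hr, h⟩ := step h hB hI hK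
  rw [List.mem_singleton] at hr
  exact hr ▸ h

def forcedChk (n : ℕ) (t m : ℕ) (I K : List ℕ) (s r : ℕ) : Bool :=
  (pts n s).length == t && (pts n r).length == t + m &&
  (K.all fun b => (pts n s).any fun x : Fin n => !b.testBit x) &&
  ch (fun l : List (Fin n) => (l.all fun x : Fin n => r.testBit x) ||
    !(K.all fun b => I.contains (l.countP fun x : Fin n => b.testBit x))) (oth n s) m (pts n s)

theorem forced {t m : ℕ} {I K : List ℕ} {s r : ℕ}
    (h : forcedChk n t m I K s r = true) {B : Set (Finset α)} (hB : IsSteinerSystem t (t + m) B)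
    (hI : ∀ b ∈ B, ∀ c ∈ B, b ≠ c → (b ∩ c).card ∈ I) (hK : Lab n B K) : Lab n B (r :: K) := by
  obtain ⟨ℓ, hK⟩ := hK
  simp only [forcedChk, Bool.and_eq_true, beq_iff_eq, List.all_eq_true, List.any_eq_true] at h
  obtain ⟨⟨⟨h1, h3⟩, h2⟩, h4⟩ := h
  obtain ⟨c, ⟨hc, hsc⟩, -⟩ := hB.2 (F ℓ s) (by rw [card_F, h1])
  obtain ⟨l, hl, hlc, hf⟩ := enum_sound h4 (c.map ℓ.toEmbedding) (fun x hx => by
    simpa using hsc (mem_F.2 (by simpa using hx))) (by rw [card_map, hB.1 c hc, h1])
  have hcons : (K.all fun b => I.contains (l.countP fun x : Fin n => b.testBit x)) = true := by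
    rw [List.all_eq_true]
    intro b hb
    rw [List.contains_iff_mem, ← card_inter_F ℓ b hl hlc]
    refine hI c hc _ (hK b hb) fun e => ?_
    obtain ⟨x, hx, hxb⟩ := h2 b hb
    have : ℓ.symm x ∈ c := hsc (mem_F.2 (by simpa [mem_pts] using hx))
    rw [e, mem_F] at this
    simp at this hxb
    rw [this] at hxb; cases hxb
  rw [hcons] at hf
  simp only [Bool.not_true, Bool.or_false, List.all_eq_true] at hf
  refine ⟨ℓ, fun b hb => ?_⟩
  rcases List.mem_cons.1 hb with rfl | hb
  · have : c = F ℓ b := eq_of_subset_of_card_le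
      (fun a ha => mem_F.2 (hf _ ((hlc _).2 (by simpa using ha)))) (by rw [card_F, h3, hB.1 c hc])
    exact this ▸ hc
  · exact hK b hb

/-- a branch-free run -/
def runChk (n : ℕ) [NeZero n] (t m : ℕ) (I : List ℕ) : List (ℕ × List Item × ℕ) → List ℕ → Bool
  | [], _ => true
  | x :: xs, K => (if x.2.1.isEmpty then forcedChk n t m I K x.1 x.2.2 else
      stepChk n t m I K x.1 x.2.1 [x.2.2]) && runChk n t m I xs (x.2.2 :: K)

theorem run [NeZero n] {t m : ℕ} {I : List ℕ} {B : Set (Finset α)} (hB : IsSteinerSystem t (t + m) B)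
    (hI : ∀ b ∈ B, ∀ c ∈ B, b ≠ c → (b ∩ c).card ∈ I) :
    ∀ (xs : List (ℕ × List Item × ℕ)) (K : List ℕ), runChk n t m I xs K = true → Lab n B K →
      Lab n B ((xs.map fun x => x.2.2).reverse ++ K)
  | [], K, _, hK => by simpa using hK
  | x :: xs, K, h, hK => by
    simp only [runChk, Bool.and_eq_true] at h
    have h1 : Lab n B (x.2.2 :: K) := by
      have h1 := h.1
      split_ifs at h1
      · exact forced h1 hB hI hK
      · exact step1 h1 hB hI hK
    have := run hB hI xs _ h.2 h1
    simpa using this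

theorem Lab.nil (h : Fintype.card α = n) (B : Set (Finset α)) : Lab n B [] :=
  ⟨Fintype.equivFinOfCardEq h, by simp⟩

/-- if `K` covers all `t`-sets, it is the whole system -/
theorem full {t k : ℕ} {B : Set (Finset α)} (hB : IsSteinerSystem t k B) (htk : t ≤ k) {K : List ℕ}
    (h : ch (fun l : List (Fin n) => K.any fun b => l.all fun x : Fin n => b.testBit x)
      (List.finRange n) t [] = true)
    {ℓ : α ≃ Fin n} (hK : ∀ b ∈ K, F ℓ b ∈ B) (c : Finset α) : c ∈ B ↔ ∃ b ∈ K, F ℓ b = c := by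
  refine ⟨fun hc => ?_, fun ⟨b, hb, e⟩ => e ▸ hK b hb⟩
  obtain ⟨s, hs, hst⟩ := exists_subset_card_eq (show t ≤ c.card by rw [hB.1 c hc]; exact htk)
  obtain ⟨l, -, hl, hf⟩ := enum_all h (s.map ℓ.toEmbedding) (by rw [card_map, hst])
  simp only [List.any_eq_true, List.all_eq_true] at hf
  obtain ⟨b, hb, hlb⟩ := hf
  refine ⟨b, hb, eq_of_card_inter hB (hK b hb) hc (hst ▸ card_le_card (subset_inter (fun a ha => ?_) hs))⟩
  exact mem_F.2 (hlb _ ((hl _).2 (by simpa using ha)))

theorem iso_of_full {β : Type*} [Fintype β] [DecidableEq β] {B : Set (Finset α)} {B' : Set (Finset β)}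
    {K : List ℕ} {ℓ : α ≃ Fin n} {ℓ' : β ≃ Fin n} (h : ∀ c, c ∈ B ↔ ∃ b ∈ K, F ℓ b = c)
    (h' : ∀ c, c ∈ B' ↔ ∃ b ∈ K, F ℓ' b = c) : SetSystemIso B B' := by
  have e : ∀ b, (F ℓ b).image (ℓ.trans ℓ'.symm) = F ℓ' b := by
    intro b
    ext y
    simp only [mem_image, mem_F, Equiv.trans_apply]
    exact ⟨fun ⟨a, ha, e⟩ => by rw [← e]; simpa using ha, fun hy => ⟨ℓ.symm (ℓ' y), by simpa using hy, by simp⟩⟩
  refine ⟨ℓ.trans ℓ'.symm, ?_⟩
  ext c
  simp only [Set.mem_image, h, h']
  constructor
  · rintro ⟨_, ⟨b, hb, rfl⟩, rfl⟩; exact ⟨b, hb, (e b).symm⟩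
  · rintro ⟨b, hb, rfl⟩; exact ⟨_, ⟨b, hb, rfl⟩, e b⟩

end Lead.St
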