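import Cfsg.Agent.Lead.St3
import Cfsg.Agent.Lead.St4
/-! Steiner systems S(5-j, 8-j, 24-j) come from the Golay code; S(5,6,12), S(4,5,11) are unique. -/
set_option autoImplicit false
namespace Lead.St
open Finset Cfsg H27
open scoped symmDiff
variable {α : Type*} [Fintype α] [DecidableEq α] {n : ℕ}

def l24 : GolayPt ≃ Fin 24 where
  toFun p := ⟨GE.ix p, GE.ix_lt p⟩
  invFun x := GE.e x
  left_inv p := GE.e_ix p
  right_inv x := Fin.ext (GE.ix_e _ x.2)

theorem F_l24 (b : ℕ) : F l24 b = GE.fs b := by ext p; simp [l24]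

def phi (hn : n ≤ 24) (ℓ : α ≃ Fin n) : α ↪ GolayPt :=
  ⟨fun a => GE.e (ℓ a), fun a b e => ℓ.injective (Fin.ext
    ((GE.e_eq_iff (lt_of_lt_of_le (ℓ a).2 hn) (lt_of_lt_of_le (ℓ b).2 hn)).1 e))⟩

def XX (n : ℕ) : Finset GolayPt := univ.filter fun p => n ≤ GE.ix p

theorem mem_XX {p : GolayPt} : p ∈ XX n ↔ n ≤ GE.ix p := by simp [XX]

omit [Fintype α] [DecidableEq α] in
theorem ix_phi (hn : n ≤ 24) (ℓ : α ≃ Fin n) (a : α) : GE.ix (phi hn ℓ a) = ℓ a :=
  GE.ix_e _ (lt_of_lt_of_le (ℓ a).2 hn)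

omit [Fintype α] [DecidableEq α] in
theorem phi_notMem (hn : n ≤ 24) (ℓ : α ≃ Fin n) (a : α) : phi hn ℓ a ∉ XX n := by
  rw [mem_XX, ix_phi]; exact not_le.2 (ℓ a).2

omit [Fintype α] [DecidableEq α] in
theorem exists_phi (hn : n ≤ 24) (ℓ : α ≃ Fin n) {p : GolayPt} (hp : p ∉ XX n) : ∃ a, phi hn ℓ a = p := by
  rw [mem_XX, not_le] at hp
  exact ⟨ℓ.symm ⟨_, hp⟩, by
    show GE.e (ℓ (ℓ.symm _)) = p
    rw [Equiv.apply_symm_apply]; exact GE.e_ix p⟩

/-- a set of points together with the extra points -/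
def ext (hn : n ≤ 24) (ℓ : α ≃ Fin n) (c : Finset α) : Finset GolayPt := c.map (phi hn ℓ) ∪ XX n

omit [Fintype α] [DecidableEq α] in
theorem phi_mem_ext {hn : n ≤ 24} {ℓ : α ≃ Fin n} {c : Finset α} {a : α} : phi hn ℓ a ∈ ext hn ℓ c ↔ a ∈ c := by
  simp [ext, phi_notMem]

omit [Fintype α] [DecidableEq α] in
theorem XX_sub {hn : n ≤ 24} {ℓ : α ≃ Fin n} {c : Finset α} : XX n ⊆ ext hn ℓ c := subset_union_right

omit [Fintype α] [DecidableEq α] in
theorem ext_eq {hn : n ≤ 24} {ℓ : α ≃ Fin n} {c : Finset α} {w : Finset GolayPt} (h1 : XX n ⊆ w)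
    (h2 : ∀ a, phi hn ℓ a ∈ w ↔ a ∈ c) : ext hn ℓ c = w := by
  ext p
  by_cases hp : p ∈ XX n
  · exact ⟨fun _ => h1 hp, fun _ => XX_sub hp⟩
  · obtain ⟨a, rfl⟩ := exists_phi hn ℓ hp
    rw [phi_mem_ext, h2]

omit [Fintype α] [DecidableEq α] in
theorem card_ext (hn : n ≤ 24) (ℓ : α ≃ Fin n) (c : Finset α) :
    (ext hn ℓ c).card = c.card + (XX n).card := by
  rw [ext, card_union_of_disjoint, card_map]
  rw [disjoint_left]
  intro p hp
  obtain ⟨a, -, rfl⟩ := mem_map.1 hp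
  exact phi_notMem hn ℓ a

omit [Fintype α] in
theorem ext_inter (hn : n ≤ 24) (ℓ : α ≃ Fin n) (c d : Finset α) :
    ext hn ℓ (c ∩ d) = ext hn ℓ c ∩ ext hn ℓ d :=
  ext_eq (subset_inter XX_sub XX_sub) fun a => by simp [phi_mem_ext]

omit [Fintype α] [DecidableEq α] in
theorem ext_inj (hn : n ≤ 24) (ℓ : α ≃ Fin n) : Function.Injective (ext hn ℓ) := fun c d e => by
  ext a; rw [← phi_mem_ext (hn := hn) (ℓ := ℓ), e, phi_mem_ext]

omit [DecidableEq α] in
theorem exists_ext (hn : n ≤ 24) (ℓ : α ≃ Fin n) {w : Finset GolayPt} (h : XX n ⊆ w) :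
    ∃ c, ext hn ℓ c = w :=
  ⟨univ.filter fun a => phi hn ℓ a ∈ w, ext_eq h fun a => by simp⟩

def leafChk (n : ℕ) (X : ℕ) (K : List ℕ) : Bool :=
  (K.all fun b => inC (b ||| X) &&
    allF 24 fun x => (b ||| X).testBit x == (if (x : ℕ) < n then b.testBit x else true)) &&
  [1, 2, 3, 4].all fun m => ch (fun l : List (Fin 24) =>
    (K.any fun b => (l.countP fun x : Fin 24 => (b ||| X).testBit x) % 2 == 1) ||
      (l.length == 2 && l.all fun x : Fin 24 => decide (n ≤ (x : ℕ)))) (List.finRange 24) m []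

theorem leaf (hn : n ≤ 24) {t k X : ℕ} {K : List ℕ} (h : leafChk n X K = true) {B : Set (Finset α)}
    (hB : IsSteinerSystem t k B) (ht : t + (XX n).card = 5) (hk : k + (XX n).card = 8)
    (hI : ∀ b ∈ B, ∀ c ∈ B, b ≠ c → Even ((b ∩ c).card + (XX n).card))
    {ℓ : α ≃ Fin n} (hK : ∀ b ∈ K, F ℓ b ∈ B) (c : Finset α) : c ∈ B ↔ ext hn ℓ c ∈ octads := by
  simp only [leafChk, Bool.and_eq_true, List.all_eq_true, allF_iff, beq_iff_eq] at h
  obtain ⟨h1, h2⟩ := h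
  have hext : ∀ b ∈ K, ext hn ℓ (F ℓ b) = GE.fs (b ||| X) := by
    intro b hb
    refine ext_eq (fun p hp => ?_) fun a => ?_
    · rw [mem_XX] at hp
      have := (h1 b hb).2 ⟨_, GE.ix_lt p⟩
      rw [if_neg (by simpa using hp)] at this
      exact GE.mem_fs.2 this
    · have := (h1 b hb).2 ⟨_, GE.ix_lt (phi hn ℓ a)⟩
      simp only [ix_phi, (ℓ a).2, if_true] at this
      rw [GE.mem_fs, mem_F, ix_phi, this]
  have main : ∀ c ∈ B, ext hn ℓ c ∈ octads := by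
    intro c hc
    have h8 : (ext hn ℓ c).card = 8 := by rw [card_ext, hB.1 c hc, hk]
    obtain ⟨v, hv⟩ : (LD GC (ext hn ℓ c)).Nonempty := by
      rcases golGC.coset (ext hn ℓ c) with ⟨v, hv, -⟩ | ⟨-, h6⟩
      · exact ⟨v, by rw [hv]; simp⟩
      · exact card_pos.1 (by omega)
    rw [mem_LD] at hv
    by_cases h0 : v = ∅
    · subst h0
      exact ⟨by have := hv.2; rwa [← bot_eq_empty, symmDiff_bot] at this, h8⟩
    exfalso
    have hpos : 0 < v.card := card_pos.2 (nonempty_iff_ne_empty.2 h0)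
    have hm : v.card ∈ [1, 2, 3, 4] := by
      have := hv.1
      simp only [List.mem_cons, List.not_mem_nil, or_false]; omega
    obtain ⟨l, hl, hlv, hf⟩ := enum_all (h2 _ hm) (v.map l24.toEmbedding) (card_map _)
    simp only [Bool.or_eq_true, List.any_eq_true, beq_iff_eq, Bool.and_eq_true, List.all_eq_true,
      decide_eq_true_eq] at hf
    rcases hf with ⟨b, hb, hodd⟩ | ⟨hl2, hX⟩
    · rw [← card_inter_F l24 _ hl hlv, F_l24] at hodd
      have e1 := even_card_inter hv.2 (fs_mem_GC_of (h1 b hb).1)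
      have e2 : Even (ext hn ℓ c ∩ GE.fs (b ||| X)).card := by
        rw [← hext b hb, ← ext_inter, card_ext]
        by_cases e : c = F ℓ b
        · rw [← e, inter_self, hB.1 c hc, hk]; decide
        · exact hI c hc _ (hK b hb) e
      have e3 : (ext hn ℓ c ∆ v) ∩ GE.fs (b ||| X) =
          (ext hn ℓ c ∩ GE.fs (b ||| X)) ∆ (v ∩ GE.fs (b ||| X)) := by
        ext p; simp only [mem_inter, mem_symmDiff]; tauto
      have e4 := card_sd (ext hn ℓ c ∩ GE.fs (b ||| X)) (v ∩ GE.fs (b ||| X))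
      rw [← e3] at e4
      obtain ⟨a1, ha1⟩ := e1
      obtain ⟨a2, ha2⟩ := e2
      omega
    · have hv2 : v.card = 2 := by
        rw [← hl2, ← List.toFinset_card_of_nodup hl, ← card_map l24.toEmbedding]
        congr 1
        ext x; rw [List.mem_toFinset, hlv]
      have hsub : v ⊆ ext hn ℓ c := fun p hp =>
        XX_sub (mem_XX.2 (hX (l24 p) ((hlv _).2 (by simpa using hp))))
      have e4 := card_sd (ext hn ℓ c) v
      rw [inter_eq_right.2 hsub] at e4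
      have := card_of_mem_GC hv.2
      omega
  refine ⟨main c, fun hc => ?_⟩
  have h8 := hc.2
  rw [card_ext] at h8
  obtain ⟨s, hs, hst⟩ := exists_subset_card_eq (show t ≤ c.card by omega)
  obtain ⟨b, ⟨hb, hsb⟩, -⟩ := hB.2 s hst
  have := octad_eq_of_five (main b hb) hc (by
    rw [← ext_inter, card_ext]
    have := card_le_card (subset_inter hsb hs)
    omega)
  exact ext_inj hn ℓ this ▸ hb

theorem iso_of_ext {β : Type*} [Fintype β] [DecidableEq β] {B : Set (Finset α)} {B' : Set (Finset β)}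
    {hn : n ≤ 24} {ℓ : α ≃ Fin n} {ℓ' : β ≃ Fin n} (h : ∀ c, c ∈ B ↔ ext hn ℓ c ∈ octads)
    (h' : ∀ c, c ∈ B' ↔ ext hn ℓ' c ∈ octads) : SetSystemIso B B' := by
  have e : ∀ c : Finset α, ext hn ℓ' (c.image (ℓ.trans ℓ'.symm)) = ext hn ℓ c := by
    intro c
    refine ext_eq XX_sub fun y => ?_
    have : phi hn ℓ' y = phi hn ℓ (ℓ.symm (ℓ' y)) := by
      show GE.e (ℓ' y) = GE.e (ℓ (ℓ.symm _))
      rw [Equiv.apply_symm_apply]
    rw [this, phi_mem_ext, mem_image]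
    exact ⟨fun hy => ⟨_, hy, by simp⟩, fun ⟨a, ha, e⟩ => by rw [← e]; simpa using ha⟩
  refine ⟨ℓ.trans ℓ'.symm, ?_⟩
  ext c
  simp only [Set.mem_image]
  constructor
  · rintro ⟨b, hb, rfl⟩; rw [h', e, ← h]; exact hb
  · intro hc
    have e2 : (c.image (ℓ.trans ℓ'.symm).symm).image (ℓ.trans ℓ'.symm) = c := by
      rw [image_image, Equiv.self_comp_symm, image_id]
    exact ⟨_, by rw [h, ← e, e2, ← h']; exact hc, e2⟩

end Lead.St
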