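import Cfsg.Agent.Lead.St24
import Cfsg.Agent.Lead.St23
import Cfsg.Agent.Lead.St22
import Cfsg.Agent.H27.MSub
/-! Automorphism groups of the Witt designs. -/
set_option autoImplicit false
namespace Lead.St
open Finset Cfsg H27 MulAction Equiv
open scoped symmDiff Pointwise
variable {α : Type*} [Fintype α] [DecidableEq α] {n : ℕ}

/-- `σ` is induced by `g` along `φ` -/
def Ind (φ : α ↪ GolayPt) (g : MM) (σ : Perm α) : Prop := ∀ a, g • φ a = φ (σ a)

omit [DecidableEq α] in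
theorem exists_ind (φ : α ↪ GolayPt) (g : MM) (h : ∀ a, ∃ a', g • φ a = φ a') : ∃ σ, Ind φ g σ := by
  choose f hf using h
  have : Function.Injective f := fun a b e => φ.injective (smul_left_cancel g (by rw [hf, hf, e]))
  exact ⟨Equiv.ofBijective f (Finite.injective_iff_bijective.1 this), hf⟩

omit [Fintype α] [DecidableEq α] in
theorem Ind.mul {φ : α ↪ GolayPt} {g h : MM} {σ τ : Perm α} (a : Ind φ g σ) (b : Ind φ h τ) :
    Ind φ (g * h) (σ * τ) := fun x => by rw [mul_smul, b, a]; rfl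

omit [Fintype α] [DecidableEq α] in
theorem Ind.inv {φ : α ↪ GolayPt} {g : MM} {σ : Perm α} (a : Ind φ g σ) : Ind φ g⁻¹ σ⁻¹ := fun x => by
  rw [inv_smul_eq_iff, a]; simp

omit [Fintype α] [DecidableEq α] in
theorem Ind.unique {φ : α ↪ GolayPt} {g : MM} {σ τ : Perm α} (a : Ind φ g σ) (b : Ind φ g τ) : σ = τ :=
  Equiv.ext fun x => φ.injective (by rw [← a, ← b])

omit [Fintype α] [DecidableEq α] in
theorem aut_equiv (φ : α ↪ GolayPt) (S : Subgroup MM) (A : Subgroup (Perm α))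
    (h1 : ∀ g ∈ S, ∃ σ ∈ A, Ind φ g σ) (h2 : ∀ σ ∈ A, ∃ g ∈ S, Ind φ g σ)
    (h3 : ∀ g ∈ S, Ind φ g 1 → g = 1) : ∃ e : S ≃* A, ∀ g : S, Ind φ g (e g) := by
  choose f hf1 hf2 using h1
  let F : S →* A := MonoidHom.mk' (fun g => ⟨f g g.2, hf1 g g.2⟩) fun g h =>
    Subtype.ext ((hf2 _ (g * h).2).unique ((hf2 _ g.2).mul (hf2 _ h.2)))
  refine ⟨MulEquiv.ofBijective F ⟨(injective_iff_map_eq_one F).2 fun g hg => Subtype.ext (h3 g g.2 ?_),
    fun σ => ?_⟩, fun g => hf2 g g.2⟩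
  · have := hf2 g g.2
    rwa [show f g g.2 = 1 from congrArg Subtype.val hg] at this
  · obtain ⟨g, hg, a⟩ := h2 σ σ.2
    exact ⟨⟨g, hg⟩, Subtype.ext ((hf2 g hg).unique a)⟩

theorem mem_aut_of {B : Set (Finset α)} {σ : Perm α} (h : ∀ c ∈ B, σ • c ∈ B) : σ ∈ setSystemAut B := by
  rw [mem_stabilizer_iff]
  refine Set.eq_of_subset_of_ncard_le ?_ (by rw [Set.ncard_smul_set])
  rintro _ ⟨c, hc, rfl⟩
  exact h c hc

omit [Fintype α] in
theorem smul_mem_of_aut {B : Set (Finset α)} {σ : Perm α} (h : σ ∈ setSystemAut B) {c : Finset α} (hc : c ∈ B) :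
    σ • c ∈ B := by
  have := Set.smul_mem_smul_set (a := σ) hc
  rwa [mem_stabilizer_iff.1 h] at this

theorem mem_aut {t k : ℕ} {B : Set (Finset α)} (hB : IsSteinerSystem t k B) {φ : α ↪ GolayPt}
    {X : Finset GolayPt} (ht : t + X.card = 5) (htk : t ≤ k) (hX : ∀ a, φ a ∉ X)
    (hO : ∀ c ∈ B, ∃ o ∈ octads, X ⊆ o ∧ ∀ a, φ a ∈ o ↔ a ∈ c) {g : MM} {σ : Perm α} (hg : g • X = X)
    (h : Ind φ g σ) : σ ∈ setSystemAut B := by
  refine mem_aut_of fun c hc => ?_
  obtain ⟨o, ho, hXo, hco⟩ := hO c hc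
  obtain ⟨s, hs, hst⟩ := exists_subset_card_eq (show t ≤ (σ • c).card by rw [card_smul_finset, hB.1 c hc]; exact htk)
  obtain ⟨c', ⟨hc', hsc'⟩, -⟩ := hB.2 s hst
  obtain ⟨o', ho', hXo', hco'⟩ := hO c' hc'
  have h1 : ∀ a, φ a ∈ g • o ↔ a ∈ σ • c := by
    intro a
    rw [← inv_smul_mem_iff, ← inv_smul_mem_iff, h.inv, hco]; rfl
  have e : o' = g • o := by
    refine octad_eq_of_five ho' ((mm_smul_octads g).2 ho) ?_
    have h2 : s.map φ ∪ X ⊆ o' ∩ g • o := by
      refine union_subset (fun p hp => ?_) (subset_inter hXo' (hg ▸ smul_finset_subset_smul_finset hXo))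
      obtain ⟨a, ha, rfl⟩ := mem_map.1 hp
      exact mem_inter.2 ⟨(hco' a).2 (hsc' ha), (h1 a).2 (hs ha)⟩
    have h3 := card_le_card h2
    rw [card_union_of_disjoint, card_map] at h3
    · omega
    · rw [disjoint_left]
      intro p hp
      obtain ⟨a, -, rfl⟩ := mem_map.1 hp
      exact hX a
  have : σ • c = c' := by ext a; rw [← h1, ← e, hco']
  exact this ▸ hc'

def perpChk (n : ℕ) (K : List ℕ) : Bool :=
  (K.all fun b => isOct b && allF 24 fun x => decide ((x : ℕ) < n) || b.testBit x) &&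
  [1, 2, 3, 4].all fun m => ch (fun l : List (Fin 24) =>
    (K.any fun b => (l.countP fun x : Fin 24 => b.testBit x) % 2 == 1) ||
      (l.length == 2 && l.all fun x : Fin 24 => decide (n ≤ (x : ℕ)))) (List.finRange 24) m []

theorem perp {K : List ℕ} (h : perpChk n K = true) {w : Finset GolayPt}
    (hw : ∀ o ∈ octads, XX n ⊆ o → Even (w ∩ o).card) :
    w ∈ GC ∨ ∃ v ⊆ XX n, v.card = 2 ∧ w ∆ v ∈ GC := by
  simp only [perpChk, Bool.and_eq_true, List.all_eq_true, allF_iff, Bool.or_eq_true, decide_eq_true_eq] at h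
  obtain ⟨h1, h2⟩ := h
  obtain ⟨v, hv⟩ : (LD GC w).Nonempty := by
    rcases golGC.coset w with ⟨v, hv, -⟩ | ⟨-, h6⟩
    · exact ⟨v, by rw [hv]; simp⟩
    · exact card_pos.1 (by omega)
  rw [mem_LD] at hv
  by_cases h0 : v = ∅
  · subst h0
    exact Or.inl (by have := hv.2; rwa [← bot_eq_empty, symmDiff_bot] at this)
  have hpos : 0 < v.card := card_pos.2 (nonempty_iff_ne_empty.2 h0)
  have hm : v.card ∈ [1, 2, 3, 4] := by
    have := hv.1
    simp only [List.mem_cons, List.not_mem_nil, or_false]; omega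
  obtain ⟨l, hl, hlv, hf⟩ := enum_all (h2 _ hm) (v.map l24.toEmbedding) (card_map _)
  simp only [Bool.or_eq_true, List.any_eq_true, beq_iff_eq, Bool.and_eq_true, List.all_eq_true,
    decide_eq_true_eq] at hf
  rcases hf with ⟨b, hb, hodd⟩ | ⟨hl2, hX⟩
  · exfalso
    rw [← card_inter_F l24 _ hl hlv, F_l24] at hodd
    have ho := fs_mem_octads_of (h1 b hb).1
    have e1 := even_card_inter hv.2 ho.1
    have e2 := hw _ ho fun p hp => by
      rw [mem_XX] at hp
      rcases (h1 b hb).2 ⟨_, GE.ix_lt p⟩ with h | h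
      · exact absurd h (not_lt.2 hp)
      · exact GE.mem_fs.2 h
    have e3 : (w ∆ v) ∩ GE.fs b = (w ∩ GE.fs b) ∆ (v ∩ GE.fs b) := by
      ext p; simp only [mem_inter, mem_symmDiff]; tauto
    have e4 := card_sd (w ∩ GE.fs b) (v ∩ GE.fs b)
    rw [← e3] at e4
    obtain ⟨a1, ha1⟩ := e1
    obtain ⟨a2, ha2⟩ := e2
    omega
  · refine Or.inr ⟨v, fun p hp => mem_XX.2 (hX (l24 p) ((hlv _).2 (by simpa using hp))), ?_, hv.2⟩
    rw [← hl2, ← List.toFinset_card_of_nodup hl, ← card_map l24.toEmbedding]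
    congr 1
    ext x; rw [List.mem_toFinset, hlv]

theorem perp24 : perpChk 24 (cert24.map fun x => x.2.2) = true := by decide +kernel
theorem perp23 : perpChk 23 (cert23.map fun x => x.2.2 ||| 0x800000) = true := by decide +kernel
theorem perp22 : perpChk 22 (cert22.map fun x => x.2.2 ||| 0xc00000) = true := by decide +kernel

section
variable {hn : n ≤ 24} {ℓ : α ≃ Fin n} {B : Set (Finset α)} (h : ∀ c, c ∈ B ↔ ext hn ℓ c ∈ octads)

omit [Fintype α] [DecidableEq α] in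
theorem via_fix (σ : Perm α) {p : GolayPt} (hp : p ∈ XX n) : σ.viaEmbedding (phi hn ℓ) p = p :=
  Perm.viaEmbedding_apply_of_notMem _ _ _ (by rintro ⟨a, rfl⟩; exact phi_notMem hn ℓ a hp)

omit [Fintype α] in
theorem via_ext (σ : Perm α) (c : Finset α) : σ.viaEmbedding (phi hn ℓ) • ext hn ℓ c = ext hn ℓ (σ • c) := by
  refine (ext_eq (fun p hp => ?_) fun a => ?_).symm
  · rw [← via_fix (hn := hn) (ℓ := ℓ) σ hp]
    exact smul_mem_smul_finset (XX_sub hp)
  · obtain ⟨a, rfl⟩ := σ.surjective a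
    rw [← Perm.viaEmbedding_apply]
    exact (smul_mem_smul_finset_iff (σ.viaEmbedding (phi hn ℓ))).trans
      (phi_mem_ext.trans (smul_mem_smul_finset_iff σ).symm)

include h in
theorem via_perp {K : List ℕ} (hK : perpChk n K = true) {σ : Perm α} (hσ : σ ∈ setSystemAut B)
    {u : Finset GolayPt} (hu : u ∈ GC) : σ.viaEmbedding (phi hn ℓ) • u ∈ GC ∨
      ∃ v ⊆ XX n, v.card = 2 ∧ (σ.viaEmbedding (phi hn ℓ) • u) ∆ v ∈ GC := by
  refine perp hK fun o ho hXo => ?_
  obtain ⟨c, rfl⟩ := exists_ext hn ℓ hXo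
  have h1 := (h _).1 (smul_mem_of_aut ((setSystemAut B).inv_mem hσ) ((h c).2 ho))
  have h2 := even_card_inter hu h1.1
  rwa [← card_smul_finset (σ.viaEmbedding (phi hn ℓ)), smul_finset_inter, via_ext, smul_inv_smul] at h2

include h in
theorem hO_ext : ∀ c ∈ B, ∃ o ∈ octads, XX n ⊆ o ∧ ∀ a, phi hn ℓ a ∈ o ↔ a ∈ c :=
  fun c hc => ⟨_, (h c).1 hc, XX_sub, fun _ => phi_mem_ext⟩

omit [DecidableEq α] in
theorem exists_ind_XX {g : MM} (hg : g • XX n = XX n) : ∃ σ, Ind (phi hn ℓ) g σ :=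
  exists_ind _ g fun a => by
    obtain ⟨a', e⟩ := exists_phi hn ℓ (p := g • phi hn ℓ a) (by
      rw [← hg, smul_mem_smul_finset_iff]; exact phi_notMem hn ℓ a)
    exact ⟨a', e.symm⟩

omit [Fintype α] [DecidableEq α] in
theorem ind_one (h8 : 21 ≤ n) {g : MM} (hg : Ind (phi hn ℓ) g 1) : g = 1 := by
  refine eq_one_of_refChk (F := 2 ^ 21 - 1) (Os := gB) (by decide +kernel) fun p hp => ?_
  rw [GE.mem_fs, Nat.testBit_two_pow_sub_one, decide_eq_true_eq] at hp
  obtain ⟨a, rfl⟩ := exists_phi hn ℓ (p := p) (by rw [mem_XX]; omega)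
  exact hg a

include h in
/-- multiple transitivity -/
theorem trans_ext {t k : ℕ} (hB : IsSteinerSystem t k B) (ht : t + (XX n).card = 5) (htk : t ≤ k) :
    IsMultiplyPretransitive (setSystemAut B) α t := by
  refine ⟨fun x y => ?_⟩
  have nd : ∀ x : Fin t ↪ α, ((List.ofFn fun i => phi hn ℓ (x i)) ++ (XX n).toList).Nodup := by
    intro x
    rw [List.nodup_append]
    refine ⟨List.nodup_ofFn.2 ((phi hn ℓ).injective.comp x.injective), nodup_toList _, fun a ha b hb e => ?_⟩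
    obtain ⟨i, rfl⟩ := List.mem_ofFn.1 ha
    exact phi_notMem hn ℓ _ (e ▸ mem_toList.1 hb)
  obtain ⟨g, hg⟩ := exists_smul_list (nd x) (nd y) (by simp) (by simpa using ht.le)
  rw [List.map_append] at hg
  obtain ⟨g1, g2⟩ := List.append_inj hg (by simp)
  have g3 : g • XX n = XX n := by
    ext p
    conv_rhs => rw [← mem_toList, ← g2]
    simp [mem_smul_finset]
  obtain ⟨σ, hσ⟩ := exists_ind_XX (hn := hn) (ℓ := ℓ) g3
  refine ⟨⟨σ, mem_aut hB ht htk (phi_notMem hn ℓ) (hO_ext h) g3 hσ⟩, Function.Embedding.ext fun i => ?_⟩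
  rw [List.map_ofFn, List.ofFn_inj] at g1
  exact (phi hn ℓ).injective ((hσ (x i)).symm.trans (congrFun g1 i))

include h in
theorem aut_ext {t k : ℕ} (hB : IsSteinerSystem t k B) (ht : t + (XX n).card = 5) (htk : t ≤ k) (h8 : 21 ≤ n)
    (h2 : ∀ σ ∈ setSystemAut B, ∃ g : MM, Ind (phi hn ℓ) g σ) :
    ∃ e : stabilizer MM (XX n) ≃* setSystemAut B, ∀ g : stabilizer MM (XX n), Ind (phi hn ℓ) g (e g) := by
  refine aut_equiv _ _ _ (fun g hg => ?_) (fun σ hσ => ?_) fun g _ => ind_one h8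
  · obtain ⟨σ, hσ⟩ := exists_ind_XX (hn := hn) (ℓ := ℓ) hg
    exact ⟨σ, mem_aut hB ht htk (phi_notMem hn ℓ) (hO_ext h) hg hσ, hσ⟩
  · obtain ⟨g, hg⟩ := h2 σ hσ
    refine ⟨g, eq_of_subset_of_card_le (fun p hp => ?_) (by rw [card_smul_finset]), hg⟩
    by_contra hp'
    obtain ⟨a, rfl⟩ := exists_phi hn ℓ hp'
    rw [← inv_smul_mem_iff, hg.inv] at hp
    exact phi_notMem hn ℓ _ hp

include h in
theorem surj_small {K : List ℕ} (hK : perpChk n K = true) (h1 : (XX n).card ≤ 1) :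
    ∀ σ ∈ setSystemAut B, ∃ g : MM, Ind (phi hn ℓ) g σ := by
  intro σ hσ
  refine ⟨⟨σ.viaEmbedding (phi hn ℓ), mem_M24_iff.2 fun u hu => ?_⟩, fun a => Perm.viaEmbedding_apply _ _ _⟩
  rcases via_perp h hK hσ hu with a | ⟨v, hv, h2, -⟩
  · exact a
  · have := card_le_card hv; omega
end

theorem XX22 : XX 22 = {GE.e 22, GE.e 23} := by decide +kernel

theorem surj22 {hn : 22 ≤ 24} {ℓ : α ≃ Fin 22} {B : Set (Finset α)} (h : ∀ c, c ∈ B ↔ ext hn ℓ c ∈ octads) :
    ∀ σ ∈ setSystemAut B, ∃ g : MM, Ind (phi hn ℓ) g σ := by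
  intro σ hσ
  set π := σ.viaEmbedding (phi hn ℓ) with hπ
  have hne : GE.e 22 ≠ GE.e 23 := by decide +kernel
  have XX22 := XX22
  generalize GE.e 22 = P at hne XX22
  generalize GE.e 23 = Q at hne XX22
  have hX2 : (XX 22).card = 2 := by rw [XX22, card_pair hne]
  have key : ∀ u ∈ GC, π • u ∈ GC ∨ (π • u) ∆ XX 22 ∈ GC := by
    intro u hu
    rcases via_perp h perp22 hσ hu with a | ⟨v, hv, h2, a⟩
    · exact Or.inl a
    · exact Or.inr (eq_of_subset_of_card_le hv (by omega) ▸ a)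
  have ev : ∀ u ∈ GC, (P ∈ π • u ↔ Q ∈ π • u) → π • u ∈ GC := by
    intro u hu e
    refine (key u hu).resolve_right fun a => ?_
    have h1 := card_of_mem_GC a
    have h2 := card_of_mem_GC hu
    have h3 := card_sd (π • u) (XX 22)
    rw [card_smul_finset, hX2] at h3
    by_cases h4 : P ∈ π • u
    · rw [inter_eq_right.2 (by rw [XX22]; exact insert_subset h4 (singleton_subset_iff.2 (e.1 h4))), hX2] at h3
      omega
    · rw [disjoint_iff_inter_eq_empty.1 (by
        rw [XX22, disjoint_insert_right, disjoint_singleton_right]; exact ⟨h4, fun a => h4 (e.2 a)⟩),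
        card_empty] at h3
      omega
  by_cases hall : ∀ u ∈ GC, π • u ∈ GC
  · exact ⟨⟨π, mem_M24_iff.2 hall⟩, fun a => Perm.viaEmbedding_apply _ _ _⟩
  push Not at hall
  obtain ⟨u0, hu0, hn0⟩ := hall
  refine ⟨⟨swap P Q * π, mem_M24_iff.2 fun u hu => ?_⟩, fun a => ?_⟩
  · have sw : ∀ w : Finset GolayPt, ∀ p, p ∈ swap P Q • w ↔ swap P Q p ∈ w := by
      intro w p; rw [← inv_smul_mem_iff, swap_inv]; rfl
    rw [mul_smul]
    by_cases e : P ∈ π • u ↔ Q ∈ π • u
    · convert ev u hu e using 1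
      ext p
      rw [sw, swap_apply_def]
      split_ifs with h1 h2
      · rw [h1, e]
      · rw [h2, e]
      · rfl
    · have h1 : π • u ∉ GC := by
        intro a
        have h2 := ev _ (symmDiff_mem_GC hu hu0) (by
          have := mt (ev u0 hu0) hn0
          rw [smul_finset_symmDiff, mem_symmDiff, mem_symmDiff]; tauto)
        rw [smul_finset_symmDiff] at h2
        exact hn0 (by simpa using symmDiff_mem_GC a h2)
      convert (key u hu).resolve_left h1 using 1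
      ext p
      rw [sw, swap_apply_def, mem_symmDiff, XX22, mem_insert, mem_singleton]
      split_ifs with h1 h2
      · subst h1; tauto
      · subst h2; tauto
      · tauto
  · have h1 := phi_notMem hn ℓ (σ a)
    rw [XX22, mem_insert, mem_singleton, not_or] at h1
    show swap P Q (π (phi hn ℓ a)) = _
    rw [hπ, Perm.viaEmbedding_apply, swap_apply_of_ne_of_ne h1.1 h1.2]

end Lead.St
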