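import Cfsg.Agent.Lead.St6
import Cfsg.Agent.Lead.St12
import Cfsg.Agent.Lead.St11
import Cfsg.Agent.S0384
/-! Automorphism groups of the small Witt designs. -/
set_option autoImplicit false
namespace Lead.St
open Finset Cfsg H27 MulAction Equiv
open scoped symmDiff Pointwise
variable {α : Type*} [Fintype α] [DecidableEq α] {n : ℕ}

def badP (n : ℕ) (K : List ℕ) (cur : List ℕ) : Bool :=
  K.any fun b => decide (b < 2 ^ cur.length) &&
    !(K.any fun c => (List.range n).all fun x => !b.testBit x || c.testBit (cur.getD x 0))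

def rigChk (n : ℕ) (K : List ℕ) : ℕ → List ℕ → Bool
  | 0, cur => cur == List.range n
  | m + 1, cur => (List.range n).all fun y =>
      cur.contains y || badP n K (cur ++ [y]) || rigChk n K m (cur ++ [y])

theorem rig_sound {K : List ℕ} {f : ℕ → ℕ} (h1 : ∀ x < n, f x < n) (h2 : ∀ x < n, ∀ y < n, f x = f y → x = y)
    (h3 : ∀ b ∈ K, ∃ c ∈ K, ∀ x < n, b.testBit x = true → c.testBit (f x) = true) :
    ∀ m k, k + m = n → rigChk n K m ((List.range k).map f) = true → (List.range n).map f = List.range n := by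
  intro m
  induction m with
  | zero => intro k hk h; subst hk; simpa [rigChk] using h
  | succ m ih =>
    intro k hk h
    simp only [rigChk, List.all_eq_true, List.mem_range, Bool.or_eq_true] at h
    have e : (List.range k).map f ++ [f k] = (List.range (k + 1)).map f := by simp [List.range_succ]
    rcases h (f k) (h1 k (by omega)) with (h | h) | h
    · simp only [List.contains_iff_mem, List.mem_map, List.mem_range] at h
      obtain ⟨x, hx, e⟩ := h
      have := h2 x (by omega) k (by omega) e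
      omega
    · exfalso
      rw [e] at h
      simp only [badP, List.any_eq_true, Bool.and_eq_true, decide_eq_true_eq, Bool.not_eq_true',
        List.length_map, List.length_range] at h
      obtain ⟨b, hb, hlt, hn⟩ := h
      obtain ⟨c, hc, hbc⟩ := h3 b hb
      rw [← Bool.not_eq_true, List.any_eq_true] at hn
      refine hn ⟨c, hc, ?_⟩
      simp only [List.all_eq_true, List.mem_range, Bool.or_eq_true, Bool.not_eq_true']
      intro x hx
      by_cases hbx : b.testBit x = true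
      · right
        have hxk : x < k + 1 := by
          by_contra hge
          rw [Nat.testBit_lt_two_pow (lt_of_lt_of_le hlt (Nat.pow_le_pow_right (by norm_num) (by omega)))] at hbx
          cases hbx
        rw [List.getD_eq_getElem _ _ (by simpa using hxk)]
        simpa using hbc x hx hbx
      · left; simpa using hbx
    · rw [e] at h
      exact ih (k + 1) (by omega) h

theorem rigid {K : List ℕ} {B : Set (Finset α)} {ℓ : α ≃ Fin n} (h : ∀ c, c ∈ B ↔ ∃ b ∈ K, F ℓ b = c)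
    {k m : ℕ} (hk : k + m = n) (hr : rigChk n K m (List.range k) = true) {σ : Perm α} (hσ : σ ∈ setSystemAut B)
    (hfix : ∀ a, (ℓ a : ℕ) < k → σ a = a) : σ = 1 := by
  let f : ℕ → ℕ := fun x => if h : x < n then ℓ (σ (ℓ.symm ⟨x, h⟩)) else 0
  have e0 : (List.range k).map f = List.range k := by
    conv_rhs => rw [← List.map_id (List.range k)]
    refine List.map_congr_left fun x hx => ?_
    rw [List.mem_range] at hx
    have hx' : x < n := by omega
    simp only [f, hx', dif_pos, id]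
    rw [hfix _ (by simpa using hx)]; simp
  have := rig_sound (n := n) (K := K) (f := f) (fun x hx => by simp [f, hx]) (fun x hx y hy e => by
    simp only [f, hx, hy, dif_pos] at e
    simpa using Fin.ext e) (fun b hb => by
      obtain ⟨c, hc, e⟩ := (h _).1 (smul_mem_of_aut hσ ((h _).2 ⟨b, hb, rfl⟩))
      refine ⟨c, hc, fun x hx hbx => ?_⟩
      simp only [f, hx, dif_pos]
      rw [← mem_F, e]
      exact smul_mem_smul_finset (a := σ) (mem_F.2 (by simpa using hbx))) m k hk (by rwa [e0])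
  ext a
  have h2 := List.map_inj_left.1 (this.trans (List.map_id _).symm) (ℓ a) (by simp)
  simp only [f, (ℓ a).2, dif_pos, id] at h2
  simpa using Fin.ext h2

def P12 : List ℕ := [0, 2, 3, 4, 6, 7, 8, 9, 10, 11, 13, 14]
def D12 : Finset GolayPt := GE.fs 0x6fdd
theorem D12_mem : D12 ∈ dodecads := fs_mem_dodecads_of (by decide +kernel)
def pp (i : Fin 12) : GolayPt := GE.e (P12.getD i 0)
theorem pp_inj : Function.Injective pp := by decide +kernel
theorem mem_D12 : ∀ p, p ∈ D12 ↔ ∃ i, pp i = p := by decide +kernel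

def psi (hn : n ≤ 12) (ℓ : α ≃ Fin n) : α ↪ GolayPt :=
  ⟨fun a => pp ((ℓ a).castLE hn), pp_inj.comp ((Fin.castLE_injective hn).comp ℓ.injective)⟩

def octChk (n X : ℕ) (K O : List ℕ) : Bool :=
  K.all fun b => O.any fun o => (allF 12 fun x => !decide ((x : ℕ) < n) || o.testBit (P12.getD x 0) == b.testBit x) &&
    (o &&& X == X) && isOct o

omit [DecidableEq α] in
theorem hO_psi {hn : n ≤ 12} {ℓ : α ≃ Fin n} {X : ℕ} (hX : X < 2 ^ 24) {K O : List ℕ} (hK : octChk n X K O = true)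
    {B : Set (Finset α)} (h : ∀ c, c ∈ B ↔ ∃ b ∈ K, F ℓ b = c) :
    ∀ c ∈ B, ∃ o ∈ octads, GE.fs X ⊆ o ∧ ∀ a, psi hn ℓ a ∈ o ↔ a ∈ c := by
  intro c hc
  obtain ⟨b, hb, rfl⟩ := (h c).1 hc
  simp only [octChk, List.all_eq_true, List.any_eq_true, Bool.and_eq_true, allF_iff, Bool.or_eq_true,
    Bool.not_eq_true', decide_eq_false_iff_not, beq_iff_eq] at hK
  obtain ⟨o, -, ⟨h1, h2⟩, h3⟩ := hK b hb
  refine ⟨_, fs_mem_octads_of h3, (GE.fs_subset_iff hX).2 (by rwa [Nat.and_comm]), fun a => ?_⟩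
  have h4 := (h1 ((ℓ a).castLE hn)).resolve_left (by simp)
  have h5 : ∀ i : Fin 12, P12.getD i 0 < 24 := by decide
  rw [mem_F]
  exact (GE.e_mem_fs (h5 _)).trans (by rw [h4]; rfl)

def O12 : List ℕ := [63108, 1337732, 1134148, 157028, 535268, 36294, 6308804, 2120980, 615188, 208020, 8407702, 1050548, 4253780, 2106966, 396116, 8401364, 2255372, 280334, 4213932, 2631052, 72588, 277580, 8931660, 1090380, 90318, 8521420, 9462812, 560668, 10558, 4465308, 180636, 21116, 4261212, 3172097, 4287105, 15777, 175681, 4476225, 18147, 582081, 9440193, 8546577, 69395, 1100945, 283537, 95313, 2640465, 4203377, 272595, 2229713, 8412681, 418953, 2115979, 4229001, 1075305, 8398155, 213833, 593097, 2110153, 57883, 542009, 133817, 1122713, 39257, 1312345, 12599513, 6302745, 12594948, 8922769, 804052, 797449, 3147996, 1584464, 1204944, 4202192, 84464, 126216, 1060490, 8414120, 4744776, 2101096, 555160, 2180760, 8654232, 150618, 8464984, 2363013, 8471941, 530245, 2121909,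 4721045, 8391797, 1065303, 75309, 4223245, 1182989, 2147405, 4196943, 2384216, 2141072, 153797, 4343317, 8431757, 1589901, 2173253, 525274, 551943, 140167, 8675909, 4220306, 99029, 145176, 8439632, 314056, 1063445, 304405, 4336072, 1070536, 290352, 262637, 5262104, 42232, 52005, 5252293, 10513600, 337856, 346141, 10486557, 31554, 5279, 675712, 663645]

theorem oct12 : octChk 12 0 K12 O12 = true := by decide +kernel
theorem oct11 : octChk 11 (2 ^ 14) K11 O12 = true := by decide +kernel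
theorem rig12 : rigChk 12 K12 7 (List.range 5) = true := by decide +kernel
theorem rig11 : rigChk 11 K11 7 (List.range 4) = true := by decide +kernel

theorem aut12 (hα : Fintype.card α = 12) {B : Set (Finset α)} (hB : IsSteinerSystem 5 6 B) :
    Nonempty (stabilizer MM D12 ≃* setSystemAut B) ∧ IsMultiplyPretransitive (setSystemAut B) α 5 ∧
      ∀ x : Fin 5 ↪ α, stabilizer (setSystemAut B) x = ⊥ := by
  obtain ⟨ℓ, h⟩ := full12 hα hB
  have hO := hO_psi (hn := le_rfl) (by norm_num) oct12 h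
  have hD : ∀ a, psi le_rfl ℓ a ∈ D12 := fun a => (mem_D12 _).2 ⟨_, rfl⟩
  have h1 : ∀ g ∈ stabilizer MM D12, ∃ σ ∈ setSystemAut B, Ind (psi le_rfl ℓ) g σ := by
    intro g hg
    obtain ⟨σ, hσ⟩ := exists_ind (psi le_rfl ℓ) g fun a => by
      obtain ⟨i, hi⟩ := (mem_D12 (g • psi le_rfl ℓ a)).1 (by
        rw [← mem_stabilizer_iff.1 hg]; exact smul_mem_smul_finset (hD a))
      exact ⟨ℓ.symm i, by rw [← hi]; simp [psi]⟩
    exact ⟨σ, mem_aut hB (by simp) (by norm_num) (by simp) hO (by simp) hσ, hσ⟩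
  have ex := fun x y : Fin 5 ↪ α => Cfsg.Agent.S0384.result D12 D12_mem (x.trans (psi le_rfl ℓ))
    (y.trans (psi le_rfl ℓ)) (fun _ => hD _) (fun _ => hD _)
  have un : ∀ (x : Fin 5 ↪ α), ∀ g ∈ stabilizer MM D12, (∀ i, g • psi le_rfl ℓ (x i) = psi le_rfl ℓ (x i)) → g = 1 :=
    fun x g hg a => congrArg Subtype.val ((ex x x).unique (y₁ := ⟨g, hg⟩) (y₂ := 1) a fun _ => rfl)
  let x0 : Fin 5 ↪ α := (Fin.castLEEmb (by norm_num)).trans ℓ.symm.toEmbedding
  obtain ⟨e, he⟩ := aut_equiv (psi le_rfl ℓ) (stabilizer MM D12) (setSystemAut B) h1 (fun σ hσ => by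
    obtain ⟨g, hg, -⟩ := ex x0 (x0.trans σ.toEmbedding)
    obtain ⟨τ, hτ, a⟩ := h1 g g.2
    have : τ⁻¹ * σ = 1 := rigid h (k := 5) (m := 7) rfl rig12
      ((setSystemAut B).mul_mem ((setSystemAut B).inv_mem hτ) hσ) fun b hb => by
        have e1 : x0 ⟨_, hb⟩ = b := by simp [x0]
        have e2 := (a (x0 ⟨_, hb⟩)).symm.trans (hg ⟨_, hb⟩)
        rw [Perm.mul_apply, Perm.inv_eq_iff_eq, ← e1]
        exact ((psi le_rfl ℓ).injective e2).symm
    exact ⟨g, g.2, by rwa [← inv_mul_eq_one.1 this]⟩) fun g hg a => un x0 g hg fun i => a _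
  refine ⟨⟨e⟩, ⟨fun x y => ?_⟩, fun x => eq_bot_iff.2 fun σ hσ => ?_⟩
  · obtain ⟨g, hg, -⟩ := ex x y
    exact ⟨e g, Function.Embedding.ext fun i => (psi le_rfl ℓ).injective ((he g (x i)).symm.trans (hg i))⟩
  · obtain ⟨g, rfl⟩ := e.surjective σ
    have : g = 1 := Subtype.ext (un x g g.2 fun i =>
      (he g (x i)).trans (congrArg _ (DFunLike.congr_fun (mem_stabilizer_iff.1 hσ) i)))
    simp [this]

theorem aut11 (hα : Fintype.card α = 11) {B : Set (Finset α)} (hB : IsSteinerSystem 4 5 B) :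
    Nonempty (↥(stabilizer MM D12 ⊓ stabilizer MM (pp 11)) ≃* setSystemAut B) ∧
      IsMultiplyPretransitive (setSystemAut B) α 4 ∧ ∀ x : Fin 4 ↪ α, stabilizer (setSystemAut B) x = ⊥ := by
  obtain ⟨ℓ, h⟩ := full11 hα hB
  have hn : 11 ≤ 12 := by norm_num
  have hO := hO_psi (hn := hn) (by norm_num) oct11 h
  rw [GE.fs_two_pow (by norm_num), show GE.e 14 = pp 11 from rfl] at hO
  have hD : ∀ a, psi hn ℓ a ∈ D12 := fun a => (mem_D12 _).2 ⟨_, rfl⟩
  have hne : ∀ a, psi hn ℓ a ≠ pp 11 := fun a e => by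
    have := congrArg Fin.val (pp_inj e)
    have := (ℓ a).2
    simp only [Fin.val_castLE] at *
    omega
  have h1 : ∀ g ∈ stabilizer MM D12 ⊓ stabilizer MM (pp 11), ∃ σ ∈ setSystemAut B, Ind (psi hn ℓ) g σ := by
    intro g hg
    obtain ⟨σ, hσ⟩ := exists_ind (psi hn ℓ) g fun a => by
      obtain ⟨i, hi⟩ := (mem_D12 (g • psi hn ℓ a)).1 (by
        rw [← mem_stabilizer_iff.1 hg.1]; exact smul_mem_smul_finset (hD a))
      have h11 : i ≠ 11 := by
        rintro rfl
        rw [← mem_stabilizer_iff.1 hg.2] at hi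
        exact hne a (smul_left_cancel g hi).symm
      exact ⟨ℓ.symm ⟨i, by omega⟩, by rw [← hi]; simp [psi]⟩
    exact ⟨σ, mem_aut hB (by simp) (by norm_num) (by simpa using hne) hO
      (by rw [smul_finset_singleton, mem_stabilizer_iff.1 hg.2]) hσ, hσ⟩
  let em : (Fin 4 ↪ α) → (Fin 5 ↪ GolayPt) := fun x =>
    ⟨Fin.cons (pp 11) fun i => psi hn ℓ (x i), Fin.cons_injective_iff.2
      ⟨by rintro ⟨i, e⟩; exact hne _ e, (psi hn ℓ).injective.comp x.injective⟩⟩
  have hem : ∀ x i, em x i ∈ D12 := fun x => Fin.cases ((mem_D12 _).2 ⟨11, rfl⟩) fun i => hD _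
  have ex0 := fun x y : Fin 4 ↪ α => Cfsg.Agent.S0384.result D12 D12_mem (em x) (em y) (hem x) (hem y)
  have ex : ∀ x y : Fin 4 ↪ α, ∃ g ∈ stabilizer MM D12 ⊓ stabilizer MM (pp 11),
      ∀ i, g • psi hn ℓ (x i) = psi hn ℓ (y i) := by
    intro x y
    obtain ⟨g, hg, -⟩ := ex0 x y
    exact ⟨g, ⟨g.2, hg 0⟩, fun i => hg i.succ⟩
  have un : ∀ (x : Fin 4 ↪ α), ∀ g ∈ stabilizer MM D12 ⊓ stabilizer MM (pp 11),
      (∀ i, g • psi hn ℓ (x i) = psi hn ℓ (x i)) → g = 1 :=
    fun x g hg a => congrArg Subtype.val ((ex0 x x).unique (y₁ := ⟨g, hg.1⟩) (y₂ := 1)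
      (Fin.cases hg.2 a) fun _ => rfl)
  let x0 : Fin 4 ↪ α := (Fin.castLEEmb (by norm_num)).trans ℓ.symm.toEmbedding
  obtain ⟨e, he⟩ := aut_equiv (psi hn ℓ) _ (setSystemAut B) h1 (fun σ hσ => by
    obtain ⟨g, hg1, hg⟩ := ex x0 (x0.trans σ.toEmbedding)
    obtain ⟨τ, hτ, a⟩ := h1 g hg1
    have : τ⁻¹ * σ = 1 := rigid h (k := 4) (m := 7) rfl rig11
      ((setSystemAut B).mul_mem ((setSystemAut B).inv_mem hτ) hσ) fun b hb => by
        have e1 : x0 ⟨_, hb⟩ = b := by simp [x0]
        have e2 := (a (x0 ⟨_, hb⟩)).symm.trans (hg ⟨_, hb⟩)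
        rw [Perm.mul_apply, Perm.inv_eq_iff_eq, ← e1]
        exact ((psi hn ℓ).injective e2).symm
    exact ⟨g, hg1, by rwa [← inv_mul_eq_one.1 this]⟩) fun g hg a => un x0 g hg fun i => a _
  refine ⟨⟨e⟩, ⟨fun x y => ?_⟩, fun x => eq_bot_iff.2 fun σ hσ => ?_⟩
  · obtain ⟨g, hg1, hg⟩ := ex x y
    exact ⟨e ⟨g, hg1⟩, Function.Embedding.ext fun i =>
      (psi hn ℓ).injective ((he ⟨g, hg1⟩ (x i)).symm.trans (hg i))⟩
  · obtain ⟨g, rfl⟩ := e.surjective σ
    have : g = 1 := Subtype.ext (un x g g.2 fun i =>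
      (he g (x i)).trans (congrArg _ (DFunLike.congr_fun (mem_stabilizer_iff.1 hσ) i)))
    simp [this]

end Lead.St
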