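import Cfsg.Agent.Lead.St7
import Cfsg.Agent.Lead.St21
import Cfsg.Agent.Base.EqSporA
import Mathlib.Combinatorics.SimpleGraph.StronglyRegular
/-! Explicit models of the Witt designs on 21 and 22 points and of their graphs. -/
set_option autoImplicit false
namespace Lead.St
open Finset Cfsg H27 MulAction Equiv
open scoped symmDiff Pointwise
variable {α : Type*} [Fintype α] [DecidableEq α] {n : ℕ}

def K22 : List ℕ := [1594, 4773, 12036, 16601, 21574, 41666, 55680, 58401, 67881, 73751, 78984, 102512, 115212, 134275, 137244, 143650, 150112, 164165, 197520, 267080, 278836, 288778, 297489, 329924, 361730, 402512, 426152, 479233, 525792, 538689, 541443, 559142, 565528, 609296, 680068, 693760, 720970, 787469, 790674, 860704, 1048974, 1053969, 1058992, 1084488, 1120770, 1139008, 1188361, 1228818, 1246244, 1310819, 1328768, 1355780, 1573460, 1593384, 1671297, 1968384, 2099538, 2105452, 2126352, 2131092, 2134027, 2164289, 2179234, 2245896, 2336768, 2366496, 2367873, 2490886, 2624136, 2691332, 2752561, 2932800, 3164165, 3179296, 3281088, 3473432, 3679234]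
def PK22 : ℕ := 0x382402d40063210c0c20c8304805b30102a0031a4441280a8898081a421819070823a800891422140a28419060900b821252072108081b200952782401980816140a18025452c0114468050018d304244b00492220945850111a02423121028b04054450018e348880c1092301034b004a2a5800a60842530408a1182220988430320e104805e01d4004680a81891405850214231048a1111a02844134104d20303900a051424a6008c4882181c08320c1c20c0641c01348804805c109290390840d980028b080544601036402f04004a940063a
def T100 : ℕ := 0x3fffff000000000000337d652b82402000000000033c00e83db5001800000000028f05c04e17210c00000000001d8aa819863083200000000003645c32308704805000000055c0000139c1ecc04000000030e40006a051d2a00310000001b3000198482a6911040000002e88002c4a2a4280a8800000180b80cc000372260206000000c6606a0005604642181000001438455001848a241c20000000d80d814060006e3a8000000016853028300288a245080000026128a489290012140a2000002a2151610c30102106410000025492184a5400120900b00000289c241a0a60402084940000030c24c25608840207210000003124929251081020206c000001b502b03000520a009520001f800000000007aede0900002a1c00000008e70055980810034a40000000f18889185028001f4000000034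82970180254014384000049401484254b00401844c000046800b2c014468000c63000003c001151114006302505400010581a001a13042400d888000280c22014192c01202892400010a46402141222090168600001a21101800d161400312280000945848022111a0201b1100003112052080908c4802a2c00000e124284041028b00265080002521284408101511030c90000228a90422010018e140264022c0000098160d22200c068805a000000c4610c109218051402d00000162180c040d0c183030180001400318b004a24110c08940002c00c20a96002808c408680005202404a6084183048290400102a008894c101429801c4000220480488a1183012901188002830102088826300c282430001a01300084303282320160400145040048384124245023400021814800805e048402c403406400000947500144809440c80980000850680a80cc1418044030000450862450154018c11010800500285850249025083082500020204508c45083088484504002104048a111980a1440820401820084680a5044c1016060800090804413445052106101a00008a0041348460848a8208280800240303906049109053080080100428145609061200d840400180024a602640a150208803004020231224a1181188201440002802181c2a8018e082040060600020c83511806081900c80280001c20c44720211049100808010190700f20064a0003014c0000134881a4a02902020502401001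2017522030720130080000c01092930e006404540023100000e4216120884d02c0080008040d980258a02840888204104000a2c2295403011204111004000544648ac0224422204020010040d93301418a01403000202002f0462060602a04c0c800000012a5169403208010a20801000063afffffc0000000000000000000fc0003fffc000000000000000c3c003c003ffc000000000000a238023803803fe0000000000912602070070381f800000000a0858104c24826107c00000008a0461222026150863800000086031092801920c4436000000c0141821921488821a9000000908850a04920a023314800000844c0600700a8385851000000c00aa01428a84c009254000008860905142210134409c00000889206008c05447a051000000905121101510521091a80000092008c48a040ca2c20e0000008909088c12025046260c00000a1003442190c0951282400000a042488124c410a154240000084a0286404920249485800000c021440a4543048288c4000008510c1090881a1088e2800000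
def T77 : ℕ := 0xcdf594a000000000067801d07b00000000028f05c04e14000000000ec5540cc30000000000d9170c8c210000000ab800002738380000030e40006a051d0000000d98000cc24152000000ba2000b128a9000000301701980006e4000000c6606a0005604400000a1c22a800c2450000003603605018001b000002d0a60506005110000026128a48929001000001510a8b086180800000095248612950004000005138483414c0800000030c24c2560884000000189249492884080000006d40ac0c0014820003f00000000000f5d802a1c00000008e7005401a52000000078c4448007d00000000d20a5c0028708000092802908481844c000046800b2c000631800001e0008a888094150000416068006801b110000501844028302892400010a464021400b4300000d10880c0060c48a0000251612008803622000062240a410102a2c00000e12428404013284000129094220400c32400008a2a4108802804c8045800001302c0c068805a000000c4610c028a016800000b10c03060c0c0600005000c648221811280005801842808c408680005202404c18241482000815004450a60071000088120126025202310005060204300c282430001a013001411900b02000a2820029091408d0000860520090805880680c8000012c4809440c80980000850660a0c0220180002284550063044042001400a9204a106104a0004040d0830884845040021040cc050a20410200c100541130405818200024208a0a420c20340001140460848a8208280800243024884829840040080382418480361010006004c8142a0411006008044a1181188201440002815400c70410200303001446018206403200a00088e40422092201010020f20064a0003014c0000d2501481010281200814880c1c804c0200003061c00c808a8004620006120884d02c0080008052c50142044410208200a5500c044810444010091580448844408040023301418a01403000202310303015026064000005a500c8200428820040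
def K21 : List ℕ := [2386, 8300, 29200, 33940, 36875, 67137, 82082, 148744, 239616, 269344, 270721, 393734, 526984, 594180, 655409, 835648, 1067013, 1082144, 1183936, 1376280, 1582082]
def kk (i : ℕ) : ℕ := ent 22 PK22 i
theorem K22_eq : K22 = (List.range 77).map kk := by decide +kernel

def extChk (n X : ℕ) (K : List ℕ) : Bool := K.all fun b => isOct (b ||| X) &&
    allF 24 fun x => (b ||| X).testBit x == (if (x : ℕ) < n then b.testBit x else true)

omit [DecidableEq α] in
theorem ext_oct {hn : n ≤ 24} {X : ℕ} {K : List ℕ} (h : extChk n X K = true) (ℓ : α ≃ Fin n) {b : ℕ} (hb : b ∈ K) :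
    ext hn ℓ (F ℓ b) ∈ octads := by
  simp only [extChk, Bool.and_eq_true, List.all_eq_true, allF_iff, beq_iff_eq] at h
  have : ext hn ℓ (F ℓ b) = GE.fs (b ||| X) := by
    refine ext_eq (fun p hp => ?_) fun a => ?_
    · rw [mem_XX] at hp
      have := (h b hb).2 ⟨_, GE.ix_lt p⟩
      rw [if_neg (by simpa using hp)] at this
      exact GE.mem_fs.2 this
    · have := (h b hb).2 ⟨_, GE.ix_lt (phi hn ℓ a)⟩
      simp only [ix_phi, (ℓ a).2, if_true] at this
      rw [GE.mem_fs, mem_F, ix_phi, this]
  rw [this]
  exact fs_mem_octads_of (h b hb).1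

theorem lab22 (hα : Fintype.card α = 22) {B : Set (Finset α)} (hB : IsSteinerSystem 3 6 B) :
    ∃ ℓ : α ≃ Fin 22, ∀ c, c ∈ B ↔ ∃ b ∈ K22, F ℓ b = c := by
  obtain ⟨ℓ, h⟩ := gol22 hα hB
  exact ⟨ℓ, full hB (by norm_num) (by decide +kernel) fun b hb =>
    (h _).2 (ext_oct (X := 0xc00000) (by decide +kernel) ℓ hb)⟩

theorem lab21 (hα : Fintype.card α = 21) {B : Set (Finset α)} (hB : IsSteinerSystem 2 5 B) :
    ∃ ℓ : α ≃ Fin 21, ∀ c, c ∈ B ↔ ∃ b ∈ K21, F ℓ b = c := by
  obtain ⟨ℓ, h⟩ := gol21 hα hB
  exact ⟨ℓ, full hB (by norm_num) (by decide +kernel) fun b hb =>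
    (h _).2 (ext_oct (X := 0xe00000) (by decide +kernel) ℓ hb)⟩

def srgChk (n d k l m T : ℕ) : Bool := allN n fun i => force (ent n T i) fun r =>
  and' (Nat.beq (pop d n r) k) (allN n fun j => or' (Nat.beq i j)
    (Nat.beq (pop d n (Nat.land r (ent n T j))) (ite' (H27.tb r j) l m)))

theorem card_bits {V : Type*} [Fintype V] (e : V ≃ Fin n) {d : ℕ} (hn : n ≤ 2 ^ d) (x : ℕ) (S : Set V) [Fintype S]
    (h : ∀ v, v ∈ S ↔ x.testBit (e v) = true) : Fintype.card S = pop d n x := by
  classical
  rw [pop_eq hn, ← Set.toFinset_card]
  refine card_bij (fun v _ => (e v : ℕ)) (fun v hv => ?_) (fun a _ b _ h => e.injective (Fin.ext h)) fun i hi => ?_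
  · simpa [← h] using hv
  · rw [mem_filter, mem_range] at hi
    exact ⟨e.symm ⟨i, hi.1⟩, by simpa [h] using hi.2, by simp⟩

theorem srg_of {V : Type*} [Fintype V] (G : SimpleGraph V) [DecidableRel G.Adj] (e : V ≃ Fin n) {d k l m T : ℕ}
    (h : ∀ a b, G.Adj a b ↔ (ent n T (e a)).testBit (e b) = true) (hn : n ≤ 2 ^ d)
    (hc : srgChk n d k l m T = true) : G.IsSRGWith n k l m := by
  simp only [srgChk, allN_iff, force_eq, and'_eq, or'_eq, Bool.and_eq_true, Bool.or_eq_true, beq_iff, ite'_eq,
    tb_eq] at hc
  have key : ∀ v w, v ≠ w → Fintype.card (G.commonNeighbors v w) = if G.Adj v w then l else m := by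
    intro v w hvw
    rw [card_bits e hn (Nat.land (ent n T (e v)) (ent n T (e w))) _ fun u => by
      simp [SimpleGraph.mem_commonNeighbors, h]]
    rw [((hc _ (e v).2).2 _ (e w).2).resolve_left fun a => hvw (e.injective (Fin.ext a))]
    simp only [h]
  refine ⟨by simpa using Fintype.card_congr e, fun v => ?_, fun v w a => by rw [key v w a.ne, if_pos a],
    fun v w hvw a => by rw [key v w hvw, if_neg a]⟩
  rw [← SimpleGraph.card_neighborSet_eq_degree, card_bits e hn (ent n T (e v)) _ fun u => by simp [h], (hc _ (e v).2).1]

omit [DecidableEq α] in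
theorem F_inj (ℓ : α ≃ Fin n) {a b : ℕ} (ha : a < 2 ^ n) (hb : b < 2 ^ n) (h : F ℓ a = F ℓ b) : a = b := by
  refine Nat.eq_of_testBit_eq fun i => ?_
  by_cases hi : i < n
  · have := congrArg (ℓ.symm ⟨i, hi⟩ ∈ ·) h
    simpa using this
  · rw [Nat.testBit_lt_two_pow (ha.trans_le (Nat.pow_le_pow_right (by norm_num) (by omega))),
      Nat.testBit_lt_two_pow (hb.trans_le (Nat.pow_le_pow_right (by norm_num) (by omega)))]

omit [DecidableEq α] in
theorem disj_F (ℓ : α ≃ Fin n) {a b : ℕ} (ha : a < 2 ^ n) : Disjoint (F ℓ a) (F ℓ b) ↔ a &&& b = 0 := by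
  classical
  rw [disjoint_left]
  constructor
  · intro h
    refine Nat.eq_of_testBit_eq fun i => ?_
    by_cases hi : i < n
    · have := @h (ℓ.symm ⟨i, hi⟩)
      simpa using this
    · simp [Nat.testBit_lt_two_pow (ha.trans_le (Nat.pow_le_pow_right (by norm_num) (not_lt.1 hi)))]
  · intro h x h1 h2
    have := congrArg (·.testBit (ℓ x)) h
    simp only [mem_F] at h1 h2
    simp [h1, h2] at this

theorem kk_lt (i : ℕ) : kk i < 2 ^ 22 := ent_lt _ _ _
theorem kk_inj : ∀ i < 77, ∀ j < 77, kk i = kk j → i = j := by
  have : allN 77 (fun i => allN 77 fun j => or' (Nat.beq i j) (!Nat.beq (kk i) (kk j))) = true := by decide +kernel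
  simp only [allN_iff, or'_eq, Bool.or_eq_true, beq_iff, Bool.not_eq_true'] at this
  intro i hi j hj e
  refine (this i hi j hj).resolve_right ?_
  rw [e, Bool.not_eq_false, beq_iff]

omit [DecidableEq α] in
/-- numbering of the blocks -/
theorem exists_beta {B : Set (Finset α)} {ℓ : α ≃ Fin 22} (h : ∀ c, c ∈ B ↔ ∃ b ∈ K22, F ℓ b = c) :
    ∃ β : B ≃ Fin 77, ∀ b : B, (b : Finset α) = F ℓ (kk (β b)) := by
  let f : Fin 77 → B := fun i => ⟨F ℓ (kk i), (h _).2 ⟨_, by rw [K22_eq]; exact List.mem_map_of_mem (by simp), rfl⟩⟩
  have hf : Function.Bijective f := ⟨fun i j e => Fin.ext (kk_inj _ i.2 _ j.2 (F_inj ℓ (kk_lt _) (kk_lt _)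
    (congrArg Subtype.val e))), fun b => by
      obtain ⟨x, hx, e⟩ := (h _).1 b.2
      rw [K22_eq, List.mem_map] at hx
      obtain ⟨i, hi, rfl⟩ := hx
      exact ⟨⟨i, by simpa using hi⟩, Subtype.ext e⟩⟩
  exact ⟨(Equiv.ofBijective f hf).symm, fun b => by
    conv_lhs => rw [← (Equiv.ofBijective f hf).apply_symm_apply b]
    rfl⟩

theorem T77_spec : ∀ i < 77, ∀ j < 77, (ent 77 T77 i).testBit j = true ↔ i ≠ j ∧ kk i &&& kk j = 0 := by
  have : allN 77 (fun i => allN 77 fun j => H27.tb (ent 77 T77 i) j ==
    (!Nat.beq i j && Nat.beq (kk i &&& kk j) 0)) = true := by decide +kernel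
  simp only [allN_iff, beq_iff_eq, tb_eq] at this
  intro i hi j hj
  rw [this i hi j hj]
  simp [beq_iff, ← Bool.not_eq_true]

def relH (i j : ℕ) : Bool := if i = 99 then decide (j < 22) else if j = 99 then decide (i < 22) else
  if i < 22 then decide (22 ≤ j) && (kk (j - 22)).testBit i else
  if j < 22 then (kk (i - 22)).testBit j else decide (i ≠ j) && decide (kk (i - 22) &&& kk (j - 22) = 0)
theorem T100_spec : ∀ i < 100, ∀ j < 100, (ent 100 T100 i).testBit j = relH i j := by
  have : allN 100 (fun i => allN 100 fun j => H27.tb (ent 100 T100 i) j == relH i j) = true := by decide +kernel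
  simpa only [allN_iff, beq_iff_eq, tb_eq] using this

theorem srg77 : srgChk 77 7 16 0 4 T77 = true := by decide +kernel
theorem srg100 : srgChk 100 7 22 0 6 T100 = true := by decide +kernel

/-- the model of the Higman–Sims graph -/
def HG : SimpleGraph (Fin 100) where
  Adj i j := (ent 100 T100 i).testBit j = true
  symm := ⟨fun i j h => by
    have : allN 100 (fun i => allN 100 fun j => H27.tb (ent 100 T100 i) j == H27.tb (ent 100 T100 j) i) = true := by
      decide +kernel
    simp only [allN_iff, beq_iff_eq, tb_eq] at this
    rwa [← this _ i.2 _ j.2]⟩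
  loopless := ⟨fun i h => by
    have : allN 100 (fun i => !H27.tb (ent 100 T100 i) i) = true := by decide +kernel
    simp only [allN_iff, tb_eq, Bool.not_eq_true'] at this
    rw [this _ i.2] at h; cases h⟩

omit [DecidableEq α] in
theorem iso_HG (hα : Fintype.card α = 22) {B : Set (Finset α)} (hB : IsSteinerSystem 3 6 B) :
    ∃ e : pointBlockGraph B ≃g HG, e none = 99 := by
  classical
  obtain ⟨ℓ, h⟩ := lab22 hα hB
  obtain ⟨β, hβ⟩ := exists_beta h
  let e : Option (α ⊕ B) ≃ Fin 100 :=
    (Equiv.optionCongr ((ℓ.sumCongr β).trans finSumFinEquiv)).trans finSuccEquivLast.symm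
  have e0 : e none = 99 := by simp [e]
  have e1 : ∀ a, (e (some (.inl a)) : ℕ) = ℓ a := fun a => by simp [e]; rfl
  have e2 : ∀ b, (e (some (.inr b)) : ℕ) = 22 + β b := fun b => by simp [e]; rfl
  refine ⟨⟨e, fun {x y} => ?_⟩, e0⟩
  change (ent 100 T100 (e x)).testBit (e y) = true ↔ _
  rw [T100_spec _ (e x).2 _ (e y).2]
  rcases x with _ | a | b <;> rcases y with _ | a' | b' <;>
    simp only [e0, e1, e2, pointBlockGraph, SimpleGraph.fromRel_adj, pointBlockRel, relH]
  · simp
  · simp
  · simp
  · have := (ℓ a).2
    simp [show (ℓ a : ℕ) ≠ 99 by omega]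
  · have := (ℓ a).2
    have := (ℓ a').2
    simp [show (ℓ a : ℕ) ≠ 99 by omega, show (ℓ a' : ℕ) ≠ 99 by omega]
  · have := (ℓ a).2
    have := (β b').2
    simp [show (ℓ a : ℕ) ≠ 99 by omega, show 22 + (β b' : ℕ) ≠ 99 by omega, hβ b']
  · have := (β b).2
    simp [show 22 + (β b : ℕ) ≠ 99 by omega]
  · have := (ℓ a').2
    have := (β b).2
    simp [show (ℓ a' : ℕ) ≠ 99 by omega, show 22 + (β b : ℕ) ≠ 99 by omega, hβ b]
  · have := (β b).2
    have := (β b').2
    rw [disjoint_comm (a := (b' : Finset α)), hβ b, hβ b', disj_F ℓ (kk_lt _)]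
    simp [show 22 + (β b : ℕ) ≠ 99 by omega, show 22 + (β b' : ℕ) ≠ 99 by omega, Fin.val_inj]

theorem srg_iso {V : Type*} [Fintype V] {G : SimpleGraph V} [DecidableRel G.Adj] (e : G ≃g HG) :
    G.IsSRGWith 100 22 0 6 :=
  srg_of G e.toEquiv (fun _ _ => e.map_rel_iff.symm) (by norm_num) srg100

end Lead.St
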