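import Cfsg.Agent.Lead.Tw4
import Cfsg.Agent.Lead.Qs4
import Cfsg.Agent.H13.Md2
import Cfsg.Agent.H9.Inv4
import Cfsg.Agent.H1.Fin4
import Cfsg.Agent.H20.Nt4
import Cfsg.Agent.H15.Cu
import Cfsg.Agent.H25.H11

set_option autoImplicit false
set_option maxRecDepth 100000
set_option linter.style.longLine false
open Cfsg Cfsg.Spor H7.J4 H29 H29.J4m H29.U Subgroup

universe u

namespace LeadUq

variable {G : Type u} [Group G] [Finite G]

theorem o3 {M : Model G} {x y e : G} (f : Fr M x y e) : orderOf (wr.g [x, y, y⁻¹, e]) = 3 := by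
  have h3 : wr.g [x, y, y⁻¹, e] ^ 3 = 1 := f.s.eq f.h (.p wr 3) (.v 9) (by decide +kernel)
  have r0 : M.R (wr.c kmul kone L4) (wr.g [x, y, y⁻¹, e]) := f.s.lit f.h wr (Nat.beq_refl _)
  have h1 : wr.g [x, y, y⁻¹, e] ≠ 1 := M.ne_of r0 M.R_one (by rw [f.s.2.1, f.s.2.2]; decide +kernel)
  haveI : Fact (Nat.Prime 3) := ⟨Nat.prime_three⟩
  exact orderOf_eq_prime h3 h1

theorem fromA [IsSimpleGroup G] {M : Model G} {x y e t : G}
    (h12 : ∀ {M : Model G} {x y e t : G}, Fr M x y e → Tt x y e t → Gd M x y e t → (y * ((y * x * (y⁻¹) * x * y * x * (y⁻¹) * x)⁻¹ * t * (y * x * (y⁻¹) * x * y * x * (y⁻¹) * x))) ^ 3 = 1 → (y * ((y * x) ^ 4 * y⁻¹ * x)⁻¹ * t * ((y * x) ^ 4 * y⁻¹ * x)) ^ 3 ∈ zpowers e → (((y * x * y * x * y * x * y) ^ 3) * t * ((((x * y) ^ 3) * y * ((x * y) ^ 6) * y)⁻¹ * t * (((x * y) ^ 3) * y * ((x * y) ^ 6) * y))) ^ 2 = 1)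
    (f : Fr M x y e) (ht : Tt x y e t) (h : Ac M t cg cA) : Nonempty (G ≃* J4) := by
  have g := H15.Cu.cu f ht h
  have q := LeadQs.qs f
  have h11 := H25.H11.h11 f q g
  have he := H25.He4.he f q g
  have ti : t⁻¹ = t := inv_eq_of_mul_eq_one_right g.t2
  have key : ∀ w : G, t * w = w * t → t⁻¹ * w⁻¹ * t * w = 1 := fun w hw => by
    rw [mul_assoc, mul_assoc, hw]; group
  have wa' : wa.g [x, y, y⁻¹, e] = y * x * y * ((x * (y⁻¹)) ^ 2) * ((x * y) ^ 3) := by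
    simp only [wa, Ex.g, List.getD_cons_zero, List.getD_cons_succ, pow_succ, pow_zero, one_mul, mul_assoc]
  exact H1.Fin4.fin f H9.Inv4.inv (by rw [pow_two, g.t2]) (key _ (wa' ▸ g.ta)) (key _ g.tx) h11 (h12 f ht g h11 he) he

/-- uniqueness of groups of Janko-four type, given the two remaining pieces -/
theorem uniq' [IsSimpleGroup G]
    (al : ∀ {M : Model G} {x y e t : G}, Fr M x y e → Qs M e → Tt x y e t → Ac M t cg cg ∨ Ac M t cg cA ∨ Ac M t cg cB)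
    (h12 : ∀ {M : Model G} {x y e t : G}, Fr M x y e → Tt x y e t → Gd M x y e t → (y * ((y * x * (y⁻¹) * x * y * x * (y⁻¹) * x)⁻¹ * t * (y * x * (y⁻¹) * x * y * x * (y⁻¹) * x))) ^ 3 = 1 → (y * ((y * x) ^ 4 * y⁻¹ * x)⁻¹ * t * ((y * x) ^ 4 * y⁻¹ * x)) ^ 3 ∈ zpowers e → (((y * x * y * x * y * x * y) ^ 3) * t * ((((x * y) ^ 3) * y * ((x * y) ^ 6) * y)⁻¹ * t * (((x * y) ^ 3) * y * ((x * y) ^ 6) * y))) ^ 2 = 1)
    (hG : ¬ IsMulCommutative G) (hJ : IsOfJankoFourType G) : Nonempty (G ≃* J4) := by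
  obtain ⟨M, x, y, e, f⟩ := H13.Md.md hG hJ
  obtain ⟨t, R, N, xs, rN, nr⟩ := f.tri _ (o3 f)
  have ht : Tt x y e t := ⟨R, N, xs, rN, nr⟩
  rcases al f (LeadQs.qs f) ht with h | h | h
  · exact absurd h (H20.Nt4.nt f ht)
  · exact fromA h12 f ht h
  · obtain ⟨M', x', y', f', ht', h'⟩ := LeadTw.tw (fun x y h1 h2 h3 h4 h5 h6 h7 eg he s2 cm hx hy hc => LeadHom.hom h1 h2 h3 h4 h5 h6 h7 eg he s2 cm hx hy hc) f ht h
    exact fromA h12 f' ht' h'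

end LeadUq
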