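import Cfsg.Agent.Lead.Uq4
import Cfsg.Agent.H22.Al
import Cfsg.Agent.H25.H12

set_option autoImplicit false
open Cfsg

universe u

namespace LeadUq

/-- a finite non-abelian simple group of Janko-four type is isomorphic to `J₄` -/
theorem uniq {G : Type u} [Group G] [Finite G] [IsSimpleGroup G] (hG : ¬ IsMulCommutative G) (hJ : IsOfJankoFourType G) :
    Nonempty (G ≃* Spor.J4) :=
  uniq' (fun f q ht => H22.Al.al f q ht) (fun f ht g h11 he => H25.H12.h12 f ht g h11 he) hG hJ

end LeadUq
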